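import Cfsg.Agent.Lib.Components.GenFitting
import Cfsg.Agent.Lib.Solvable.Core

/-!
Subnormal subgroups of the generalized Fitting subgroup; components of conjugate subgroups.
-/

set_option autoImplicit false
set_option linter.style.haveILetI false

namespace CfsgLib.GenFittingSub

open Subgroup CfsgLib.Components

variable {G : Type*} [Group G]

/-- An element of the join of two elementwise commuting subgroups is a product. -/
theorem exists_mul_of_mem_sup_of_commute {A B : Subgroup G} (h : ⁅A, B⁆ = ⊥) {g : G}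
    (hg : g ∈ A ⊔ B) : ∃ a ∈ A, ∃ b ∈ B, a * b = g := by
  have hle : A ≤ normalizer (B : Set G) := le_normalizer_of_commutator_eq_bot h
  haveI : (B.subgroupOf (A ⊔ B)).Normal :=
    (normal_subgroupOf_iff_le_normalizer le_sup_right).mpr (sup_le hle le_normalizer)
  have h1 : (⟨g, hg⟩ : ↥(A ⊔ B)) ∈
      ((A.subgroupOf (A ⊔ B) ⊔ B.subgroupOf (A ⊔ B) : Subgroup ↥(A ⊔ B)) : Set ↥(A ⊔ B)) := by
    rw [← subgroupOf_sup le_sup_left le_sup_right, subgroupOf_self]
    trivial
  rw [mul_normal] at h1
  obtain ⟨a, ha, b, hb, hab⟩ := h1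
  exact ⟨a, ha, b, hb, congrArg Subtype.val hab⟩

/-- `Z(E(G))`, seen in `G`, is `E(G) ⊓ C(E(G))`; it lies in `F(G)`. -/
theorem layer_inf_centralizer_le_fitting :
    Cfsg.layer G ⊓ centralizer (Cfsg.layer G : Set G) ≤ Cfsg.fittingSubgroup G := by
  refine le_fitting_of_normal inferInstance (isNilpotent_of_commutator_commutator ?_)
  have h : ⁅Cfsg.layer G ⊓ centralizer (Cfsg.layer G : Set G),
      Cfsg.layer G ⊓ centralizer (Cfsg.layer G : Set G)⁆ = ⊥ :=
    commutator_eq_bot_iff_le_centralizer.mpr (inf_le_right.trans (centralizer_le inf_le_left))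
  rw [h, commutator_eq_bot_iff_le_centralizer]
  exact bot_le

/-- The centralizer of the layer in `F*(G)` is `F(G)`. -/
theorem genFitting_inf_centralizer_layer :
    Cfsg.generalizedFittingSubgroup G ⊓ centralizer (Cfsg.layer G : Set G) =
      Cfsg.fittingSubgroup G := by
  refine le_antisymm ?_ (le_inf fitting_le_genFitting (le_centralizer_of_commutator_eq_bot
    (by rw [commutator_comm]; exact layer_commutator_fitting)))
  rintro x ⟨hx, hxc⟩
  obtain ⟨e, he, f, hf, rfl⟩ := exists_mul_of_mem_sup_of_commute layer_commutator_fitting hx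
  have hfc : f ∈ centralizer (Cfsg.layer G : Set G) := le_centralizer_of_commutator_eq_bot
    (by rw [commutator_comm]; exact layer_commutator_fitting) hf
  exact mul_mem (layer_inf_centralizer_le_fitting ⟨he, (mul_mem_cancel_right hfc).mp hxc⟩) hf

/-- A subnormal subgroup of `F*(G)` is `(F(G) ⊓ S)` times the components inside it. -/
theorem subnormal_le_genFitting_eq {S : Subgroup G} (hS : S.IsSubnormal)
    (hle : S ≤ Cfsg.generalizedFittingSubgroup G) :
    S = sSup {K : Subgroup G | Cfsg.IsComponent K ∧ K ≤ S} ⊔ (Cfsg.fittingSubgroup G ⊓ S) := by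
  refine le_antisymm ?_ (sup_le (sSup_le fun K hK => hK.2) inf_le_right)
  set E1 := sSup {K : Subgroup G | Cfsg.IsComponent K ∧ K ≤ S} with hE1
  set E2 := sSup {K : Subgroup G | Cfsg.IsComponent K ∧ ¬ K ≤ S} with hE2
  have hE2S : E2 ≤ centralizer (S : Set G) := sSup_le fun K hK =>
    le_centralizer_of_commutator_eq_bot ((component_le_or_commutator hK.1 hS).resolve_left hK.2)
  have hE12 : Cfsg.layer G ≤ E1 ⊔ E2 := sSup_le fun K hK => by
    by_cases h : K ≤ S
    · exact (show K ≤ E1 from le_sSup ⟨hK, h⟩).trans le_sup_left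
    · exact (show K ≤ E2 from le_sSup ⟨hK, h⟩).trans le_sup_right
  have hE1L : E1 ≤ Cfsg.layer G := sSup_le fun K hK => component_le_layer hK.1
  have hE1S : E1 ≤ S := sSup_le fun K hK => hK.2
  have hc : ⁅E1, E2 ⊔ Cfsg.fittingSubgroup G⁆ = ⊥ := by
    rw [commutator_comm, commutator_eq_bot_iff_le_centralizer]
    refine sup_le (hE2S.trans (centralizer_le hE1S)) ?_
    refine (le_centralizer_of_commutator_eq_bot ?_).trans (centralizer_le hE1L)
    rw [commutator_comm]; exact layer_commutator_fitting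
  intro s hs
  have hs' : s ∈ E1 ⊔ (E2 ⊔ Cfsg.fittingSubgroup G) :=
    (sup_le (hE12.trans (sup_le le_sup_left (le_sup_left.trans le_sup_right)))
      (le_sup_right.trans le_sup_right) :
      Cfsg.generalizedFittingSubgroup G ≤ _) (hle hs)
  obtain ⟨e, he, y, hy, rfl⟩ := exists_mul_of_mem_sup_of_commute hc hs'
  have hyS : y ∈ S := (mul_mem_cancel_left (hE1S he)).mp hs
  refine mul_mem_sup he ⟨?_, hyS⟩
  rw [← genFitting_inf_centralizer_layer]
  refine ⟨hle hyS, ?_⟩
  have h1 : y ∈ centralizer (E1 : Set G) :=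
    le_centralizer_of_commutator_eq_bot (by rw [commutator_comm]; exact hc) hy
  have h2 : y ∈ centralizer (E2 : Set G) := le_centralizer_iff.mp hE2S hyS
  apply mem_centralizer_iff.mpr
  intro l hl
  have hle' : E1 ⊔ E2 ≤ centralizer ({y} : Set G) := sup_le
    (fun m hm => mem_centralizer_singleton_iff.mpr (mem_centralizer_iff.mp h1 m hm))
    (fun m hm => mem_centralizer_singleton_iff.mpr (mem_centralizer_iff.mp h2 m hm))
  exact mem_centralizer_singleton_iff.mp (hle' (hE12 hl))

variable [Finite G]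

/-- `F(S) = F(G) ⊓ S` for a subnormal subgroup `S`. -/
theorem map_fitting_of_subnormal {S : Subgroup G} (hS : S.IsSubnormal) :
    (Cfsg.fittingSubgroup ↥S).map S.subtype = Cfsg.fittingSubgroup G ⊓ S := by
  haveI : Group.IsNilpotent ↥(Cfsg.fittingSubgroup G) :=
    CfsgLib.Solvable.fittingSubgroup_isNilpotent G
  haveI : Group.IsNilpotent ↥(Cfsg.fittingSubgroup ↥S) :=
    CfsgLib.Solvable.fittingSubgroup_isNilpotent ↥S
  refine le_antisymm (le_inf ?_ (map_subtype_le _)) ?_
  · exact le_fitting_of_isSubnormal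
      ((Subgroup.Normal.isSubnormal (H := Cfsg.fittingSubgroup ↥S) inferInstance).trans' hS)
      (Group.nilpotent_of_mulEquiv ((Cfsg.fittingSubgroup ↥S).equivMapOfInjective _
        S.subtype_injective))
  · let f : ↥((Cfsg.fittingSubgroup G).subgroupOf S) →* ↥(Cfsg.fittingSubgroup G) :=
      { toFun := fun x => ⟨((x : ↥S) : G), mem_subgroupOf.mp x.2⟩
        map_one' := rfl
        map_mul' := fun _ _ => rfl }
    have hf : Function.Injective f := fun a b hab =>
      Subtype.ext (Subtype.ext (show ((a : ↥S) : G) = ((b : ↥S) : G) from congrArg (fun z : ↥(Cfsg.fittingSubgroup G) => (z : G)) hab))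
    have h : (Cfsg.fittingSubgroup G).subgroupOf S ≤ Cfsg.fittingSubgroup ↥S :=
      le_fitting_of_normal inferInstance (Subgroup.isNilpotent_of_ker_le_center f
        (le_trans (le_of_eq ((MonoidHom.ker_eq_bot_iff f).mpr hf)) bot_le))
    rintro x ⟨hxF, hxS⟩
    exact ⟨⟨x, hxS⟩, h (mem_subgroupOf.mpr hxF), rfl⟩

/-- `F*(S) = S` for a subnormal subgroup `S` of `F*(G)`. -/
theorem genFitting_eq_top_of_subnormal_le {S : Subgroup G} (hS : S.IsSubnormal)
    (hle : S ≤ Cfsg.generalizedFittingSubgroup G) :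
    Cfsg.generalizedFittingSubgroup ↥S = ⊤ := by
  apply map_injective S.subtype_injective
  rw [Cfsg.generalizedFittingSubgroup, Subgroup.map_sup, layer_subnormal_eq hS,
    map_fitting_of_subnormal hS, ← MonoidHom.range_eq_map, range_subtype]
  exact (subnormal_le_genFitting_eq hS hle).symm

/-- `F*(G) ⊓ B = F*(B)` for a normal subgroup `B`. -/
theorem map_genFitting_of_normal (B : Subgroup G) [B.Normal] :
    (Cfsg.generalizedFittingSubgroup ↥B).map B.subtype =
      Cfsg.generalizedFittingSubgroup G ⊓ B := by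
  have hB : B.IsSubnormal := Subgroup.Normal.isSubnormal inferInstance
  rw [Cfsg.generalizedFittingSubgroup, Subgroup.map_sup, layer_subnormal_eq hB,
    map_fitting_of_subnormal hB]
  refine le_antisymm (le_inf (sup_le ?_ (inf_le_left.trans fitting_le_genFitting))
    (sup_le (sSup_le fun K hK => hK.2) inf_le_right)) ?_
  · exact sSup_le fun K hK => component_le_genFitting hK.1
  · rw [subnormal_le_genFitting_eq (S := Cfsg.generalizedFittingSubgroup G ⊓ B)
      (Subgroup.Normal.isSubnormal inferInstance) inf_le_left]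
    exact sup_le_sup (sSup_le_sSup fun K hK => ⟨hK.1, hK.2.trans inf_le_right⟩)
      (inf_le_inf le_rfl inf_le_right)

/-! ### Components of conjugate subgroups -/

omit [Finite G] in
/-- Conjugation carries a component of `H` to a component of the conjugate of `H`. -/
theorem component_subgroupOf_conj {L H : Subgroup G} (g : G)
    (hL : Cfsg.IsComponent (L.subgroupOf H)) :
    Cfsg.IsComponent ((L.map (MulAut.conj g).toMonoidHom).subgroupOf
      (H.map (MulAut.conj g).toMonoidHom)) := by
  have h := component_map_equiv (H.equivMapOfInjective (MulAut.conj g).toMonoidHom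
    (MulAut.conj g).injective) hL
  convert h using 1
  ext x
  constructor
  · intro hx
    obtain ⟨l, hl, hlx⟩ := mem_subgroupOf.mp hx
    obtain ⟨h', hh', hhx⟩ := x.2
    have hlh : l = h' := (MulAut.conj g).injective (hlx.trans hhx.symm)
    exact ⟨⟨l, hlh ▸ hh'⟩, mem_subgroupOf.mpr hl, Subtype.ext hlx⟩
  · rintro ⟨y, hy, rfl⟩
    exact mem_subgroupOf.mpr ⟨y, mem_subgroupOf.mp hy, rfl⟩

omit [Finite G] in
theorem map_conj_centralizer (g : G) (S : Set G) :
    (centralizer S).map (MulAut.conj g).toMonoidHom = centralizer (MulAut.conj g '' S) := by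
  ext x
  rw [mem_map_conj, mem_centralizer_iff, mem_centralizer_iff]
  constructor
  · rintro h _ ⟨s, hs, rfl⟩
    have h1 := h s hs
    show g * s * g⁻¹ * x = x * (g * s * g⁻¹)
    calc g * s * g⁻¹ * x = g * (s * (g⁻¹ * x * g)) * g⁻¹ := by
          simp only [mul_assoc, mul_inv_cancel, mul_one]
      _ = g * ((g⁻¹ * x * g) * s) * g⁻¹ := by rw [h1]
      _ = x * (g * s * g⁻¹) := by simp only [mul_assoc, mul_inv_cancel_left]
  · intro h s hs
    have h1 : g * s * g⁻¹ * x = x * (g * s * g⁻¹) := h _ ⟨s, hs, rfl⟩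
    calc s * (g⁻¹ * x * g) = g⁻¹ * (g * s * g⁻¹ * x) * g := by
          simp only [mul_assoc, inv_mul_cancel_left]
      _ = g⁻¹ * (x * (g * s * g⁻¹)) * g := by rw [h1]
      _ = (g⁻¹ * x * g) * s := by simp only [mul_assoc, inv_mul_cancel, mul_one]

end CfsgLib.GenFittingSub
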