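import Cfsg.Prelude.Def_Local

/-!
Subnormal subgroups of finite groups and the cores `O_p`, `O_{p'}`, `F`.
-/

set_option autoImplicit false
set_option linter.style.haveILetI false

namespace CfsgLib.Components

open Subgroup

variable {G : Type*} [Group G]

/-- The image under conjugation by an element normalizing it is the subgroup itself. -/
theorem map_conj_eq_of_mem_normalizer {H : Subgroup G} {g : G}
    (h : g ∈ normalizer (H : Set G)) : H.map (MulAut.conj g).toMonoidHom = H :=
  mem_normalizer_iff_map_conj_eq.mp h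

theorem mem_map_conj {H : Subgroup G} {g x : G} :
    x ∈ H.map (MulAut.conj g).toMonoidHom ↔ g⁻¹ * x * g ∈ H := by
  constructor
  · rintro ⟨y, hy, rfl⟩
    simpa [mul_assoc] using hy
  · intro h
    exact ⟨g⁻¹ * x * g, h, by simp [mul_assoc]⟩

theorem isSubnormal_map_mulEquiv {G' : Type*} [Group G'] (e : G ≃* G') {H : Subgroup G}
    (h : H.IsSubnormal) : (H.map e.toMonoidHom).IsSubnormal :=
  h.map e.surjective

theorem isSubnormal_map_conj {H : Subgroup G} (h : H.IsSubnormal) (g : G) :
    (H.map (MulAut.conj g).toMonoidHom).IsSubnormal :=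
  h.map (MulAut.conj g).surjective

theorem isSubnormal_of_map_subtype {K : Subgroup G} {H : Subgroup K}
    (h : (H.map K.subtype).IsSubnormal) : H.IsSubnormal := by
  have h' : ((H.map K.subtype).subgroupOf K).IsSubnormal := h.subgroupOf
  rwa [show (H.map K.subtype).subgroupOf K = H from
    comap_map_eq_self_of_injective K.subtype_injective H] at h'

/-- A subgroup normal in a subnormal subgroup is subnormal. -/
theorem isSubnormal_of_le_normalizer {H K : Subgroup G} (hHK : H ≤ K)
    (hn : K ≤ normalizer (H : Set G)) (hK : K.IsSubnormal) : H.IsSubnormal :=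
  IsSubnormal.step H K hHK hK ((normal_subgroupOf_iff_le_normalizer hHK).mpr hn)

theorem normal_of_map_conj_le {H : Subgroup G}
    (h : ∀ g : G, H.map (MulAut.conj g).toMonoidHom ≤ H) : H.Normal :=
  ⟨fun n hn g => h g ⟨n, hn, rfl⟩⟩

/-- The join of a conjugation invariant family of subgroups is normal. -/
theorem normal_sSup_of_conj {S : Set (Subgroup G)}
    (h : ∀ g : G, ∀ N ∈ S, N.map (MulAut.conj g).toMonoidHom ∈ S) : (sSup S).Normal := by
  refine normal_of_map_conj_le fun g => ?_
  rw [map_le_iff_le_comap]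
  refine sSup_le fun N hN => ?_
  rw [← map_le_iff_le_comap]
  exact le_sSup (h g N hN)

/-! ### The order of a product -/

/-- If `A` normalizes `B` then the order of `A ⊔ B` divides the product of the orders. -/
theorem card_sup_dvd {A B : Subgroup G} (h : A ≤ normalizer (B : Set G)) :
    Nat.card ↥(A ⊔ B) ∣ Nat.card A * Nat.card B := by
  have : (B.subgroupOf (A ⊔ B)).Normal :=
    (normal_subgroupOf_iff_le_normalizer le_sup_right).mpr (sup_le h le_normalizer)
  have hsup : A.subgroupOf (A ⊔ B) ⊔ B.subgroupOf (A ⊔ B) = ⊤ := by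
    rw [← subgroupOf_sup le_sup_left le_sup_right, subgroupOf_self]
  have h1 := relIndex_sup_right (A.subgroupOf (A ⊔ B)) (B.subgroupOf (A ⊔ B))
  rw [hsup, relIndex_top_right] at h1
  have h2 : (B.subgroupOf (A ⊔ B)).index ∣ Nat.card A := by
    rw [h1, ← Nat.card_congr (subgroupOfEquivOfLe (le_sup_left : A ≤ A ⊔ B)).toEquiv]
    exact Subgroup.index_dvd_card _
  have h3 : Nat.card B * (B.subgroupOf (A ⊔ B)).index = Nat.card ↥(A ⊔ B) := by
    rw [← Nat.card_congr (subgroupOfEquivOfLe (le_sup_right : B ≤ A ⊔ B)).toEquiv, card_mul_index]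
  rw [← h3, mul_comm (Nat.card A)]
  exact Nat.mul_dvd_mul_left _ h2

theorem isPGroup_sup {p : ℕ} {A B : Subgroup G} (hA : IsPGroup p A) (hB : IsPGroup p B)
    (h : A ≤ normalizer (B : Set G)) : IsPGroup p ↥(A ⊔ B) :=
  hA.to_sup_of_normal_right' hB h

theorem coprime_card_sup {p : ℕ} {A B : Subgroup G} (hA : (Nat.card A).Coprime p)
    (hB : (Nat.card B).Coprime p) (h : A ≤ normalizer (B : Set G)) :
    (Nat.card ↥(A ⊔ B)).Coprime p :=
  Nat.Coprime.coprime_dvd_left (card_sup_dvd h) (hA.mul_left hB)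

theorem isSolvable_sup {A B : Subgroup G} (hA : Group.IsSolvable A) (hB : Group.IsSolvable B)
    (h : A ≤ normalizer (B : Set G)) : Group.IsSolvable ↥(A ⊔ B) := by
  have : (B.subgroupOf (A ⊔ B)).Normal :=
    (normal_subgroupOf_iff_le_normalizer le_sup_right).mpr (sup_le h le_normalizer)
  have hsup : A.subgroupOf (A ⊔ B) ⊔ B.subgroupOf (A ⊔ B) = ⊤ := by
    rw [← subgroupOf_sup le_sup_left le_sup_right, subgroupOf_self]
  haveI : Group.IsSolvable ↥(B.subgroupOf (A ⊔ B)) :=
    Group.isSolvable_of_surjective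
      (f := (subgroupOfEquivOfLe (le_sup_right : B ≤ A ⊔ B)).symm.toMonoidHom)
      (MulEquiv.surjective _)
  haveI : Group.IsSolvable (↥(A ⊔ B) ⧸ B.subgroupOf (A ⊔ B)) := by
    refine Group.isSolvable_of_surjective
      (f := (QuotientGroup.mk' (B.subgroupOf (A ⊔ B))).comp (inclusion le_sup_left)) ?_
    rw [← MonoidHom.range_eq_top]
    have hr : (inclusion (le_sup_left : A ≤ A ⊔ B)).range = A.subgroupOf (A ⊔ B) :=
      inclusion_range le_sup_left
    have : (A.subgroupOf (A ⊔ B) ⊔ B.subgroupOf (A ⊔ B)).map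
        (QuotientGroup.mk' (B.subgroupOf (A ⊔ B))) = ⊤ := by
      rw [hsup, map_top_of_surjective _ (QuotientGroup.mk'_surjective _)]
    rw [Subgroup.map_sup, QuotientGroup.map_mk'_self, sup_bot_eq] at this
    rw [MonoidHom.range_comp, hr, this]
  exact (Group.isSolvable_iff_subgroup_quotient (B.subgroupOf (A ⊔ B))).mpr ⟨inferInstance, inferInstance⟩

/-! ### A subnormal subgroup with a join-closed property lies in a normal one -/

/-- If a property of subgroups is invariant under conjugation and closed under the join of two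
mutually normalizing subgroups, then a subnormal subgroup with the property lies in a normal one. -/
theorem exists_normal_le_of_isSubnormal [Finite G] (P : Subgroup G → Prop)
    (hconj : ∀ (g : G) (N : Subgroup G), P N → P (N.map (MulAut.conj g).toMonoidHom))
    (hsup : ∀ A B : Subgroup G, P A → P B → A ≤ normalizer (B : Set G) →
      B ≤ normalizer (A : Set G) → P (A ⊔ B))
    {H : Subgroup G} (hH : H.IsSubnormal) (hP : P H) :
    ∃ N : Subgroup G, N.Normal ∧ P N ∧ H ≤ N := by
  suffices key : ∀ K : Subgroup G, K.IsSubnormal → ∀ A : Subgroup G, A ≤ K →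
      K ≤ normalizer (A : Set G) → P A → ∃ N : Subgroup G, N.Normal ∧ P N ∧ A ≤ N from
    key H hH H le_rfl le_normalizer hP
  intro K hK
  induction hK with
  | top =>
    intro A _ hn hA
    exact ⟨A, normalizer_eq_top_iff.mp (top_le_iff.mp hn), hA, le_rfl⟩
  | step K L hKL hL hN ih =>
    intro A hAK hKA hA
    obtain ⟨M, hAM, hM⟩ :=
      Set.Finite.exists_le_maximal (Set.toFinite {B : Subgroup G | P B ∧ B ≤ K ∧ K ≤ normalizer (B : Set G)})
        (a := A) ⟨hA, hAK, hKA⟩
    obtain ⟨hMP, hMK, hKM⟩ := hM.prop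
    have hLK : L ≤ normalizer (K : Set G) := (normal_subgroupOf_iff_le_normalizer hKL).mp hN
    have hLM : L ≤ normalizer (M : Set G) := by
      rw [le_normalizer_iff]
      intro g hg
      have hgK : K.map (MulAut.conj g).toMonoidHom = K := map_conj_eq_of_mem_normalizer (hLK hg)
      set M' := M.map (MulAut.conj g).toMonoidHom with hM'
      have hM'K : M' ≤ K := hgK ▸ map_mono hMK
      have hKM' : K ≤ normalizer (M' : Set G) :=
        hgK ▸ (map_mono hKM).trans (le_normalizer_map _)
      have hmem : P (M ⊔ M') ∧ M ⊔ M' ≤ K ∧ K ≤ normalizer ((M ⊔ M' : Subgroup G) : Set G) :=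
        ⟨hsup _ _ hMP (hconj g M hMP) (hMK.trans hKM') (hM'K.trans hKM), sup_le hMK hM'K,
          (le_inf hKM hKM').trans (normalizer_inf_normalizer_le_normalizer_sup M M')⟩
      have hle : M ⊔ M' ≤ M := hM.le_of_ge hmem le_sup_left
      intro k hk
      exact hle (le_sup_right (α := Subgroup G) ⟨k, hk, rfl⟩)
    obtain ⟨N, hN', hPN, hMN⟩ := ih M (hMK.trans hKL) hLM hMP
    exact ⟨N, hN', hPN, hAM.trans hMN⟩

/-- The join of all normal subgroups with a join-closed property has the property. -/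
theorem prop_sSup_normal [Finite G] (P : Subgroup G → Prop) (hbot : P ⊥)
    (hsup : ∀ A B : Subgroup G, P A → P B → A ≤ normalizer (B : Set G) →
      B ≤ normalizer (A : Set G) → P (A ⊔ B)) :
    P (sSup {N : Subgroup G | N.Normal ∧ P N}) := by
  obtain ⟨M, -, hM⟩ :=
    Set.Finite.exists_le_maximal (Set.toFinite {N : Subgroup G | N.Normal ∧ P N})
      (a := ⊥) ⟨inferInstance, hbot⟩
  obtain ⟨hMn, hMP⟩ := hM.prop
  suffices sSup {N : Subgroup G | N.Normal ∧ P N} = M by rw [this]; exact hMP
  refine le_antisymm (sSup_le ?_) (le_sSup hM.prop)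
  rintro N ⟨hNn, hNP⟩
  haveI := hNn
  haveI := hMn
  exact le_sup_right.trans
    (hM.le_of_ge ⟨inferInstance, hsup M N hMP hNP le_normalizer_of_normal le_normalizer_of_normal⟩
      le_sup_left)

/-! ### The cores -/

theorem le_pCore_of_normal {p : ℕ} {N : Subgroup G} (hn : N.Normal) (hp : IsPGroup p N) :
    N ≤ Cfsg.pCore p G :=
  le_sSup ⟨hn, hp⟩

theorem le_pPrimeCore_of_normal {p : ℕ} {N : Subgroup G} (hn : N.Normal)
    (hp : (Nat.card N).Coprime p) : N ≤ Cfsg.pPrimeCore p G :=
  le_sSup ⟨hn, hp⟩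

theorem le_fitting_of_normal {N : Subgroup G} (hn : N.Normal) (hnil : Group.IsNilpotent N) :
    N ≤ Cfsg.fittingSubgroup G :=
  le_sSup ⟨hn, hnil⟩

instance fittingSubgroup_normal_inst : (Cfsg.fittingSubgroup G).Normal :=
  Subgroup.sSup_normal _ fun _ h => h.1

theorem isPGroup_pCore [Finite G] (p : ℕ) : IsPGroup p ↥(Cfsg.pCore p G) :=
  prop_sSup_normal (fun N => IsPGroup p N) IsPGroup.of_bot fun _ _ hA hB h _ => isPGroup_sup hA hB h

theorem coprime_card_pPrimeCore [Finite G] (p : ℕ) :
    (Nat.card ↥(Cfsg.pPrimeCore p G)).Coprime p :=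
  prop_sSup_normal (fun N => (Nat.card N).Coprime p) (by simp)
    fun _ _ hA hB h _ => coprime_card_sup hA hB h

theorem le_pCore_of_isSubnormal [Finite G] {p : ℕ} {H : Subgroup G} (hH : H.IsSubnormal)
    (hp : IsPGroup p H) : H ≤ Cfsg.pCore p G := by
  obtain ⟨N, hn, hNp, hle⟩ := exists_normal_le_of_isSubnormal (fun N => IsPGroup p N)
    (fun g N h => h.map _) (fun _ _ hA hB h _ => isPGroup_sup hA hB h) hH hp
  exact hle.trans (le_pCore_of_normal hn hNp)

theorem card_map_conj (g : G) (N : Subgroup G) :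
    Nat.card ↥(N.map (MulAut.conj g).toMonoidHom) = Nat.card N :=
  card_map_of_injective (MulAut.conj g).injective

theorem le_pPrimeCore_of_isSubnormal [Finite G] {p : ℕ} {H : Subgroup G} (hH : H.IsSubnormal)
    (hp : (Nat.card H).Coprime p) : H ≤ Cfsg.pPrimeCore p G := by
  obtain ⟨N, hn, hNp, hle⟩ := exists_normal_le_of_isSubnormal (fun N => (Nat.card N).Coprime p)
    (fun g N h => by rw [card_map_conj]; exact h)
    (fun _ _ hA hB h _ => coprime_card_sup hA hB h) hH hp
  exact hle.trans (le_pPrimeCore_of_normal hn hNp)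

/-- A solvable subnormal subgroup lies in a solvable normal one; here also inside a given normal
subgroup. -/
theorem exists_normal_solvable_of_isSubnormal [Finite G] {H M : Subgroup G} (hH : H.IsSubnormal)
    (hs : Group.IsSolvable H) [M.Normal] (hHM : H ≤ M) :
    ∃ N : Subgroup G, N.Normal ∧ Group.IsSolvable N ∧ H ≤ N ∧ N ≤ M := by
  obtain ⟨N, hn, ⟨hNs, hNM⟩, hle⟩ := exists_normal_le_of_isSubnormal
    (fun N => Group.IsSolvable ↥N ∧ N ≤ M)
    (fun g N h => ⟨haveI := h.1; Group.isSolvable_of_surjective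
        (MonoidHom.subgroupMap_surjective (MulAut.conj g).toMonoidHom N),
      (map_mono h.2).trans (le_of_eq (map_conj_eq_of_mem_normalizer
        (by rw [normalizer_eq_top]; trivial)))⟩)
    (fun _ _ hA hB h _ => ⟨isSolvable_sup hA.1 hB.1 h, sup_le hA.2 hB.2⟩) hH ⟨hs, hHM⟩
  exact ⟨N, hn, hNs, hle, hNM⟩

theorem pCore_le_fitting [Finite G] (p : ℕ) [Fact p.Prime] :
    Cfsg.pCore p G ≤ Cfsg.fittingSubgroup G :=
  le_fitting_of_normal inferInstance (isPGroup_pCore p).isNilpotent

/-- A subnormal nilpotent subgroup lies in any subgroup containing all the `O_p(G)`. -/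
theorem le_of_pCore_le_of_isSubnormal [Finite G] {H S : Subgroup G} (hH : H.IsSubnormal)
    (hnil : Group.IsNilpotent H) (hS : ∀ p : ℕ, p.Prime → Cfsg.pCore p G ≤ S) : H ≤ S := by
  haveI := hnil
  have hdvd : Nat.card H ∣ Nat.card ↥(S.subgroupOf H) := by
    refine (Nat.dvd_iff_prime_pow_dvd_dvd _ _).mpr fun p k hp hk => ?_
    haveI := Fact.mk hp
    obtain ⟨P⟩ : Nonempty (Sylow p H) := inferInstance
    have hsn : ((P : Subgroup H).map H.subtype).IsSubnormal :=
      (Subgroup.Normal.isSubnormal inferInstance).trans' hH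
    have hle : (P : Subgroup H) ≤ S.subgroupOf H := by
      intro x hx
      exact hS p hp (le_pCore_of_isSubnormal hsn (P.isPGroup'.map _) ⟨x, hx, rfl⟩)
    exact (pow_dvd_pow p ((hp.pow_dvd_iff_le_factorization Nat.card_pos.ne').mp hk)).trans
      (by rw [← P.card_eq_multiplicity]; exact card_dvd_of_le hle)
  have htop : S.subgroupOf H = ⊤ :=
    eq_top_of_card_eq _ (Nat.dvd_antisymm (card_subgroup_dvd_card _) hdvd)
  exact subgroupOf_eq_top.mp htop

theorem le_fitting_of_isSubnormal [Finite G] {H : Subgroup G} (hH : H.IsSubnormal)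
    (hnil : Group.IsNilpotent H) : H ≤ Cfsg.fittingSubgroup G :=
  le_of_pCore_le_of_isSubnormal hH hnil fun p hp => by
    haveI := Fact.mk hp
    exact pCore_le_fitting p

/-- `F(G)` lies in any subgroup containing all the `O_p(G)`. -/
theorem fitting_le_of_pCore_le [Finite G] {S : Subgroup G}
    (hS : ∀ p : ℕ, p.Prime → Cfsg.pCore p G ≤ S) : Cfsg.fittingSubgroup G ≤ S :=
  sSup_le fun _ hN => le_of_pCore_le_of_isSubnormal hN.1.isSubnormal hN.2 hS

theorem isSolvable_fitting [Finite G] : Group.IsSolvable ↥(Cfsg.fittingSubgroup G) := by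
  have hle : Cfsg.fittingSubgroup G ≤
      sSup {N : Subgroup G | N.Normal ∧ Group.IsSolvable N} :=
    sSup_le fun N hN => le_sSup ⟨hN.1, haveI := hN.2; inferInstance⟩
  haveI : Group.IsSolvable ↥(sSup {N : Subgroup G | N.Normal ∧ Group.IsSolvable N}) :=
    prop_sSup_normal (fun N => Group.IsSolvable ↥N) inferInstance
      fun _ _ hA hB h _ => isSolvable_sup hA hB h
  exact Group.isSolvable_of_isSolvable_injective (inclusion_injective hle)

end CfsgLib.Components
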