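import Cfsg.Prelude.Def_Local
import Cfsg.Agent.Lib.Components.Subnormal

/-!
Quasisimple groups.
-/

set_option autoImplicit false
set_option linter.style.haveILetI false

namespace CfsgLib.Components

open Subgroup
open scoped commutatorElement

variable {G : Type*} [Group G]

/-- Central factors do not change a commutator. -/
theorem commutatorElement_mul_central {d e z w : G} (hz : z ∈ center G) (hw : w ∈ center G) :
    ⁅d * z, e * w⁆ = ⁅d, e⁆ := by
  have h1 : ⁅z, e * w⁆ = 1 :=
    commutatorElement_eq_one_iff_mul_comm.mpr (mem_center_iff.mp hz _).symm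
  have h2 : ⁅d, w⁆ = 1 := commutatorElement_eq_one_iff_mul_comm.mpr (mem_center_iff.mp hw _)
  rw [commutatorElement_mul_left_eq_conj_mul, h1, commutatorElement_mul_right_eq_mul_conj, h2]
  simp

/-- A normal subgroup `N` of a perfect group with abelian quotient modulo `N` is everything. -/
theorem eq_top_of_sup_center_eq_top [Group.IsPerfect G] {N : Subgroup G} (hN : N.Normal)
    (h : N ⊔ center G = ⊤) : N = ⊤ := by
  haveI := hN
  have hperf : commutator G = ⊤ := Group.IsPerfect.commutator_eq_top
  rw [eq_top_iff, ← hperf, commutator_def, commutator_le]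
  intro a _ b _
  have ha : a ∈ ((N ⊔ center G : Subgroup G) : Set G) := by rw [h]; trivial
  have hb : b ∈ ((N ⊔ center G : Subgroup G) : Set G) := by rw [h]; trivial
  rw [normal_mul] at ha hb
  obtain ⟨n, hn, z, hz, rfl⟩ := ha
  obtain ⟨m, hm, w, hw, rfl⟩ := hb
  beta_reduce
  rw [commutatorElement_mul_central hz hw, commutatorElement_def]
  exact N.mul_mem (N.mul_mem (N.mul_mem hn hm) (N.inv_mem hn)) (N.inv_mem hm)

theorem center_ne_top [Group.IsPerfect G] [Nontrivial G] : center G ≠ ⊤ := by
  intro h
  haveI : IsMulCommutative G := (_root_.commutator_eq_bot_iff _).mp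
    ((_root_.commutator_eq_bot_iff_center_eq_top G).mpr h)
  exact Group.IsPerfect.not_isMulCommutative G inferInstance

end CfsgLib.Components

namespace CfsgLib.Components

open Subgroup
open scoped commutatorElement

variable {G : Type*} [Group G]

theorem quasisimple_isPerfect (h : Cfsg.IsQuasisimple G) : Group.IsPerfect G := h.1

theorem quasisimple_nontrivial (h : Cfsg.IsQuasisimple G) : Nontrivial G := by
  haveI := h.2
  haveI : Nontrivial (G ⧸ center G) := IsSimpleGroup.toNontrivial
  exact Function.Surjective.nontrivial (QuotientGroup.mk'_surjective (center G))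

/-- In a quasisimple group every normal subgroup is everything or central. -/
theorem quasisimple_normal_top_or_central (h : Cfsg.IsQuasisimple G) {N : Subgroup G}
    (hN : N.Normal) : N = ⊤ ∨ N ≤ center G := by
  haveI := h.1
  haveI := h.2
  rcases (hN.map (QuotientGroup.mk' (center G))
    (QuotientGroup.mk'_surjective _)).eq_bot_or_eq_top with hb | ht
  · right
    rwa [Subgroup.map_eq_bot_iff, QuotientGroup.ker_mk'] at hb
  · left
    refine eq_top_of_sup_center_eq_top hN ?_
    have := congrArg (comap (QuotientGroup.mk' (center G))) ht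
    rwa [comap_map_eq, QuotientGroup.ker_mk', comap_top] at this

/-- In a quasisimple group every subnormal subgroup is everything or central. -/
theorem quasisimple_subnormal_top_or_central (h : Cfsg.IsQuasisimple G) {H : Subgroup G}
    (hH : H.IsSubnormal) : H = ⊤ ∨ H ≤ center G := by
  rcases hH.lt_normal with h1 | ⟨N, hN, hle, hlt⟩
  · exact Or.inl h1
  · rcases quasisimple_normal_top_or_central h hN with h2 | h2
    · exact absurd h2 hlt.ne
    · exact Or.inr (hle.trans h2)

theorem isQuasisimple_of (hperf : Group.IsPerfect G) (hnt : Nontrivial G)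
    (hN : ∀ N : Subgroup G, N.Normal → N = ⊤ ∨ N ≤ center G) : Cfsg.IsQuasisimple G := by
  haveI := hperf
  haveI := hnt
  refine ⟨hperf, ?_⟩
  haveI : Nontrivial (G ⧸ center G) := QuotientGroup.nontrivial_iff.mpr center_ne_top
  refine ⟨fun M hM => ?_⟩
  rcases hN (M.comap (QuotientGroup.mk' (center G))) (hM.comap _) with h | h
  · right
    rw [← map_comap_eq_self_of_surjective (QuotientGroup.mk'_surjective (center G)) M, h,
      map_top_of_surjective _ (QuotientGroup.mk'_surjective _)]
  · left
    rw [← map_comap_eq_self_of_surjective (QuotientGroup.mk'_surjective (center G)) M,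
      Subgroup.map_eq_bot_iff, QuotientGroup.ker_mk']
    exact h

theorem isQuasisimple_iff : Cfsg.IsQuasisimple G ↔
    Group.IsPerfect G ∧ Nontrivial G ∧ ∀ N : Subgroup G, N.Normal → N = ⊤ ∨ N ≤ center G :=
  ⟨fun h => ⟨h.1, quasisimple_nontrivial h, fun _ hN => quasisimple_normal_top_or_central h hN⟩,
    fun h => isQuasisimple_of h.1 h.2.1 h.2.2⟩

/-- A nontrivial homomorphic image of a quasisimple group is quasisimple. -/
theorem quasisimple_of_surjective {G' : Type*} [Group G'] (h : Cfsg.IsQuasisimple G)
    {f : G →* G'} (hf : Function.Surjective f) [Nontrivial G'] : Cfsg.IsQuasisimple G' := by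
  haveI := h.1
  refine isQuasisimple_of (Group.IsPerfect.ofSurjective hf) inferInstance fun M hM => ?_
  rcases quasisimple_normal_top_or_central h (hM.comap f) with h1 | h1
  · left
    rw [← map_comap_eq_self_of_surjective hf M, h1, map_top_of_surjective _ hf]
  · right
    intro y hy
    obtain ⟨x, rfl⟩ := hf y
    rw [mem_center_iff]
    intro z
    obtain ⟨w, rfl⟩ := hf z
    rw [← map_mul, ← map_mul, mem_center_iff.mp (h1 hy) w]

theorem quasisimple_congr {G' : Type*} [Group G'] (e : G ≃* G') :
    Cfsg.IsQuasisimple G ↔ Cfsg.IsQuasisimple G' := by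
  constructor
  · intro h
    haveI := quasisimple_nontrivial h
    haveI : Nontrivial G' := e.toEquiv.symm.nontrivial
    exact quasisimple_of_surjective h (f := e.toMonoidHom) e.surjective
  · intro h
    haveI := quasisimple_nontrivial h
    haveI : Nontrivial G := e.toEquiv.nontrivial
    exact quasisimple_of_surjective h (f := e.symm.toMonoidHom) e.symm.surjective

theorem quasisimple_not_isSolvable (h : Cfsg.IsQuasisimple G) : ¬ Group.IsSolvable G := by
  haveI := h.1
  haveI := quasisimple_nontrivial h
  exact Group.IsPerfect.not_isSolvable G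

theorem quasisimple_not_isMulCommutative (h : Cfsg.IsQuasisimple G) : ¬ IsMulCommutative G := by
  haveI := h.1
  haveI := quasisimple_nontrivial h
  exact Group.IsPerfect.not_isMulCommutative G

theorem isQuasisimple_of_isSimpleGroup [IsSimpleGroup G] (hna : ¬ IsMulCommutative G) :
    Cfsg.IsQuasisimple G := by
  refine isQuasisimple_of ⟨?_⟩ inferInstance fun N hN => ?_
  · rcases (inferInstance : (commutator G).Normal).eq_bot_or_eq_top with h | h
    · exact absurd ((_root_.commutator_eq_bot_iff _).mp h) hna
    · exact h
  · rcases hN.eq_bot_or_eq_top with h | h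
    · exact Or.inr (h ▸ bot_le)
    · exact Or.inl h

/-- If the central quotient of `G` is non-abelian simple then `G = G'Z(G)` and `G'` is quasisimple. -/
theorem commutator_quasisimple_of_central_quotient_simple
    (hs : IsSimpleGroup (G ⧸ center G)) (hna : ¬ IsMulCommutative (G ⧸ center G)) :
    commutator G ⊔ center G = ⊤ ∧ Cfsg.IsQuasisimple ↥(commutator G) := by
  have hsurj := QuotientGroup.mk'_surjective (center G)
  have htop : commutator G ⊔ center G = ⊤ := by
    rcases ((inferInstance : (commutator G).Normal).map _ hsurj).eq_bot_or_eq_top with hb | ht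
    · exfalso
      apply hna
      rw [← commutator_eq_bot_iff, ← hb, map_commutator_eq, MonoidHom.range_eq_top.mpr hsurj,
        commutator_def]
    · have := congrArg (comap (QuotientGroup.mk' (center G))) ht
      rwa [comap_map_eq, QuotientGroup.ker_mk', comap_top] at this
  refine ⟨htop, ?_⟩
  set D := commutator G with hD
  have hmem : ∀ g : G, ∃ d ∈ D, ∃ z ∈ center G, d * z = g := by
    intro g
    have hg : g ∈ ((D ⊔ center G : Subgroup G) : Set G) := by rw [htop]; trivial
    rw [normal_mul] at hg
    obtain ⟨d, hd, z, hz, rfl⟩ := hg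
    exact ⟨d, hd, z, hz, rfl⟩
  have hperf : ⁅D, D⁆ = D := by
    refine le_antisymm (commutator_le_self D) ?_
    conv_lhs => rw [hD, commutator_def]
    rw [commutator_le]
    intro a _ b _
    obtain ⟨d, hd, z, hz, rfl⟩ := hmem a
    obtain ⟨e, he, w, hw, rfl⟩ := hmem b
    rw [commutatorElement_mul_central hz hw]
    exact commutator_mem_commutator hd he
  refine isQuasisimple_of (isPerfect_iff.mpr hperf) ?_ fun M hM => ?_
  · rw [nontrivial_iff_ne_bot]
    intro hb
    apply hna
    have : center G = ⊤ := (_root_.commutator_eq_bot_iff_center_eq_top G).mp hb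
    haveI : Subsingleton (G ⧸ center G) := QuotientGroup.subsingleton_iff.mpr this
    exact ⟨⟨fun a b => Subsingleton.elim _ _⟩⟩
  · haveI := hM
    have hMn : (M.map D.subtype).Normal := by
      refine ⟨fun x hx g => ?_⟩
      obtain ⟨m, hm, rfl⟩ := hx
      obtain ⟨d, hd, z, hz, rfl⟩ := hmem g
      refine ⟨⟨d, hd⟩ * m * ⟨d, hd⟩⁻¹, hM.conj_mem m hm _, ?_⟩
      have := mem_center_iff.mp hz (D.subtype m)
      simp only [map_mul, map_inv, mul_inv_rev]
      rw [mul_assoc d z, ← this, mul_assoc d, mul_assoc (D.subtype m) z, mul_inv_cancel_left,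
        ← mul_assoc]
      rfl
    rcases (hMn.map (QuotientGroup.mk' (center G)) hsurj).eq_bot_or_eq_top with hb | ht
    · right
      intro m hm
      rw [Subgroup.map_eq_bot_iff, QuotientGroup.ker_mk'] at hb
      have hmc := mem_center_iff.mp (hb ⟨m, hm, rfl⟩)
      exact mem_center_iff.mpr fun x => Subtype.ext (hmc x)
    · left
      have htop' := congrArg (comap (QuotientGroup.mk' (center G))) ht
      rw [comap_map_eq, QuotientGroup.ker_mk', comap_top] at htop'
      haveI := hMn
      have hle : D ≤ M.map D.subtype :=
        Subgroup.Normal.commutator_le_of_self_sup_commutative_eq_top (N := M.map D.subtype) (H := center G) htop' inferInstance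
      rw [eq_top_iff]
      intro x _
      obtain ⟨m, hm, he⟩ := hle x.2
      rwa [← Subtype.ext he]

end CfsgLib.Components
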