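import Cfsg.Prelude.Def_Local
import Cfsg.Agent.Lib.Components.Quasisimple

/-!
Components and the layer `E(G)`. Most results need no finiteness.
-/

set_option autoImplicit false
set_option linter.style.haveILetI false
set_option linter.unusedVariables false

namespace CfsgLib.Components

open Subgroup

variable {G : Type*} [Group G]

/-! ### Auxiliary commutator facts -/

/-- Three subgroup lemma for a perfect subgroup: `[L, N, L] = 1` forces `[L, N] = 1`. -/
theorem commutator_eq_bot_of_perfect {L N : Subgroup G} (hL : ⁅L, L⁆ = L)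
    (h : ⁅⁅L, N⁆, L⁆ = ⊥) : ⁅L, N⁆ = ⊥ := by
  have := commutator_commutator_eq_bot_of_rotate (H₁ := L) (H₂ := L) (H₃ := N) h
    (by rwa [commutator_comm N L])
  rwa [hL] at this

theorem le_centralizer_of_commutator_eq_bot {L N : Subgroup G} (h : ⁅L, N⁆ = ⊥) :
    L ≤ centralizer (N : Set G) :=
  commutator_eq_bot_iff_le_centralizer.mp h

theorem le_normalizer_of_commutator_eq_bot {L N : Subgroup G} (h : ⁅L, N⁆ = ⊥) :
    L ≤ normalizer (N : Set G) :=
  (le_centralizer_of_commutator_eq_bot h).trans (centralizer_le_normalizer _)

theorem commutator_sSup_eq_bot {L : Subgroup G} {S : Set (Subgroup G)}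
    (h : ∀ N ∈ S, ⁅L, N⁆ = ⊥) : ⁅L, sSup S⁆ = ⊥ := by
  rw [commutator_comm, commutator_eq_bot_iff_le_centralizer]
  refine sSup_le fun N hN => ?_
  rw [← commutator_eq_bot_iff_le_centralizer, commutator_comm]
  exact h N hN

/-- Subgroups commute in a subgroup containing both iff they commute in the whole group. -/
theorem commutator_subgroupOf_eq_bot_iff {A B K : Subgroup G} (hA : A ≤ K) (hB : B ≤ K) :
    ⁅A.subgroupOf K, B.subgroupOf K⁆ = ⊥ ↔ ⁅A, B⁆ = ⊥ := by
  conv_rhs => rw [← map_subgroupOf_eq_of_le hA, ← map_subgroupOf_eq_of_le hB, ← map_commutator]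
  exact (map_eq_bot_iff_of_injective _ K.subtype_injective).symm

/-! ### Components -/

theorem component_commutator_self {L : Subgroup G} (hL : Cfsg.IsComponent L) : ⁅L, L⁆ = L :=
  isPerfect_iff.mp hL.2.1

theorem component_not_isSolvable {L : Subgroup G} (hL : Cfsg.IsComponent L) :
    ¬ Group.IsSolvable L :=
  quasisimple_not_isSolvable hL.2

theorem component_ne_bot {L : Subgroup G} (hL : Cfsg.IsComponent L) : L ≠ ⊥ := by
  rintro rfl
  exact component_not_isSolvable hL inferInstance

theorem component_not_le_of_isSolvable {L H : Subgroup G} (hL : Cfsg.IsComponent L)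
    (hH : Group.IsSolvable H) : ¬ L ≤ H := fun h =>
  haveI := hH
  component_not_isSolvable hL (Group.isSolvable_of_isSolvable_injective (inclusion_injective h))

theorem component_commutator_self_ne_bot {L : Subgroup G} (hL : Cfsg.IsComponent L) :
    ⁅L, L⁆ ≠ ⊥ := by
  rw [component_commutator_self hL]
  exact component_ne_bot hL

/-- A component contained in `H` is a component of `H`. -/
theorem component_subgroupOf {L H : Subgroup G} (hL : Cfsg.IsComponent L) (h : L ≤ H) :
    Cfsg.IsComponent (L.subgroupOf H) :=
  ⟨hL.1.subgroupOf, (quasisimple_congr (subgroupOfEquivOfLe h)).mpr hL.2⟩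

/-- A component of a subnormal subgroup is a component of the group. -/
theorem component_map_subtype {H : Subgroup G} (hH : H.IsSubnormal) {K : Subgroup H}
    (hK : Cfsg.IsComponent K) : Cfsg.IsComponent (K.map H.subtype) :=
  ⟨hK.1.trans' hH, (quasisimple_congr (K.equivMapOfInjective _ H.subtype_injective)).mp hK.2⟩

/-- The components of a subnormal subgroup `H` are the components of `G` contained in `H`. -/
theorem component_subnormal_iff {H : Subgroup G} (hH : H.IsSubnormal) (K : Subgroup H) :
    Cfsg.IsComponent K ↔ Cfsg.IsComponent (K.map H.subtype) :=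
  ⟨component_map_subtype hH, fun h => ⟨isSubnormal_of_map_subtype h.1,
    (quasisimple_congr (K.equivMapOfInjective _ H.subtype_injective)).mpr h.2⟩⟩

theorem component_map_equiv {G' : Type*} [Group G'] (e : G ≃* G') {L : Subgroup G}
    (hL : Cfsg.IsComponent L) : Cfsg.IsComponent (L.map e.toMonoidHom) :=
  ⟨isSubnormal_map_mulEquiv e hL.1,
    (quasisimple_congr (L.equivMapOfInjective _ e.injective)).mp hL.2⟩

theorem component_map_conj {L : Subgroup G} (hL : Cfsg.IsComponent L) (g : G) :
    Cfsg.IsComponent (L.map (MulAut.conj g).toMonoidHom) :=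
  component_map_equiv (MulAut.conj g) hL

/-- The image of a component under a surjection is trivial or a component. -/
theorem component_map_of_surjective {G' : Type*} [Group G'] {f : G →* G'}
    (hf : Function.Surjective f) {L : Subgroup G} (hL : Cfsg.IsComponent L)
    (hne : L.map f ≠ ⊥) : Cfsg.IsComponent (L.map f) := by
  haveI : Nontrivial ↥(L.map f) := nontrivial_iff_ne_bot _ |>.mpr hne
  exact ⟨hL.1.map hf, quasisimple_of_surjective hL.2 (MonoidHom.subgroupMap_surjective f L)⟩

/-- A component lies in, or commutes with, each normal subgroup. -/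
theorem component_le_or_commutator_normal {L N : Subgroup G} (hL : Cfsg.IsComponent L)
    (hN : N.Normal) : L ≤ N ∨ ⁅L, N⁆ = ⊥ := by
  suffices key : ∀ M : Subgroup G, M.IsSubnormal → L ≤ M →
      (∀ A : Subgroup G, A ≤ M → M ≤ normalizer (A : Set G) → L ≤ A ∨ ⁅L, A⁆ = ⊥) →
      ∀ A : Subgroup G, A ≤ (⊤ : Subgroup G) → (⊤ : Subgroup G) ≤ normalizer (A : Set G) →
        L ≤ A ∨ ⁅L, A⁆ = ⊥ by
    haveI := hN
    refine key L hL.1 le_rfl (fun A hAL hLA => ?_) N le_top le_normalizer_of_normal
    rcases quasisimple_normal_top_or_central hL.2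
      ((normal_subgroupOf_iff_le_normalizer hAL).mpr hLA) with h | h
    · exact Or.inl (subgroupOf_eq_top.mp h)
    · right
      rw [commutator_comm, commutator_eq_bot_iff_le_centralizer]
      intro a ha y hy
      exact congrArg Subtype.val
        (mem_center_iff.mp (h (show (⟨a, hAL ha⟩ : L) ∈ A.subgroupOf L from ha)) ⟨y, hy⟩)
  intro M hM
  induction hM with
  | top => intro _ hQ; exact hQ
  | step K M hKM hM hn ih =>
    intro hLK hQ
    refine ih (hLK.trans hKM) fun A hAM hMA => ?_
    have hMK : M ≤ normalizer (K : Set G) := (normal_subgroupOf_iff_le_normalizer hKM).mp hn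
    rcases hQ (A ⊓ K) inf_le_right
      ((le_inf (hKM.trans hMA) le_normalizer).trans inf_normalizer_le_normalizer_inf) with h | h
    · exact Or.inl (h.trans inf_le_left)
    · right
      refine commutator_eq_bot_of_perfect (component_commutator_self hL) ?_
      have h1 : ⁅L, A⁆ ≤ A ⊓ K :=
        le_inf (le_normalizer_iff_commutator_le_right.mp ((hLK.trans hKM).trans hMA))
          ((commutator_mono hLK le_rfl).trans
            (le_normalizer_iff_commutator_le_left.mp (hAM.trans hMK)))
      rw [eq_bot_iff, ← h, commutator_comm L (A ⊓ K)]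
      exact commutator_mono h1 le_rfl

/-- A component lies in, or commutes with, each subnormal subgroup. -/
theorem component_le_or_commutator {L H : Subgroup G} (hL : Cfsg.IsComponent L)
    (hH : H.IsSubnormal) : L ≤ H ∨ ⁅L, H⁆ = ⊥ := by
  induction hH with
  | top => exact Or.inl le_top
  | step H K hHK hK hn ih =>
    rcases ih with h | h
    · rcases component_le_or_commutator_normal (component_subgroupOf hL h) hn with h1 | h1
      · exact Or.inl fun x hx => h1 (show (⟨x, h hx⟩ : K) ∈ L.subgroupOf K from hx)
      · exact Or.inr ((commutator_subgroupOf_eq_bot_iff h hHK).mp h1)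
    · exact Or.inr (le_bot_iff.mp (h ▸ commutator_mono le_rfl hHK))

theorem component_eq_of_le {L K : Subgroup G} (hL : Cfsg.IsComponent L)
    (hK : Cfsg.IsComponent K) (h : L ≤ K) : L = K := by
  rcases quasisimple_subnormal_top_or_central hK.2 hL.1.subgroupOf with h1 | h1
  · exact le_antisymm h (subgroupOf_eq_top.mp h1)
  · exfalso
    refine component_commutator_self_ne_bot hL (commutator_eq_bot_iff_le_centralizer.mpr ?_)
    intro x hx y hy
    exact congrArg Subtype.val
      (mem_center_iff.mp (h1 (show (⟨x, h hx⟩ : K) ∈ L.subgroupOf K from hx)) ⟨y, h hy⟩)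

/-- Distinct components commute. -/
theorem component_eq_or_commutator {L K : Subgroup G} (hL : Cfsg.IsComponent L)
    (hK : Cfsg.IsComponent K) : L = K ∨ ⁅L, K⁆ = ⊥ :=
  (component_le_or_commutator hL hK.1).imp (component_eq_of_le hL hK) id

theorem component_commutator_of_ne {L K : Subgroup G} (hL : Cfsg.IsComponent L)
    (hK : Cfsg.IsComponent K) (h : L ≠ K) : ⁅L, K⁆ = ⊥ :=
  (component_eq_or_commutator hL hK).resolve_left h

theorem component_le_normalizer {L K : Subgroup G} (hL : Cfsg.IsComponent L)
    (hK : Cfsg.IsComponent K) : K ≤ normalizer (L : Set G) := by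
  rcases component_eq_or_commutator hK hL with rfl | h
  · exact le_normalizer
  · exact le_normalizer_of_commutator_eq_bot h

/-- A component contained in the join of a set of components is one of them. -/
theorem component_mem_of_le_sSup {L : Subgroup G} (hL : Cfsg.IsComponent L)
    {S : Set (Subgroup G)} (hS : ∀ K ∈ S, Cfsg.IsComponent K) (h : L ≤ sSup S) : L ∈ S := by
  by_contra hn
  refine component_commutator_self_ne_bot hL (le_bot_iff.mp ?_)
  rw [← commutator_sSup_eq_bot (L := L) (S := S)
    fun K hK => component_commutator_of_ne hL (hS K hK) fun e => hn (e ▸ hK)]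
  exact commutator_mono le_rfl h

/-- A component commutes with every solvable subgroup that it normalizes. -/
theorem component_commutator_solvable {L H : Subgroup G} (hL : Cfsg.IsComponent L)
    (hs : Group.IsSolvable H) (hn : L ≤ normalizer (H : Set G)) : ⁅L, H⁆ = ⊥ := by
  haveI := hs
  haveI : (H.subgroupOf (L ⊔ H)).Normal :=
    (normal_subgroupOf_iff_le_normalizer le_sup_right).mpr (sup_le hn le_normalizer)
  haveI : Group.IsSolvable ↥(H.subgroupOf (L ⊔ H)) :=
    Group.isSolvable_of_surjective
      (f := (subgroupOfEquivOfLe (le_sup_right : H ≤ L ⊔ H)).symm.toMonoidHom)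
      (MulEquiv.surjective _)
  have hL' := component_subgroupOf hL (le_sup_left : L ≤ L ⊔ H)
  rcases component_le_or_commutator_normal hL' (inferInstance : (H.subgroupOf (L ⊔ H)).Normal) with h | h
  · exact absurd h (component_not_le_of_isSolvable hL' inferInstance)
  · exact (commutator_subgroupOf_eq_bot_iff le_sup_left le_sup_right).mp h

theorem component_commutator_fitting {L : Subgroup G} (hL : Cfsg.IsComponent L) :
    ⁅L, Cfsg.fittingSubgroup G⁆ = ⊥ :=
  commutator_sSup_eq_bot fun N hN =>
    haveI := hN.2
    haveI := hN.1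
    component_commutator_solvable hL inferInstance le_normalizer_of_normal

/-! ### The layer -/

theorem component_le_layer {L : Subgroup G} (hL : Cfsg.IsComponent L) : L ≤ Cfsg.layer G :=
  le_sSup hL

theorem mem_components_of_le_layer {L : Subgroup G} {S : Set (Subgroup G)}
    (hL : Cfsg.IsComponent L) (hS : ∀ K ∈ S, Cfsg.IsComponent K)
    (h : Cfsg.layer G ≤ sSup S) : L ∈ S :=
  component_mem_of_le_sSup hL hS ((component_le_layer hL).trans h)

instance layer_normal_inst : (Cfsg.layer G).Normal :=
  normal_sSup_of_conj fun g _ hN => component_map_conj hN g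

theorem layer_map_equiv {G' : Type*} [Group G'] (e : G ≃* G') :
    (Cfsg.layer G).map e.toMonoidHom = Cfsg.layer G' := by
  refine le_antisymm ?_ (sSup_le fun K hK => ?_)
  · rw [map_le_iff_le_comap]
    refine sSup_le fun L hL => ?_
    rw [← map_le_iff_le_comap]
    exact component_le_layer (component_map_equiv e hL)
  · have hcomp : e.toMonoidHom.comp e.symm.toMonoidHom = MonoidHom.id G' := by ext; simp
    have h := map_mono (f := e.toMonoidHom) (component_le_layer (component_map_equiv e.symm hK))
    rwa [Subgroup.map_map, hcomp, Subgroup.map_id] at h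

instance layer_characteristic_inst : (Cfsg.layer G).Characteristic :=
  characteristic_iff_map_eq.mpr fun e => layer_map_equiv e

theorem layer_le_normalizer_component {L : Subgroup G} (hL : Cfsg.IsComponent L) :
    Cfsg.layer G ≤ normalizer (L : Set G) :=
  sSup_le fun _ hK => component_le_normalizer hL hK

theorem component_normal_in_layer {L : Subgroup G} (hL : Cfsg.IsComponent L) :
    (L.subgroupOf (Cfsg.layer G)).Normal :=
  (normal_subgroupOf_iff_le_normalizer (component_le_layer hL)).mpr
    (layer_le_normalizer_component hL)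

theorem layer_commutator_self : ⁅Cfsg.layer G, Cfsg.layer G⁆ = Cfsg.layer G :=
  le_antisymm (commutator_le_self _) (sSup_le fun L hL =>
    (component_commutator_self hL).symm.trans_le
      (commutator_mono (component_le_layer hL) (component_le_layer hL)))

theorem layer_isPerfect : Group.IsPerfect ↥(Cfsg.layer G) :=
  isPerfect_iff.mpr layer_commutator_self

theorem layer_eq_bot_iff : Cfsg.layer G = ⊥ ↔ ∀ L : Subgroup G, ¬ Cfsg.IsComponent L :=
  ⟨fun h L hL => component_ne_bot hL (le_bot_iff.mp (h ▸ component_le_layer hL)),
    fun h => le_bot_iff.mp (sSup_le fun L hL => absurd hL (h L))⟩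

theorem layer_ne_bot_iff_hasComponent : Cfsg.layer G ≠ ⊥ ↔ Cfsg.HasComponent G := by
  rw [Ne, layer_eq_bot_iff]
  push Not
  rfl

theorem layer_commutator_solvable {H : Subgroup G} (hs : Group.IsSolvable H)
    (hn : Cfsg.layer G ≤ normalizer (H : Set G)) : ⁅Cfsg.layer G, H⁆ = ⊥ := by
  rw [commutator_eq_bot_iff_le_centralizer]
  exact sSup_le fun L hL => le_centralizer_of_commutator_eq_bot
    (component_commutator_solvable hL hs ((component_le_layer hL).trans hn))

theorem layer_commutator_fitting : ⁅Cfsg.layer G, Cfsg.fittingSubgroup G⁆ = ⊥ := by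
  rw [commutator_eq_bot_iff_le_centralizer]
  exact sSup_le fun L hL => le_centralizer_of_commutator_eq_bot (component_commutator_fitting hL)

theorem layer_eq_bot_of_isSolvable [Group.IsSolvable G] : Cfsg.layer G = ⊥ :=
  layer_eq_bot_iff.mpr fun _ hL => component_not_isSolvable hL inferInstance

theorem layer_eq_bot_of_le_solvable {H : Subgroup G} (hs : Group.IsSolvable H)
    (h : Cfsg.layer G ≤ H) : Cfsg.layer G = ⊥ :=
  layer_eq_bot_iff.mpr fun _ hL =>
    component_not_le_of_isSolvable hL hs ((component_le_layer hL).trans h)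

/-- The layer of a subnormal subgroup is generated by the components of the group inside it. -/
theorem layer_subnormal_eq {H : Subgroup G} (hH : H.IsSubnormal) :
    (Cfsg.layer H).map H.subtype = sSup {K : Subgroup G | Cfsg.IsComponent K ∧ K ≤ H} := by
  refine le_antisymm ?_ (sSup_le fun K hK => ?_)
  · rw [map_le_iff_le_comap]
    refine sSup_le fun K hK => ?_
    rw [← map_le_iff_le_comap]
    exact le_sSup ⟨component_map_subtype hH hK, map_subtype_le K⟩
  · rw [← map_subgroupOf_eq_of_le hK.2]
    exact map_mono (component_le_layer (component_subgroupOf hK.1 hK.2))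

theorem layer_subnormal_le {H : Subgroup G} (hH : H.IsSubnormal) :
    (Cfsg.layer H).map H.subtype ≤ Cfsg.layer G := by
  rw [layer_subnormal_eq hH]
  exact sSup_le fun K hK => component_le_layer hK.1

theorem layer_map_subtype_of_le {H : Subgroup G} (hH : H.IsSubnormal) (h : Cfsg.layer G ≤ H) :
    (Cfsg.layer H).map H.subtype = Cfsg.layer G :=
  le_antisymm (layer_subnormal_le hH) (sSup_le fun K hK => by
    rw [layer_subnormal_eq hH]
    exact le_sSup ⟨hK, (component_le_layer hK).trans h⟩)

/-- An element of the join of finitely many components that centralizes this join lies in the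
join of their centres. -/
theorem mem_sup_center_of_mem_sup_components (t : Finset (Subgroup G))
    (ht : ∀ L ∈ t, Cfsg.IsComponent L) :
    t.sup id ⊓ centralizer ((t.sup id : Subgroup G) : Set G) ≤
      t.sup fun L => (center L).map L.subtype := by
  induction t using Finset.cons_induction with
  | empty => simp
  | cons L s hLs ih =>
    have hs : ∀ K ∈ s, Cfsg.IsComponent K := fun K hK => ht K (Finset.mem_cons_of_mem hK)
    have hL : Cfsg.IsComponent L := ht L (Finset.mem_cons_self L s)
    rw [Finset.sup_cons, Finset.sup_cons]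
    rintro z ⟨hz, hzc⟩
    have hR : s.sup id ≤ centralizer (L : Set G) := Finset.sup_le fun K hK =>
      le_centralizer_of_commutator_eq_bot
        (component_commutator_of_ne (hs K hK) hL fun e => hLs (e ▸ hK))
    have hmul := coe_mul_of_left_le_normalizer_right L (s.sup id)
      ((le_centralizer_iff.mp hR).trans (centralizer_le_normalizer _))
    have hz' : z ∈ (((L ⊔ s.sup id : Subgroup G)) : Set G) := hz
    rw [hmul] at hz'
    obtain ⟨x, hx, y, hy, rfl⟩ := hz'
    have hxc : ∀ w ∈ L, w * x = x * w := fun w hw => by
      have h1 : w * (x * y) = x * y * w := hzc w (mem_sup_left (show w ∈ id L from hw))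
      have h2 : w * y = y * w := hR hy w hw
      apply mul_right_cancel (b := y)
      rw [mul_assoc, h1, mul_assoc, ← h2, ← mul_assoc]
    have hyc : y ∈ centralizer ((s.sup id : Subgroup G) : Set G) := fun w hw => by
      have h1 : w * (x * y) = x * y * w := hzc w (mem_sup_right hw)
      have h2 : x * w = w * x := hR hw x hx
      apply mul_left_cancel (a := x)
      rw [← mul_assoc x w, h2, mul_assoc, h1, mul_assoc]
    refine mul_mem (mem_sup_left ⟨⟨x, hx⟩, ?_, rfl⟩) (mem_sup_right (ih hs ⟨hy, hyc⟩))
    exact mem_center_iff.mpr fun w => Subtype.ext (hxc w w.2)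

/-- `Z(E(G))` is generated by the centres of the components. -/
theorem center_layer_eq [Finite G] :
    (center (Cfsg.layer G)).map (Cfsg.layer G).subtype =
      ⨆ L : {K : Subgroup G // Cfsg.IsComponent K},
        (center (L : Subgroup G)).map (L : Subgroup G).subtype := by
  classical
  refine le_antisymm ?_ (iSup_le fun L => ?_)
  · have hfin := Set.toFinite {K : Subgroup G | Cfsg.IsComponent K}
    have hE : Cfsg.layer G = hfin.toFinset.sup id := by
      refine le_antisymm (sSup_le fun L hL => ?_) (Finset.sup_le fun L hL => ?_)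
      · exact Finset.le_sup (f := id) (hfin.mem_toFinset.mpr hL)
      · exact component_le_layer (hfin.mem_toFinset.mp hL)
    rintro _ ⟨z, hz, rfl⟩
    have hz' : (z : G) ∈ hfin.toFinset.sup id ⊓
        centralizer ((hfin.toFinset.sup id : Subgroup G) : Set G) := by
      rw [← hE]
      exact ⟨z.2, fun w hw => congrArg Subtype.val (mem_center_iff.mp hz ⟨w, hw⟩)⟩
    have hle : (hfin.toFinset.sup fun L => (center L).map L.subtype) ≤
        ⨆ L : {K : Subgroup G // Cfsg.IsComponent K},
          (center (L : Subgroup G)).map (L : Subgroup G).subtype :=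
      Finset.sup_le fun L hL => le_iSup (fun L : {K : Subgroup G // Cfsg.IsComponent K} =>
        (center (L : Subgroup G)).map (L : Subgroup G).subtype) ⟨L, hfin.mem_toFinset.mp hL⟩
    exact hle (mem_sup_center_of_mem_sup_components _ (fun L hL => hfin.mem_toFinset.mp hL) hz')
  · rintro _ ⟨z, hz, rfl⟩
    refine ⟨⟨z, component_le_layer L.2 z.2⟩, mem_center_iff.mpr fun w => Subtype.ext ?_, rfl⟩
    have hle : Cfsg.layer G ≤ centralizer {(z : G)} := sSup_le fun K hK => by
      intro y hy u hu
      rcases component_eq_or_commutator hK L.2 with rfl | h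
      · rw [Set.mem_singleton_iff] at hu
        subst hu
        exact (congrArg Subtype.val (mem_center_iff.mp hz ⟨y, hy⟩)).symm
      · rw [Set.mem_singleton_iff] at hu
        subst hu
        exact le_centralizer_of_commutator_eq_bot h hy z z.2
    exact (hle w.2 z (Set.mem_singleton _)).symm

end CfsgLib.Components
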