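import Cfsg.Prelude.Def_Local
import Cfsg.Agent.Lib.Components.Layer

/-!
The generalized Fitting subgroup: `C_G(F*(G)) ≤ F*(G)` and consequences.
-/

set_option autoImplicit false
set_option linter.style.haveILetI false
set_option linter.unusedVariables false

namespace CfsgLib.Components

open Subgroup

variable {G : Type*} [Group G]

theorem fitting_le_genFitting : Cfsg.fittingSubgroup G ≤ Cfsg.generalizedFittingSubgroup G :=
  le_sup_right

theorem layer_le_genFitting : Cfsg.layer G ≤ Cfsg.generalizedFittingSubgroup G :=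
  le_sup_left

theorem component_le_genFitting {L : Subgroup G} (hL : Cfsg.IsComponent L) :
    L ≤ Cfsg.generalizedFittingSubgroup G :=
  (component_le_layer hL).trans layer_le_genFitting

instance genFitting_normal_inst : (Cfsg.generalizedFittingSubgroup G).Normal := by
  unfold Cfsg.generalizedFittingSubgroup
  infer_instance

/-! ### Behaviour under isomorphisms -/

theorem map_sSup_subset {G' : Type*} [Group G'] (f : G →* G') {S : Set (Subgroup G)}
    {S' : Set (Subgroup G')} (h : ∀ N ∈ S, N.map f ∈ S') : (sSup S).map f ≤ sSup S' := by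
  rw [map_le_iff_le_comap]
  refine sSup_le fun N hN => ?_
  rw [← map_le_iff_le_comap]
  exact le_sSup (h N hN)

theorem le_map_of_map_symm_le {G' : Type*} [Group G'] (e : G ≃* G') {A : Subgroup G}
    {B : Subgroup G'} (h : B.map e.symm.toMonoidHom ≤ A) : B ≤ A.map e.toMonoidHom := by
  intro x hx
  exact ⟨e.symm x, h ⟨x, hx, rfl⟩, e.apply_symm_apply x⟩

theorem fitting_map_equiv {G' : Type*} [Group G'] (e : G ≃* G') :
    (Cfsg.fittingSubgroup G).map e.toMonoidHom = Cfsg.fittingSubgroup G' :=
  le_antisymm
    (map_sSup_subset _ fun N hN => ⟨hN.1.map _ e.surjective,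
      haveI := hN.2; Group.nilpotent_of_mulEquiv (N.equivMapOfInjective _ e.injective)⟩)
    (le_map_of_map_symm_le e (map_sSup_subset _ fun N hN => ⟨hN.1.map _ e.symm.surjective,
      haveI := hN.2; Group.nilpotent_of_mulEquiv (N.equivMapOfInjective _ e.symm.injective)⟩))

theorem pCore_map_equiv {G' : Type*} [Group G'] (p : ℕ) (e : G ≃* G') :
    (Cfsg.pCore p G).map e.toMonoidHom = Cfsg.pCore p G' :=
  le_antisymm (map_sSup_subset _ fun N hN => ⟨hN.1.map _ e.surjective, hN.2.map _⟩)
    (le_map_of_map_symm_le e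
      (map_sSup_subset _ fun N hN => ⟨hN.1.map _ e.symm.surjective, hN.2.map _⟩))

theorem pPrimeCore_map_equiv {G' : Type*} [Group G'] (p : ℕ) (e : G ≃* G') :
    (Cfsg.pPrimeCore p G).map e.toMonoidHom = Cfsg.pPrimeCore p G' :=
  le_antisymm
    (map_sSup_subset _ fun N hN => ⟨hN.1.map _ e.surjective,
      by rw [card_map_of_injective e.injective]; exact hN.2⟩)
    (le_map_of_map_symm_le e
      (map_sSup_subset _ fun N hN => ⟨hN.1.map _ e.symm.surjective,
        by rw [card_map_of_injective e.symm.injective]; exact hN.2⟩))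

theorem genFitting_map_equiv {G' : Type*} [Group G'] (e : G ≃* G') :
    (Cfsg.generalizedFittingSubgroup G).map e.toMonoidHom =
      Cfsg.generalizedFittingSubgroup G' := by
  rw [Cfsg.generalizedFittingSubgroup, Subgroup.map_sup, layer_map_equiv, fitting_map_equiv]
  rfl

instance fitting_characteristic_inst : (Cfsg.fittingSubgroup G).Characteristic :=
  characteristic_iff_map_eq.mpr fun e => fitting_map_equiv e

instance pCore_characteristic_inst (p : ℕ) : (Cfsg.pCore p G).Characteristic :=
  characteristic_iff_map_eq.mpr fun e => pCore_map_equiv p e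

instance pPrimeCore_characteristic_inst (p : ℕ) : (Cfsg.pPrimeCore p G).Characteristic :=
  characteristic_iff_map_eq.mpr fun e => pPrimeCore_map_equiv p e

instance genFitting_characteristic_inst : (Cfsg.generalizedFittingSubgroup G).Characteristic :=
  characteristic_iff_map_eq.mpr fun e => genFitting_map_equiv e

/-! ### Self-centralization -/

theorem isNilpotent_of_commutator_commutator {K : Subgroup G} (h : ⁅⁅K, K⁆, K⁆ = ⊥) :
    Group.IsNilpotent K :=
  isNilpotent_of_lowerCentralSeries_eq_bot (n := 2) (by simpa using h)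

/-- A subnormal subgroup of `C(T)` not inside `S ⊇ F(G)` (where subnormal nilpotent subgroups
of `C(T)` lie in `T`) contains a perfect one with all proper normal subgroups in `T`. -/
theorem exists_perfect_subnormal_not_le [Finite G] {T : Subgroup G}
    (hT : Cfsg.fittingSubgroup G ≤ T) {H : Subgroup G} (hH : H.IsSubnormal)
    (hc : H ≤ centralizer (T : Set G)) (hne : ¬ H ≤ T) :
    ∃ K : Subgroup G, K ≤ H ∧ K.IsSubnormal ∧ ¬ K ≤ T ∧ Cfsg.IsComponent K := by
  obtain ⟨K, hKH, hK⟩ := Set.Finite.exists_le_minimal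
    (Set.toFinite {K : Subgroup G | K.IsSubnormal ∧ K ≤ H ∧ ¬ K ≤ T}) (a := H) ⟨hH, le_rfl, hne⟩
  obtain ⟨hKs, -, hKT⟩ := hK.prop
  have hKc : K ≤ centralizer (T : Set G) := hKH.trans hc
  have hKperf : ⁅K, K⁆ = K := by
    by_contra hn
    have hle : ⁅K, K⁆ ≤ T := by
      by_contra hn'
      exact hn (le_antisymm (commutator_le_self K)
        (hK.le_of_le ⟨isSubnormal_of_le_normalizer (commutator_le_self K) (normalizer_commutator_ge_left K K) hKs,
          (commutator_le_self K).trans hKH, hn'⟩ (commutator_le_self K)))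
    refine hKT ((le_fitting_of_isSubnormal hKs (isNilpotent_of_commutator_commutator ?_)).trans hT)
    rw [eq_bot_iff]
    refine (commutator_mono hle hKc).trans ?_
    rw [commutator_comm, commutator_eq_bot_iff_le_centralizer.mpr le_rfl]
  haveI : Group.IsPerfect K := isPerfect_iff.mpr hKperf
  have hnt : Nontrivial K := by
    rw [nontrivial_iff_ne_bot]
    rintro rfl
    exact hKT bot_le
  refine ⟨K, hKH, hKs, hKT, hKs, isQuasisimple_of (isPerfect_iff.mpr hKperf) hnt fun M hM => ?_⟩
  by_cases hle : M.map K.subtype ≤ T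
  · right
    intro m hm
    rw [mem_center_iff]
    intro x
    exact Subtype.ext (hKc x.2 _ (hle ⟨m, hm, rfl⟩)).symm
  · left
    have := hK.le_of_le ⟨hM.isSubnormal.trans' hKs, (map_subtype_le M).trans hKH, hle⟩
      (map_subtype_le M)
    rw [eq_top_iff]
    intro x _
    obtain ⟨m, hm, he⟩ := this x.2
    rwa [← Subtype.ext he]

/-- `C_G(F*(G)) ≤ F*(G)`. -/
theorem centralizer_genFitting_le [Finite G] :
    centralizer (Cfsg.generalizedFittingSubgroup G : Set G) ≤
      Cfsg.generalizedFittingSubgroup G := by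
  by_contra hn
  obtain ⟨K, -, -, hKn, hKc⟩ := exists_perfect_subnormal_not_le fitting_le_genFitting
    (Subgroup.Normal.isSubnormal inferInstance) le_rfl hn
  exact hKn (component_le_genFitting hKc)

/-- A subnormal solvable subgroup centralizing `F(G)` lies in `F(G)`. -/
theorem le_fitting_of_solvable_subnormal [Finite G] {H : Subgroup G} (hH : H.IsSubnormal)
    (hs : Group.IsSolvable H) (hc : H ≤ centralizer (Cfsg.fittingSubgroup G : Set G)) :
    H ≤ Cfsg.fittingSubgroup G := by
  by_contra hn
  obtain ⟨K, hKH, -, -, hKc⟩ := exists_perfect_subnormal_not_le le_rfl hH hc hn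
  exact component_not_le_of_isSolvable hKc hs hKH

theorem genFitting_eq_fitting_iff : Cfsg.generalizedFittingSubgroup G = Cfsg.fittingSubgroup G ↔
    Cfsg.layer G ≤ Cfsg.fittingSubgroup G :=
  sup_eq_right

theorem genFitting_eq_fitting_of_layer_eq_bot (h : Cfsg.layer G = ⊥) :
    Cfsg.generalizedFittingSubgroup G = Cfsg.fittingSubgroup G := by
  rw [genFitting_eq_fitting_iff, h]
  exact bot_le

theorem centralizer_fitting_le_iff [Finite G] :
    centralizer (Cfsg.fittingSubgroup G : Set G) ≤ Cfsg.fittingSubgroup G ↔ Cfsg.layer G = ⊥ := by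
  constructor
  · intro h
    exact layer_eq_bot_of_le_solvable isSolvable_fitting
      ((le_centralizer_of_commutator_eq_bot layer_commutator_fitting).trans h)
  · intro h
    rw [← genFitting_eq_fitting_of_layer_eq_bot h]
    exact centralizer_genFitting_le

theorem centralizer_fitting_le_of_isSolvable [Finite G] [Group.IsSolvable G] :
    centralizer (Cfsg.fittingSubgroup G : Set G) ≤ Cfsg.fittingSubgroup G :=
  centralizer_fitting_le_iff.mpr layer_eq_bot_of_isSolvable

theorem genFitting_ne_bot [Finite G] [Nontrivial G] : Cfsg.generalizedFittingSubgroup G ≠ ⊥ := by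
  intro h
  have h1 := centralizer_genFitting_le (G := G)
  rw [h] at h1
  exact top_ne_bot (le_bot_iff.mp ((le_of_eq (centralizer_eq_top_iff_subset.mpr (by simp)).symm).trans h1))

theorem le_centralizer_pCore_of_ne [Finite G] {p q : ℕ} [Fact p.Prime] [Fact q.Prime]
    (hne : q ≠ p) : Cfsg.pCore q G ≤ centralizer (Cfsg.pCore p G : Set G) :=
  le_centralizer_of_commutator_eq_bot (commutator_eq_bot_of_disjoint
    (IsPGroup.disjoint_of_ne q p hne _ _ (isPGroup_pCore q) (isPGroup_pCore p)))

theorem layer_le_centralizer_pCore [Finite G] (p : ℕ) [Fact p.Prime] :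
    Cfsg.layer G ≤ centralizer (Cfsg.pCore p G : Set G) :=
  (le_centralizer_of_commutator_eq_bot layer_commutator_fitting).trans
    (centralizer_le (pCore_le_fitting p))

/-- `F*(G) = O_p(G)` iff `C_G(O_p(G)) ≤ O_p(G)`. -/
theorem genFitting_eq_pCore_iff [Finite G] (p : ℕ) [Fact p.Prime] :
    Cfsg.generalizedFittingSubgroup G = Cfsg.pCore p G ↔
      centralizer (Cfsg.pCore p G : Set G) ≤ Cfsg.pCore p G := by
  constructor
  · intro h
    rw [← h]
    exact centralizer_genFitting_le
  · intro h
    have hbot : Cfsg.layer G = ⊥ :=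
      layer_eq_bot_of_le_solvable (haveI := (isPGroup_pCore (G := G) p).isNilpotent; inferInstance)
        ((layer_le_centralizer_pCore p).trans h)
    rw [genFitting_eq_fitting_of_layer_eq_bot hbot]
    refine le_antisymm (fitting_le_of_pCore_le fun q hq => ?_) (pCore_le_fitting p)
    haveI := Fact.mk hq
    by_cases hne : q = p
    · rw [hne]
    · exact (le_centralizer_pCore_of_ne hne).trans h

theorem genFitting_eq_pCore_iff_criterion [Finite G] (p : ℕ) [Fact p.Prime] :
    Cfsg.generalizedFittingSubgroup G = Cfsg.pCore p G ↔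
      Cfsg.layer G = ⊥ ∧ ∀ q : ℕ, q.Prime → q ≠ p → Cfsg.pCore q G = ⊥ := by
  constructor
  · intro h
    refine ⟨layer_eq_bot_of_le_solvable
      (haveI := (isPGroup_pCore (G := G) p).isNilpotent; inferInstance)
      (h ▸ layer_le_genFitting), fun q hq hne => ?_⟩
    haveI := Fact.mk hq
    have hle : Cfsg.pCore q G ≤ Cfsg.pCore p G :=
      h ▸ (pCore_le_fitting q).trans fitting_le_genFitting
    exact le_bot_iff.mp ((IsPGroup.disjoint_of_ne q p hne _ _ (isPGroup_pCore q) (isPGroup_pCore p))
      le_rfl hle)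
  · rintro ⟨h1, h2⟩
    rw [genFitting_eq_fitting_of_layer_eq_bot h1]
    refine le_antisymm (fitting_le_of_pCore_le fun q hq => ?_) (pCore_le_fitting p)
    by_cases hne : q = p
    · rw [hne]
    · rw [h2 q hq hne]
      exact bot_le

theorem isOfCharacteristicTwo_iff [Finite G] :
    Cfsg.IsOfCharacteristicTwo G ↔ Cfsg.generalizedFittingSubgroup G = Cfsg.pCore 2 G :=
  haveI : Fact (Nat.Prime 2) := ⟨Nat.prime_two⟩
  (genFitting_eq_pCore_iff 2).symm

end CfsgLib.Components
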