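import Cfsg.Prelude.Def_Local
import Cfsg.Agent.Lib.Components.GenFitting
import Cfsg.Agent.Lib.Solvable.Core
import Mathlib.GroupTheory.Transfer

/-!
`p`-components and the `p`-layer.  The `p`-component over a component `K̄` of `G / O_{p'}(G)` is
the subgroup generated by the `p`-elements of the preimage of `K̄`.
-/

set_option autoImplicit false
set_option linter.style.haveILetI false
set_option linter.unusedVariables false

namespace CfsgLib.Components

open Subgroup

variable {G : Type*} [Group G] {p : ℕ}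

/-! ### The subgroup generated by the `p`-elements of a subgroup -/

/-- The subgroup generated by the `p`-elements of `W`. -/
def pElements (p : ℕ) (W : Subgroup G) : Subgroup G :=
  closure {x : G | x ∈ W ∧ ∃ k : ℕ, x ^ p ^ k = 1}

theorem mem_pElements {W : Subgroup G} {x : G} (hx : x ∈ W) {k : ℕ} (hk : x ^ p ^ k = 1) :
    x ∈ pElements p W :=
  subset_closure ⟨hx, k, hk⟩

theorem pElements_le (W : Subgroup G) : pElements p W ≤ W :=
  (closure_le W).mpr fun _ h => h.1

theorem pElements_mono {V W : Subgroup G} (h : V ≤ W) : pElements p V ≤ pElements p W :=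
  closure_mono fun _ hx => ⟨h hx.1, hx.2⟩

theorem pElements_le_iff {W S : Subgroup G} :
    pElements p W ≤ S ↔ ∀ x ∈ W, ∀ k : ℕ, x ^ p ^ k = 1 → x ∈ S :=
  ⟨fun h _ hx _ hk => h (mem_pElements hx hk),
    fun h => (closure_le S).mpr fun x ⟨hx, k, hk⟩ => h x hx k hk⟩

theorem map_pElements_le {G' : Type*} [Group G'] (f : G →* G') (W : Subgroup G) :
    (pElements p W).map f ≤ pElements p (W.map f) := by
  rw [map_le_iff_le_comap, pElements_le_iff]
  intro x hx k hk
  exact mem_pElements ⟨x, hx, rfl⟩ (by rw [← map_pow, hk, map_one])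

theorem map_pElements_of_injective {G' : Type*} [Group G'] (f : G →* G')
    (hf : Function.Injective f) (W : Subgroup G) :
    (pElements p W).map f = pElements p (W.map f) := by
  refine le_antisymm (map_pElements_le f W) (pElements_le_iff.mpr ?_)
  rintro _ ⟨x, hx, rfl⟩ k hk
  exact ⟨x, mem_pElements hx (hf (by rw [map_pow, hk, map_one])), rfl⟩

theorem normalizer_le_normalizer_pElements (W : Subgroup G) :
    normalizer (W : Set G) ≤ normalizer (pElements p W : Set G) := by
  rw [le_normalizer_iff]
  intro g hg k hk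
  have h := map_pElements_le (p := p) (MulAut.conj g).toMonoidHom W
  rw [map_conj_eq_of_mem_normalizer hg] at h
  exact h ⟨k, hk, rfl⟩

/-- A subnormal subgroup of index prime to `p` contains every `p`-element. -/
theorem mem_of_coprime_index {H : Subgroup G} (hH : H.IsSubnormal) (h : H.index.Coprime p)
    {x : G} {k : ℕ} (hx : x ^ p ^ k = 1) : x ∈ H := by
  induction hH with
  | top => trivial
  | step H K hHK hK hn ih =>
    have hxK : x ∈ K := ih (Nat.Coprime.coprime_dvd_left (index_dvd_of_le hHK) h)
    haveI := hn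
    have hidx : (H.subgroupOf K).index.Coprime (p ^ k) :=
      (Nat.Coprime.coprime_dvd_left (relIndex_dvd_index_of_le hHK) h).pow_right k
    have h1 : orderOf ((⟨x, hxK⟩ : K) : K ⧸ H.subgroupOf K) ∣ (H.subgroupOf K).index :=
      orderOf_dvd_natCard _
    have h2 : orderOf ((⟨x, hxK⟩ : K) : K ⧸ H.subgroupOf K) ∣ p ^ k := by
      rw [orderOf_dvd_iff_pow_eq_one, ← QuotientGroup.mk_pow,
        show (⟨x, hxK⟩ : K) ^ p ^ k = 1 from Subtype.ext hx, QuotientGroup.mk_one]
    have h3 := Nat.eq_one_of_dvd_coprimes hidx h1 h2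
    rw [orderOf_eq_one_iff, QuotientGroup.eq_one_iff] at h3
    exact h3

theorem pElements_le_of_isSubnormal {H W : Subgroup G} (hH : H.IsSubnormal)
    (h : (H.relIndex W).Coprime p) : pElements p W ≤ H :=
  pElements_le_iff.mpr fun x hx k hk =>
    mem_of_coprime_index (H := H.subgroupOf W) hH.subgroupOf h (x := ⟨x, hx⟩) (k := k)
      (Subtype.ext hk)

theorem map_pElements_eq [Finite G] [hp : Fact p.Prime] {G' : Type*} [Group G'] (f : G →* G')
    (W : Subgroup G) : (pElements p W).map f = pElements p (W.map f) := by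
  refine le_antisymm (map_pElements_le f W) (pElements_le_iff.mpr ?_)
  rintro _ ⟨x, hx, rfl⟩ k hk
  obtain ⟨a, m, hm, hxm⟩ :=
    Nat.exists_eq_pow_mul_and_not_dvd (orderOf_pos x).ne' p hp.out.ne_one
  have h1 : x ^ m ∈ pElements p W := mem_pElements (pow_mem hx m) (k := a) (by
    rw [← pow_mul, mul_comm, ← hxm, pow_orderOf_eq_one])
  have hcop : m.Coprime (orderOf (f x)) :=
    Nat.Coprime.coprime_dvd_right (orderOf_dvd_of_pow_eq_one hk)
      (((hp.out.coprime_iff_not_dvd).mpr hm).symm.pow_right k)
  obtain ⟨u, hu⟩ := exists_pow_eq_self_of_coprime hcop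
  exact ⟨(x ^ m) ^ u, pow_mem h1 u, by rw [map_pow, map_pow, hu]⟩

/-- A quasisimple group of order divisible by `p` is generated by its `p`-elements. -/
theorem pElements_top_of_quasisimple [Finite G] [Fact p.Prime] (h : Cfsg.IsQuasisimple G)
    (hdvd : p ∣ Nat.card G) : pElements p (⊤ : Subgroup G) = ⊤ := by
  have hn : (pElements p (⊤ : Subgroup G)).Normal := normalizer_eq_top_iff.mp (top_le_iff.mp
    ((le_of_eq (normalizer_eq_top (H := (⊤ : Subgroup G))).symm).trans (normalizer_le_normalizer_pElements ⊤)))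
  refine (quasisimple_normal_top_or_central h hn).resolve_right fun hc => ?_
  obtain ⟨P⟩ : Nonempty (Sylow p G) := inferInstance
  have hPc : (P : Subgroup G) ≤ center G := fun x hx => by
    obtain ⟨k, hk⟩ := P.isPGroup' ⟨x, hx⟩
    exact hc (mem_pElements (mem_top x) (k := k) (by simpa [Subtype.ext_iff] using hk))
  have hP : normalizer ((P : Subgroup G) : Set G) ≤ centralizer ((P : Subgroup G) : Set G) :=
    fun g _ y hy => (mem_center_iff.mp (hPc hy) g).symm
  haveI := h.1
  haveI : IsMulCommutative ↥(P : Subgroup G) :=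
    ⟨⟨fun a b => Subtype.ext (mem_center_iff.mp (hPc b.2) a)⟩⟩
  have hker : (MonoidHom.transferSylow P hP).ker = ⊤ := by
    rw [eq_top_iff, ← Group.IsPerfect.commutator_eq_top (G := G), _root_.commutator_def, commutator_le]
    intro a _ b _
    rw [MonoidHom.mem_ker, map_commutatorElement]
    exact commutatorElement_eq_one_iff_mul_comm.mpr (IsMulCommutative.is_comm.comm _ _)
  have hbot : (P : Subgroup G) = ⊥ := by
    have := (MonoidHom.ker_transferSylow_isComplement' P hP).disjoint
    rw [hker] at this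
    exact top_disjoint.mp this
  exact P.ne_bot_of_dvd_card hdvd hbot

theorem pElements_component [Finite G] [Fact p.Prime] {L : Subgroup G}
    (hL : Cfsg.IsComponent L) (hdvd : p ∣ Nat.card L) : pElements p L = L := by
  conv_rhs => rw [← range_subtype L, MonoidHom.range_eq_map,
    ← pElements_top_of_quasisimple hL.2 hdvd, map_pElements_of_injective _ L.subtype_injective,
    ← MonoidHom.range_eq_map, range_subtype]

/-! ### `p`-components -/

theorem pPrimeCore_quotient_self [Finite G] :
    Cfsg.pPrimeCore p (G ⧸ Cfsg.pPrimeCore p G) = ⊥ :=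
  CfsgLib.Solvable.pPrimeCore_quotient_eq_bot _ rfl

theorem dvd_card_of_component_of_core_eq_bot [Finite G] [hp : Fact p.Prime]
    (hO : Cfsg.pPrimeCore p G = ⊥) {L : Subgroup G} (hL : Cfsg.IsComponent L) :
    p ∣ Nat.card L := by
  by_contra hn
  exact component_ne_bot hL (le_bot_iff.mp (hO ▸
    le_pPrimeCore_of_isSubnormal hL.1 ((hp.out.coprime_iff_not_dvd).mpr hn).symm))

/-- The `p`-component lying over a subgroup of `G / O_{p'}(G)`. -/
def pComponentOver (p : ℕ) (Kbar : Subgroup (G ⧸ Cfsg.pPrimeCore p G)) : Subgroup G :=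
  pElements p (Kbar.comap (QuotientGroup.mk' (Cfsg.pPrimeCore p G)))

theorem pComponentOver_map [Finite G] [Fact p.Prime] {Kbar : Subgroup (G ⧸ Cfsg.pPrimeCore p G)}
    (hK : Cfsg.IsComponent Kbar) :
    (pComponentOver p Kbar).map (QuotientGroup.mk' (Cfsg.pPrimeCore p G)) = Kbar := by
  rw [pComponentOver, map_pElements_eq,
    map_comap_eq_self_of_surjective (QuotientGroup.mk'_surjective _),
    pElements_component hK (dvd_card_of_component_of_core_eq_bot pPrimeCore_quotient_self hK)]

theorem pComponentOver_isSubnormal {Kbar : Subgroup (G ⧸ Cfsg.pPrimeCore p G)}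
    (hK : Kbar.IsSubnormal) : (pComponentOver p Kbar).IsSubnormal :=
  isSubnormal_of_le_normalizer (pElements_le _)
    (le_normalizer.trans (normalizer_le_normalizer_pElements _)) (hK.comap _)

theorem pComponentOver_le_of_map_eq [Finite G] {H : Subgroup G} (hH : H.IsSubnormal)
    {Kbar : Subgroup (G ⧸ Cfsg.pPrimeCore p G)}
    (hmap : H.map (QuotientGroup.mk' (Cfsg.pPrimeCore p G)) = Kbar) :
    pComponentOver p Kbar ≤ H := by
  refine pElements_le_of_isSubnormal hH (Nat.Coprime.coprime_dvd_left ?_ (coprime_card_pPrimeCore (G := G) p))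
  rw [← hmap, comap_map_eq, QuotientGroup.ker_mk']
  have h2 : Nat.card H * H.relIndex (H ⊔ Cfsg.pPrimeCore p G) =
      Nat.card ↥(H ⊔ Cfsg.pPrimeCore p G) := by
    rw [relIndex, ← Nat.card_congr (subgroupOfEquivOfLe
      (le_sup_left : H ≤ H ⊔ Cfsg.pPrimeCore p G)).toEquiv, card_mul_index]
  have h1 := card_sup_dvd (A := H) (B := Cfsg.pPrimeCore p G) le_normalizer_of_normal
  rw [← h2] at h1
  exact Nat.dvd_of_mul_dvd_mul_left Nat.card_pos h1

theorem isPComponent_over [Finite G] [Fact p.Prime]
    {Kbar : Subgroup (G ⧸ Cfsg.pPrimeCore p G)} (hK : Cfsg.IsComponent Kbar) :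
    Cfsg.IsPComponent p (pComponentOver p Kbar) := by
  refine ⟨pComponentOver_isSubnormal hK.1, ?_, fun H hH hle he => ?_⟩
  · rw [pComponentOver_map hK]
    exact hK
  · rw [pComponentOver_map hK] at he
    exact le_antisymm hle (pComponentOver_le_of_map_eq hH he)

theorem pComponent_eq_over [Finite G] [Fact p.Prime] {K : Subgroup G}
    (hK : Cfsg.IsPComponent p K) :
    pComponentOver p (K.map (QuotientGroup.mk' (Cfsg.pPrimeCore p G))) = K :=
  hK.2.2 _ (pComponentOver_isSubnormal hK.2.1.1) (pComponentOver_le_of_map_eq hK.1 rfl)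
    (pComponentOver_map hK.2.1)

theorem pComponent_eq_of_map_eq [Finite G] [Fact p.Prime] {K K' : Subgroup G}
    (hK : Cfsg.IsPComponent p K) (hK' : Cfsg.IsPComponent p K')
    (h : K.map (QuotientGroup.mk' (Cfsg.pPrimeCore p G)) =
      K'.map (QuotientGroup.mk' (Cfsg.pPrimeCore p G))) : K = K' := by
  rw [← pComponent_eq_over hK, h, pComponent_eq_over hK']

theorem pComponent_existsUnique [Finite G] [Fact p.Prime]
    {Kbar : Subgroup (G ⧸ Cfsg.pPrimeCore p G)} (hK : Cfsg.IsComponent Kbar) :
    ∃! K : Subgroup G, Cfsg.IsPComponent p K ∧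
      K.map (QuotientGroup.mk' (Cfsg.pPrimeCore p G)) = Kbar :=
  ⟨_, ⟨isPComponent_over hK, pComponentOver_map hK⟩,
    fun K ⟨h, he⟩ => by rw [← pComponent_eq_over h, he]⟩

theorem pElements_pComponent [Finite G] [Fact p.Prime] {K : Subgroup G}
    (hK : Cfsg.IsPComponent p K) : pElements p K = K := by
  refine le_antisymm (pElements_le K) ?_
  conv_lhs => rw [← pComponent_eq_over hK]
  refine pElements_le_iff.mpr fun x hx k hk => mem_pElements ?_ hk
  rw [← pComponent_eq_over hK]
  exact mem_pElements hx hk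

theorem pComponent_le_of_subnormal_coprime_index [Finite G] [Fact p.Prime] {K H : Subgroup G}
    (hK : Cfsg.IsPComponent p K) (hH : H.IsSubnormal) (h : (H.relIndex K).Coprime p) : K ≤ H :=
  (pElements_pComponent hK).symm.trans_le (pElements_le_of_isSubnormal hH h)

theorem pComponent_commutator_self {K : Subgroup G} (hK : Cfsg.IsPComponent p K) :
    ⁅K, K⁆ = K :=
  hK.2.2 _ (isSubnormal_of_le_normalizer (commutator_le_self K)
    (normalizer_commutator_ge_left K K) hK.1) (commutator_le_self K)
    (by rw [map_commutator, component_commutator_self hK.2.1])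

theorem pComponent_not_le_core {K : Subgroup G} (hK : Cfsg.IsPComponent p K) :
    ¬ K ≤ Cfsg.pPrimeCore p G := fun h =>
  component_ne_bot hK.2.1 ((Subgroup.map_eq_bot_iff K).mpr (h.trans (QuotientGroup.ker_mk' _).ge))

theorem pComponent_dvd_card [Finite G] [Fact p.Prime] {K : Subgroup G}
    (hK : Cfsg.IsPComponent p K) : p ∣ Nat.card K :=
  (dvd_card_of_component_of_core_eq_bot pPrimeCore_quotient_self hK.2.1).trans
    (card_map_dvd K _)

/-- An element normalizing the image of a `p`-component normalizes the `p`-component. -/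
theorem mem_normalizer_pComponent [Finite G] [Fact p.Prime] {K : Subgroup G}
    (hK : Cfsg.IsPComponent p K) {g : G}
    (hg : QuotientGroup.mk' (Cfsg.pPrimeCore p G) g ∈
      normalizer (K.map (QuotientGroup.mk' (Cfsg.pPrimeCore p G)) : Set _)) :
    g ∈ normalizer (K : Set G) := by
  rw [← pComponent_eq_over hK]
  exact normalizer_le_normalizer_pElements _ (le_normalizer_comap _ hg)

theorem pComponent_le_normalizer [Finite G] [Fact p.Prime] {K K' : Subgroup G}
    (hK : Cfsg.IsPComponent p K) (hK' : Cfsg.IsPComponent p K') :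
    K' ≤ normalizer (K : Set G) := fun g hg =>
  mem_normalizer_pComponent hK (component_le_normalizer hK.2.1 hK'.2.1 ⟨g, hg, rfl⟩)

theorem core_le_normalizer_pComponent [Finite G] [Fact p.Prime] {K : Subgroup G}
    (hK : Cfsg.IsPComponent p K) : Cfsg.pPrimeCore p G ≤ normalizer (K : Set G) := fun g hg =>
  mem_normalizer_pComponent hK (by
    rw [show QuotientGroup.mk' (Cfsg.pPrimeCore p G) g = 1 from (QuotientGroup.eq_one_iff g).mpr hg]
    exact one_mem _)

theorem pLayer_le_normalizer_pComponent [Finite G] [Fact p.Prime] {K : Subgroup G}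
    (hK : Cfsg.IsPComponent p K) : Cfsg.pLayer p G ≤ normalizer (K : Set G) :=
  sSup_le fun _ hK' => pComponent_le_normalizer hK hK'

theorem pComponent_le_pLayer {K : Subgroup G} (hK : Cfsg.IsPComponent p K) :
    K ≤ Cfsg.pLayer p G :=
  le_sSup hK

theorem isPComponent_map_equiv {G' : Type*} [Group G'] (e : G ≃* G') {K : Subgroup G}
    (hK : Cfsg.IsPComponent p K) : Cfsg.IsPComponent p (K.map e.toMonoidHom) := by
  set ebar := QuotientGroup.congr (Cfsg.pPrimeCore p G) (Cfsg.pPrimeCore p G') e
    (pPrimeCore_map_equiv p e) with hebar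
  have hcomm : ∀ H : Subgroup G, (H.map e.toMonoidHom).map (QuotientGroup.mk' (Cfsg.pPrimeCore p G')) =
      (H.map (QuotientGroup.mk' (Cfsg.pPrimeCore p G))).map ebar.toMonoidHom := fun H => by
    rw [Subgroup.map_map, Subgroup.map_map]
    rfl
  refine ⟨isSubnormal_map_mulEquiv e hK.1, ?_, fun H hH hle he => ?_⟩
  · rw [hcomm]
    exact component_map_equiv ebar hK.2.1
  · have hcomp : e.toMonoidHom.comp e.symm.toMonoidHom = MonoidHom.id G' := by ext; simp
    have hcomp' : e.symm.toMonoidHom.comp e.toMonoidHom = MonoidHom.id G := by ext; simp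
    have hH' : (H.map e.symm.toMonoidHom).map e.toMonoidHom = H := by
      rw [Subgroup.map_map, hcomp, Subgroup.map_id]
    rw [← hH', hcomm, hcomm] at he
    rw [← hH', hK.2.2 (H.map e.symm.toMonoidHom) (isSubnormal_map_mulEquiv e.symm hH) ?_
      (map_injective ebar.injective he)]
    calc H.map e.symm.toMonoidHom ≤ (K.map e.toMonoidHom).map e.symm.toMonoidHom := map_mono hle
      _ = K := by rw [Subgroup.map_map, hcomp', Subgroup.map_id]

theorem pLayer_map_equiv {G' : Type*} [Group G'] (e : G ≃* G') :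
    (Cfsg.pLayer p G).map e.toMonoidHom = Cfsg.pLayer p G' :=
  le_antisymm (map_sSup_subset _ fun K hK => isPComponent_map_equiv e hK)
    (le_map_of_map_symm_le e (map_sSup_subset _ fun K hK => isPComponent_map_equiv e.symm hK))

instance pLayer_characteristic_inst : (Cfsg.pLayer p G).Characteristic :=
  characteristic_iff_map_eq.mpr fun e => pLayer_map_equiv e

theorem pLayer_map_mk [Finite G] [Fact p.Prime] :
    (Cfsg.pLayer p G).map (QuotientGroup.mk' (Cfsg.pPrimeCore p G)) =
      Cfsg.layer (G ⧸ Cfsg.pPrimeCore p G) :=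
  le_antisymm (map_sSup_subset _ fun K hK => hK.2.1) (sSup_le fun Kbar hKbar => by
    rw [← pComponentOver_map hKbar]
    exact map_mono (pComponent_le_pLayer (isPComponent_over hKbar)))

theorem pLayer_comap_mk [Finite G] [Fact p.Prime] :
    (Cfsg.layer (G ⧸ Cfsg.pPrimeCore p G)).comap (QuotientGroup.mk' (Cfsg.pPrimeCore p G)) =
      Cfsg.pLayer p G ⊔ Cfsg.pPrimeCore p G := by
  rw [← pLayer_map_mk, comap_map_eq, QuotientGroup.ker_mk']

theorem pLayer_eq_bot_iff [Finite G] [Fact p.Prime] :
    Cfsg.pLayer p G = ⊥ ↔ Cfsg.layer (G ⧸ Cfsg.pPrimeCore p G) = ⊥ := by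
  constructor
  · intro h
    rw [← pLayer_map_mk, h, Subgroup.map_bot]
  · intro h
    exact le_bot_iff.mp (sSup_le fun K hK => absurd hK.2.1 (layer_eq_bot_iff.mp h _))

/-- `O_{p'}(K) = K ∩ O_{p'}(G)` for subnormal `K`. -/
theorem pPrimeCore_subnormal_map [Finite G] {K : Subgroup G} (hK : K.IsSubnormal) :
    (Cfsg.pPrimeCore p K).map K.subtype = K ⊓ Cfsg.pPrimeCore p G := by
  refine le_antisymm (le_inf (map_subtype_le _) (le_pPrimeCore_of_isSubnormal
    ((Normal.isSubnormal inferInstance).trans' hK) ?_)) ?_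
  · rw [card_map_of_injective K.subtype_injective]
    exact coprime_card_pPrimeCore p
  · rintro x ⟨hx, hxO⟩
    refine ⟨⟨x, hx⟩, le_pPrimeCore_of_normal
      (inferInstance : ((Cfsg.pPrimeCore p G).subgroupOf K).Normal) ?_ hxO, rfl⟩
    exact Nat.Coprime.coprime_dvd_left (card_comap_dvd_of_injective _ _ K.subtype_injective)
      (coprime_card_pPrimeCore p)

theorem pPrimeCore_subnormal_eq [Finite G] {K : Subgroup G} (hK : K.IsSubnormal) :
    Cfsg.pPrimeCore p K = (Cfsg.pPrimeCore p G).subgroupOf K := by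
  apply map_injective K.subtype_injective
  rw [pPrimeCore_subnormal_map hK, subgroupOf, map_comap_eq, range_subtype]

theorem pComponent_quotient_quasisimple [Finite G] {K : Subgroup G}
    (hK : Cfsg.IsPComponent p K) : Cfsg.IsQuasisimple (↥K ⧸ Cfsg.pPrimeCore p K) := by
  set f := (QuotientGroup.mk' (Cfsg.pPrimeCore p G)).comp K.subtype with hf
  have hrange : f.range = K.map (QuotientGroup.mk' (Cfsg.pPrimeCore p G)) := by
    rw [hf, MonoidHom.range_comp, range_subtype]
  have hker : f.ker = Cfsg.pPrimeCore p K := by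
    rw [hf, ← MonoidHom.comap_ker, QuotientGroup.ker_mk', pPrimeCore_subnormal_eq hK.1, subgroupOf]
  exact (quasisimple_congr ((QuotientGroup.quotientMulEquivOfEq hker.symm).trans
    ((QuotientGroup.quotientKerEquivRange f).trans (MulEquiv.subgroupCongr hrange)))).mpr hK.2.1.2

/-- A component not inside `O_{p'}(G)` is a `p`-component. -/
theorem component_isPComponent [Finite G] [Fact p.Prime] {L : Subgroup G}
    (hL : Cfsg.IsComponent L) (h : ¬ L ≤ Cfsg.pPrimeCore p G) : Cfsg.IsPComponent p L := by
  have hc : Cfsg.IsComponent (L.map (QuotientGroup.mk' (Cfsg.pPrimeCore p G))) :=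
    component_map_of_surjective (QuotientGroup.mk'_surjective _) hL
      fun e => h (((Subgroup.map_eq_bot_iff L).mp e).trans (QuotientGroup.ker_mk' _).le)
  refine ⟨hL.1, hc, fun H hH hle he => ?_⟩
  rcases quasisimple_subnormal_top_or_central hL.2 hH.subgroupOf with h1 | h1
  · exact le_antisymm hle (subgroupOf_eq_top.mp h1)
  · exfalso
    refine component_commutator_self_ne_bot hc ?_
    rw [← he, ← map_commutator]
    refine (Subgroup.map_eq_bot_iff _).mpr (le_trans (le_of_eq ?_) bot_le)
    rw [commutator_eq_bot_iff_le_centralizer]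
    intro x hx y hy
    exact congrArg Subtype.val
      (mem_center_iff.mp (h1 (show (⟨x, hle hx⟩ : L) ∈ H.subgroupOf L from hx)) ⟨y, hle hy⟩)

theorem isPComponent_iff_of_core_eq_bot [Finite G] [Fact p.Prime]
    (hO : Cfsg.pPrimeCore p G = ⊥) {K : Subgroup G} :
    Cfsg.IsPComponent p K ↔ Cfsg.IsComponent K := by
  constructor
  · intro hK
    have hinj : Function.Injective (QuotientGroup.mk' (Cfsg.pPrimeCore p G)) := by
      rw [← MonoidHom.ker_eq_bot_iff, QuotientGroup.ker_mk', hO]
    exact ⟨hK.1, (quasisimple_congr (K.equivMapOfInjective _ hinj)).mpr hK.2.1.2⟩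
  · intro h
    exact component_isPComponent h fun hle => component_ne_bot h (le_bot_iff.mp (hO ▸ hle))

theorem pLayer_eq_layer_of_core_eq_bot [Finite G] [Fact p.Prime]
    (hO : Cfsg.pPrimeCore p G = ⊥) : Cfsg.pLayer p G = Cfsg.layer G :=
  congrArg sSup (Set.ext fun _ => isPComponent_iff_of_core_eq_bot hO)

/-- A perfect subgroup is generated by its elements of order prime to `p`. -/
theorem le_of_coprime_orderOf_mem [Finite G] [hp : Fact p.Prime] {K S : Subgroup G}
    (hK : ⁅K, K⁆ = K) (h : ∀ x ∈ K, (orderOf x).Coprime p → x ∈ S) : K ≤ S := by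
  haveI : Group.IsPerfect K := isPerfect_iff.mpr hK
  set T : Subgroup K := closure {x : K | (orderOf x).Coprime p} with hT
  haveI hTn : T.Normal := by
    refine normal_of_map_conj_le fun g => ?_
    rw [hT, MonoidHom.map_closure]
    refine closure_mono ?_
    rintro _ ⟨x, hx, rfl⟩
    show (orderOf _).Coprime p
    rwa [show orderOf ((MulAut.conj g).toMonoidHom x) = orderOf x from MulEquiv.orderOf_eq _ _]
  have hpg : IsPGroup p (K ⧸ T) := by
    intro q
    obtain ⟨x, rfl⟩ := QuotientGroup.mk'_surjective T q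
    obtain ⟨a, m, hm, hxm⟩ :=
      Nat.exists_eq_pow_mul_and_not_dvd (orderOf_pos x).ne' p hp.out.ne_one
    refine ⟨a, ?_⟩
    rw [← map_pow]
    refine (QuotientGroup.eq_one_iff _).mpr (subset_closure ?_)
    show (orderOf _).Coprime p
    refine Nat.Coprime.coprime_dvd_left (orderOf_dvd_of_pow_eq_one ?_)
      ((hp.out.coprime_iff_not_dvd).mpr hm).symm
    rw [← pow_mul, ← hxm, pow_orderOf_eq_one]
  haveI : Group.IsNilpotent (K ⧸ T) := hpg.isNilpotent
  have htop : T = ⊤ := by
    by_contra hne
    haveI : Nontrivial (K ⧸ T) := QuotientGroup.nontrivial_iff.mpr hne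
    exact Group.IsPerfect.not_isNilpotent (K ⧸ T) inferInstance
  intro x hx
  have hle : T ≤ S.subgroupOf K :=
    (closure_le _).mpr fun y hy => h y y.2 (by rw [orderOf_coe]; exact hy)
  exact hle (htop ▸ mem_top (⟨x, hx⟩ : K))

/-- A `p`-component is quasisimple iff it centralizes its `p'`-core. -/
theorem pComponent_quasisimple_iff [Finite G] [Fact p.Prime] {K : Subgroup G}
    (hK : Cfsg.IsPComponent p K) :
    Cfsg.IsQuasisimple K ↔ ⁅K, (Cfsg.pPrimeCore p K).map K.subtype⁆ = ⊥ := by
  rw [pPrimeCore_subnormal_map hK.1]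
  constructor
  · intro h
    rcases component_le_or_commutator_normal (L := K) ⟨hK.1, h⟩
      (inferInstance : (Cfsg.pPrimeCore p G).Normal) with h1 | h1
    · exact absurd h1 (pComponent_not_le_core hK)
    · exact le_bot_iff.mp (h1 ▸ commutator_mono le_rfl inf_le_right)
  · intro h
    haveI : Group.IsPerfect K := isPerfect_iff.mpr (pComponent_commutator_self hK)
    have hnt : Nontrivial K := (nontrivial_iff_ne_bot K).mpr fun e =>
      pComponent_not_le_core hK (e ▸ bot_le)
    refine isQuasisimple_of (isPerfect_iff.mpr (pComponent_commutator_self hK)) hnt fun M hM => ?_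
    set π := QuotientGroup.mk' (Cfsg.pPrimeCore p G)
    have hMs : (M.map K.subtype).IsSubnormal := hM.isSubnormal.trans' hK.1
    rcases quasisimple_subnormal_top_or_central hK.2.1.2
      ((hMs.map (QuotientGroup.mk'_surjective _)).subgroupOf (K := K.map π)) with h1 | h1
    · left
      have := hK.2.2 _ hMs (map_subtype_le M)
        (le_antisymm (map_mono (map_subtype_le M)) (subgroupOf_eq_top.mp h1))
      exact map_injective K.subtype_injective (this.trans (by
        rw [← MonoidHom.range_eq_map, range_subtype]))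
    · right
      have h2 : ⁅M.map K.subtype, K⁆ ≤ K ⊓ Cfsg.pPrimeCore p G := by
        refine le_inf ((commutator_mono (map_subtype_le M) le_rfl).trans (commutator_le_self K)) ?_
        refine ((Subgroup.map_eq_bot_iff _).mp ?_).trans (QuotientGroup.ker_mk' _).le
        rw [map_commutator, commutator_eq_bot_iff_le_centralizer]
        intro x hx y hy
        exact congrArg Subtype.val (mem_center_iff.mp (h1 (show (⟨x, map_mono (map_subtype_le M) hx⟩ :
          K.map π) ∈ ((M.map K.subtype).map π).subgroupOf _ from hx)) ⟨y, hy⟩)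
      have h3 : ⁅K, M.map K.subtype⁆ = ⊥ := commutator_eq_bot_of_perfect
        (pComponent_commutator_self hK) (by
          rw [eq_bot_iff, ← h, commutator_comm K (K ⊓ _), commutator_comm K (M.map K.subtype)]
          exact commutator_mono h2 le_rfl)
      intro m hm
      rw [mem_center_iff]
      intro x
      exact Subtype.ext ((le_centralizer_of_commutator_eq_bot h3) x.2 _ ⟨m, hm, rfl⟩).symm

/-- Distinct `p`-components commute modulo `O_{p'}` of each. -/
theorem pComponent_commutator_le [Finite G] [Fact p.Prime] {K L : Subgroup G}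
    (hK : Cfsg.IsPComponent p K) (hL : Cfsg.IsPComponent p L) (hne : K ≠ L) :
    ⁅K, L⁆ ≤ K ⊓ L ⊓ Cfsg.pPrimeCore p G := by
  refine le_inf (le_inf ?_ ?_) (((Subgroup.map_eq_bot_iff _).mp ?_).trans (QuotientGroup.ker_mk' _).le)
  · exact le_normalizer_iff_commutator_le_left.mp (pComponent_le_normalizer hK hL)
  · exact le_normalizer_iff_commutator_le_right.mp (pComponent_le_normalizer hL hK)
  · rw [map_commutator]
    exact component_commutator_of_ne hK.2.1 hL.2.1 fun e => hne (pComponent_eq_of_map_eq hK hL e)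

theorem pComponent_commutator_of_quasisimple [Finite G] [Fact p.Prime] {K L : Subgroup G}
    (hK : Cfsg.IsPComponent p K) (hL : Cfsg.IsPComponent p L) (hne : K ≠ L)
    (hq : Cfsg.IsQuasisimple K) : ⁅K, L⁆ = ⊥ := by
  refine commutator_eq_bot_of_perfect (pComponent_commutator_self hK) ?_
  rw [eq_bot_iff, ← (pComponent_quasisimple_iff hK).mp hq, pPrimeCore_subnormal_map hK.1,
    commutator_comm K (K ⊓ _)]
  exact commutator_mono ((pComponent_commutator_le hK hL hne).trans
    (le_inf (inf_le_left.trans inf_le_left) inf_le_right)) le_rfl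

end CfsgLib.Components
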