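import Cfsg.Prelude.Def_Local
import Cfsg.Agent.Lib.Components.PLayer
import Cfsg.Agent.Lib.Solvable.CoprimeAction

/-!
Local subgroups and components: what `O_{p'}(N)`, the `p`-components and the components of a
`p`-local subgroup do to `O_p(G)` and to the components of `G`.

`N` is throughout a subgroup with `P ≤ N`, `C_G(P) ≤ N ≤ N_G(P)`; this covers both `N = N_G(P)` and
`N = C_G(P)` for abelian `P`.
-/

set_option autoImplicit false
set_option linter.style.haveILetI false
set_option linter.unusedVariables false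
set_option linter.unusedSectionVars false

namespace CfsgLib.Components

open Subgroup

variable {G : Type*} [Group G] [Finite G] {p : ℕ} [hp : Fact p.Prime]

/-- Thompson's `P × Q` lemma on `O_p(G)`, in element form. -/
theorem mem_centralizer_pCore_of_coprime {P : Subgroup G} (hP : IsPGroup p P) {x : G}
    (hx : (orderOf x).Coprime p) (hxP : x ∈ centralizer (P : Set G))
    (hC : ∀ v ∈ Cfsg.pCore p G, v ∈ centralizer (P : Set G) → x * v = v * x) :
    x ∈ centralizer (Cfsg.pCore p G : Set G) := by
  refine CfsgLib.Solvable.thompson_pxq (Q := zpowers x) hP ?_ (isPGroup_pCore p) ?_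
    le_normalizer_of_normal le_normalizer_of_normal ?_ (mem_zpowers x)
  · rwa [Nat.card_zpowers]
  · exact le_centralizer_iff.mp ((zpowers_le).mpr hxP)
  · exact le_centralizer_iff.mp ((zpowers_le).mpr fun v hv => (hC v hv.1 hv.2).symm)

/-- A perfect subgroup centralizing `P` and `O_p(G) ∩ C(P)` centralizes `O_p(G)`. -/
theorem perfect_le_centralizer_pCore {P : Subgroup G} (hP : IsPGroup p P) {K : Subgroup G}
    (hK : ⁅K, K⁆ = K) (hKP : K ≤ centralizer (P : Set G))
    (hC : ∀ x ∈ K, ∀ v ∈ Cfsg.pCore p G, v ∈ centralizer (P : Set G) → x * v = v * x) :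
    K ≤ centralizer (Cfsg.pCore p G : Set G) :=
  le_of_coprime_orderOf_mem hK fun x hx hcop =>
    mem_centralizer_pCore_of_coprime hP hcop (hKP hx) (hC x hx)

/-! ### Inside `N` -/

theorem isPGroup_subgroupOf {A N : Subgroup G} (hA : IsPGroup p A) : IsPGroup p ↥(A.subgroupOf N) :=
  hA.comap_of_injective _ N.subtype_injective

theorem subgroupOf_le_pCore {P N : Subgroup G} (hP : IsPGroup p P) (hPN : P ≤ N)
    (hN : N ≤ normalizer (P : Set G)) : P.subgroupOf N ≤ Cfsg.pCore p N :=
  le_pCore_of_normal ((normal_subgroupOf_iff_le_normalizer hPN).mpr hN) (isPGroup_subgroupOf hP)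

theorem pCore_subgroupOf_le_pCore (N : Subgroup G) :
    (Cfsg.pCore p G).subgroupOf N ≤ Cfsg.pCore p N :=
  le_pCore_of_normal inferInstance (isPGroup_subgroupOf (isPGroup_pCore p))

theorem pPrimeCore_le_centralizer_of_normal_pGroup {R : Subgroup G} (hR : R.Normal)
    (hp' : IsPGroup p R) : Cfsg.pPrimeCore p G ≤ centralizer (R : Set G) := by
  haveI := hR
  refine le_centralizer_of_commutator_eq_bot (commutator_eq_bot_of_disjoint (disjoint_iff.mpr ?_))
  refine inf_eq_bot_of_coprime ?_
  obtain ⟨n, hn⟩ := hp'.exists_card_eq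
  rw [hn]
  exact (coprime_card_pPrimeCore p).pow_right n

theorem pComponent_le_centralizer_of_normal_pGroup {K R : Subgroup G}
    (hK : Cfsg.IsPComponent p K) (hR : R.Normal) (hp' : IsPGroup p R) :
    K ≤ centralizer (R : Set G) := by
  haveI := hR
  set π := QuotientGroup.mk' (Cfsg.pPrimeCore p G)
  haveI : (R.map π).Normal := hR.map _ (QuotientGroup.mk'_surjective _)
  have h1 : ⁅K.map π, R.map π⁆ = ⊥ := component_commutator_solvable hK.2.1
    (haveI := (hp'.map π).isNilpotent; inferInstance) le_normalizer_of_normal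
  rw [← map_commutator] at h1
  have h2 : ⁅K, R⁆ ≤ R ⊓ Cfsg.pPrimeCore p G :=
    le_inf (commutator_le_right _ _) (((Subgroup.map_eq_bot_iff _).mp h1).trans (QuotientGroup.ker_mk' _).le)
  refine le_centralizer_of_commutator_eq_bot (le_bot_iff.mp (h2.trans (le_of_eq ?_)))
  obtain ⟨n, hn⟩ := hp'.exists_card_eq
  refine inf_eq_bot_of_coprime ?_
  rw [hn]
  exact ((coprime_card_pPrimeCore p).pow_right n).symm

theorem pPrimeCore_le_centralizer_pCore_self :
    Cfsg.pPrimeCore p G ≤ centralizer (Cfsg.pCore p G : Set G) :=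
  pPrimeCore_le_centralizer_of_normal_pGroup inferInstance (isPGroup_pCore p)

theorem pLayer_le_centralizer_pCore :
    Cfsg.pLayer p G ≤ centralizer (Cfsg.pCore p G : Set G) :=
  sSup_le fun _ hK => pComponent_le_centralizer_of_normal_pGroup hK inferInstance (isPGroup_pCore p)

theorem pCore_le_centralizer_pPrimeCore :
    Cfsg.pCore p G ≤ centralizer (Cfsg.pPrimeCore p G : Set G) :=
  le_centralizer_iff.mp pPrimeCore_le_centralizer_pCore_self

/-- Transfer: what centralizes `O_p(N)` inside `N` centralizes `P` and `O_p(G) ∩ C(P)`. -/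
theorem map_le_centralizer_of_le_centralizer_pCore {P N : Subgroup G} (hP : IsPGroup p P)
    (hPN : P ≤ N) (hN : N ≤ normalizer (P : Set G)) {K : Subgroup N}
    (hK : K ≤ centralizer (Cfsg.pCore p N : Set N)) :
    K.map N.subtype ≤ centralizer (P : Set G) := by
  rintro _ ⟨k, hk, rfl⟩ y hy
  exact congrArg Subtype.val
    (hK hk ⟨y, hPN hy⟩ (subgroupOf_le_pCore hP hPN hN (show (⟨y, hPN hy⟩ : N) ∈ P.subgroupOf N from hy)))

theorem commute_pCore_of_le_centralizer_pCore {N : Subgroup G} {K : Subgroup N}
    (hK : K ≤ centralizer (Cfsg.pCore p N : Set N)) {x v : G} (hx : x ∈ K.map N.subtype)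
    (hv : v ∈ Cfsg.pCore p G) (hvN : v ∈ N) : x * v = v * x := by
  obtain ⟨k, hk, rfl⟩ := hx
  exact (congrArg Subtype.val
    (hK hk ⟨v, hvN⟩ (pCore_subgroupOf_le_pCore N (show (⟨v, hvN⟩ : N) ∈ (Cfsg.pCore p G).subgroupOf N from hv)))).symm

/-- `O_{p'}(N)` centralizes `O_p(G)`. -/
theorem pPrimeCore_local_le_centralizer_pCore {P N : Subgroup G} (hP : IsPGroup p P)
    (hPN : P ≤ N) (hCN : centralizer (P : Set G) ≤ N) (hN : N ≤ normalizer (P : Set G)) :
    (Cfsg.pPrimeCore p N).map N.subtype ≤ centralizer (Cfsg.pCore p G : Set G) := fun x hx =>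
  mem_centralizer_pCore_of_coprime hP
    (Nat.Coprime.coprime_dvd_left (orderOf_dvd_natCard _ hx)
      (by rw [card_map_of_injective N.subtype_injective]; exact coprime_card_pPrimeCore p))
    (map_le_centralizer_of_le_centralizer_pCore hP hPN hN pPrimeCore_le_centralizer_pCore_self hx)
    fun v hv hvc => commute_pCore_of_le_centralizer_pCore pPrimeCore_le_centralizer_pCore_self hx hv (hCN hvc)

/-- A `p`-component of `N` centralizes `O_p(G)`. -/
theorem pComponent_local_le_centralizer_pCore {P N : Subgroup G} (hP : IsPGroup p P)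
    (hPN : P ≤ N) (hCN : centralizer (P : Set G) ≤ N) (hN : N ≤ normalizer (P : Set G))
    {K : Subgroup N} (hK : Cfsg.IsPComponent p K) :
    K.map N.subtype ≤ centralizer (Cfsg.pCore p G : Set G) := by
  have hKc : K ≤ centralizer (Cfsg.pCore p N : Set N) :=
    (pComponent_le_pLayer hK).trans pLayer_le_centralizer_pCore
  refine perfect_le_centralizer_pCore hP ?_
    (map_le_centralizer_of_le_centralizer_pCore hP hPN hN hKc)
    fun x hx v hv hvc => commute_pCore_of_le_centralizer_pCore hKc hx hv (hCN hvc)
  rw [← map_commutator, pComponent_commutator_self hK]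

theorem pLayer_local_le_centralizer_pCore {P N : Subgroup G} (hP : IsPGroup p P)
    (hPN : P ≤ N) (hCN : centralizer (P : Set G) ≤ N) (hN : N ≤ normalizer (P : Set G)) :
    (Cfsg.pLayer p N ⊔ Cfsg.pPrimeCore p N).map N.subtype ≤
      centralizer (Cfsg.pCore p G : Set G) := by
  rw [Subgroup.map_sup]
  refine sup_le ?_ (pPrimeCore_local_le_centralizer_pCore hP hPN hCN hN)
  rw [map_le_iff_le_comap]
  refine sSup_le fun K hK => ?_
  rw [← map_le_iff_le_comap]
  exact pComponent_local_le_centralizer_pCore hP hPN hCN hN hK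

/-- The components of `N` centralize `O_p(G)`. -/
theorem component_local_le_centralizer_pCore {P N : Subgroup G} (hP : IsPGroup p P)
    (hPN : P ≤ N) (hCN : centralizer (P : Set G) ≤ N) (hN : N ≤ normalizer (P : Set G))
    {L : Subgroup N} (hL : Cfsg.IsComponent L) :
    L.map N.subtype ≤ centralizer (Cfsg.pCore p G : Set G) := by
  have hLc : L ≤ centralizer (Cfsg.pCore p N : Set N) :=
    (component_le_layer hL).trans (layer_le_centralizer_pCore p)
  refine perfect_le_centralizer_pCore hP ?_
    (map_le_centralizer_of_le_centralizer_pCore hP hPN hN hLc)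
    fun x hx v hv hvc => commute_pCore_of_le_centralizer_pCore hLc hx hv (hCN hvc)
  rw [← map_commutator, component_commutator_self hL]

/-- Subnormality passes down along an inclusion. -/
theorem isSubnormal_subgroupOf_of_le {N C : Subgroup G} (hC : C ≤ N) {K : Subgroup N}
    (hK : K.IsSubnormal) : ((K.map N.subtype).subgroupOf C).IsSubnormal := by
  have h : (K.map N.subtype).subgroupOf C = K.comap (inclusion hC) := by
    ext c
    rw [mem_subgroupOf, mem_comap]
    constructor
    · rintro ⟨k, hk, he⟩
      rwa [show inclusion hC c = k from Subtype.ext he.symm]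
    · intro h
      exact ⟨_, h, rfl⟩
  rw [h]
  exact hK.comap _

/-- A component of `N` inside a normal subgroup `C ≤ N` of `G` is a component of `G`. -/
theorem component_of_local {N C : Subgroup G} (hC : C ≤ N) [C.Normal] {L : Subgroup N}
    (hL : Cfsg.IsComponent L) (hLC : L.map N.subtype ≤ C) :
    Cfsg.IsComponent (L.map N.subtype) :=
  ⟨IsSubnormal.trans hLC (isSubnormal_subgroupOf_of_le hC hL.1) (Normal.isSubnormal inferInstance),
    (quasisimple_congr (L.equivMapOfInjective _ N.subtype_injective)).mp hL.2⟩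

theorem layer_normalizer_eq {P : Subgroup G} (hP : P ≤ Cfsg.pCore p G) :
    (Cfsg.layer ↥(normalizer (P : Set G))).map (normalizer (P : Set G)).subtype = Cfsg.layer G := by
  have hC : centralizer (Cfsg.pCore p G : Set G) ≤ normalizer (P : Set G) :=
    (centralizer_le hP).trans (centralizer_le_normalizer _)
  refine le_antisymm ?_ (sSup_le fun L hL => ?_)
  · rw [map_le_iff_le_comap]
    refine sSup_le fun L hL => ?_
    rw [← map_le_iff_le_comap]
    exact component_le_layer (component_of_local hC hL
      (component_local_le_centralizer_pCore ((isPGroup_pCore p).to_le hP) le_normalizer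
        (centralizer_le_normalizer _) le_rfl hL))
  · have hle : L ≤ normalizer (P : Set G) :=
      (component_le_layer hL).trans ((layer_le_centralizer_pCore p).trans hC)
    rw [← map_subgroupOf_eq_of_le hle]
    exact map_mono (component_le_layer (component_subgroupOf hL hle))

/-- If `F*(G) = O_p(G)` then `F*(N) = O_p(N)`. -/
theorem genFitting_local_eq_pCore (h : Cfsg.generalizedFittingSubgroup G = Cfsg.pCore p G)
    {P N : Subgroup G} (hP : IsPGroup p P) (hPN : P ≤ N) (hCN : centralizer (P : Set G) ≤ N)
    (hN : N ≤ normalizer (P : Set G)) :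
    Cfsg.generalizedFittingSubgroup N = Cfsg.pCore p N := by
  have hV := (genFitting_eq_pCore_iff p).mp h
  rw [genFitting_eq_pCore_iff_criterion]
  refine ⟨layer_eq_bot_iff.mpr fun L hL => ?_, fun q hq hne => ?_⟩
  · have hle : L.map N.subtype ≤ Cfsg.pCore p G :=
      (component_local_le_centralizer_pCore hP hPN hCN hN hL).trans hV
    haveI := (((isPGroup_pCore (G := G) p).to_le hle).of_equiv
      (L.equivMapOfInjective _ N.subtype_injective).symm).isNilpotent
    exact component_not_isSolvable hL inferInstance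
  · haveI := Fact.mk hq
    have hqc : (Nat.card ↥(Cfsg.pCore q N)).Coprime p := by
      obtain ⟨n, hn⟩ := (isPGroup_pCore (G := N) q).exists_card_eq
      rw [hn]
      exact ((Nat.coprime_primes hq hp.out).mpr hne).pow_left n
    have hle : (Cfsg.pCore q N).map N.subtype ≤ Cfsg.pCore p G := by
      refine (map_mono (le_pPrimeCore_of_normal inferInstance hqc)).trans ?_
      exact (pPrimeCore_local_le_centralizer_pCore hP hPN hCN hN).trans hV
    rw [← Subgroup.card_eq_one]
    obtain ⟨m, hm⟩ := ((isPGroup_pCore (G := G) p).to_le hle).exists_card_eq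
    rw [card_map_of_injective N.subtype_injective] at hm
    exact Nat.eq_one_of_dvd_coprimes (hqc.pow_right m) dvd_rfl (hm ▸ dvd_rfl)

end CfsgLib.Components
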