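import Cfsg.Prelude.Def_Local
import Cfsg.Agent.Lib.Components.Local

/-!
When `O_{p'}(G) = 1`, the `p'`-core and the `p`-components of a `p`-local subgroup normalize every
component of `G`.  The proof is elementary: a `p`-element `u` of the product `E₀` of an orbit of
components under a `p`-group `Q ⊇ O_p(G)`, normalizing `Q` and not central in `E₀`, cannot be
carried by such an element into a different orbit.
-/

set_option autoImplicit false
set_option linter.style.haveILetI false
set_option linter.unusedVariables false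
set_option linter.unusedSectionVars false

namespace CfsgLib.Components

open Subgroup
open scoped commutatorElement

variable {G : Type*} [Group G] [Finite G] {p : ℕ} [hp : Fact p.Prime]

/-- The product of the orbit of `L` under conjugation by the elements of `Q`. -/
def orbitJoin (Q L : Subgroup G) : Subgroup G :=
  sSup {K : Subgroup G | ∃ q ∈ Q, L.map (MulAut.conj q).toMonoidHom = K}

theorem map_conj_map_conj (L : Subgroup G) (a b : G) :
    (L.map (MulAut.conj b).toMonoidHom).map (MulAut.conj a).toMonoidHom =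
      L.map (MulAut.conj (a * b)).toMonoidHom := by
  rw [Subgroup.map_map]
  congr 1
  ext x
  simp [mul_assoc]

theorem map_conj_one (L : Subgroup G) : L.map (MulAut.conj (1 : G)).toMonoidHom = L := by
  ext x
  simp

theorem le_orbitJoin (Q L : Subgroup G) : L ≤ orbitJoin Q L :=
  le_sSup ⟨1, one_mem Q, map_conj_one L⟩

theorem orbitJoin_le_layer {Q L : Subgroup G} (hL : Cfsg.IsComponent L) :
    orbitJoin Q L ≤ Cfsg.layer G :=
  sSup_le fun _ ⟨q, _, hq⟩ => hq ▸ component_le_layer (component_map_conj hL q)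

theorem le_normalizer_orbitJoin (Q L : Subgroup G) : Q ≤ normalizer (orbitJoin Q L : Set G) := by
  rw [le_normalizer_iff]
  intro a ha k hk
  have h : (orbitJoin Q L).map (MulAut.conj a).toMonoidHom ≤ orbitJoin Q L :=
    map_sSup_subset _ fun K ⟨q, hq, he⟩ => ⟨a * q, mul_mem ha hq, by rw [← map_conj_map_conj, he]⟩
  exact h ⟨k, hk, rfl⟩

/-- A `p`-element of the orbit product centralizing it lies in `O_p(G)`. -/
theorem mem_pCore_of_central_orbitJoin {Q L : Subgroup G} (hL : Cfsg.IsComponent L) {z : G}
    (hz : z ∈ orbitJoin Q L) (hzc : z ∈ centralizer (orbitJoin Q L : Set G)) {k : ℕ}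
    (hk : z ^ p ^ k = 1) : z ∈ Cfsg.pCore p G := by
  have hzE : z ∈ centralizer (Cfsg.layer G : Set G) := by
    have hle : Cfsg.layer G ≤ centralizer {z} := sSup_le fun M hM => by
      intro y hy u hu
      rw [Set.mem_singleton_iff] at hu
      subst hu
      by_cases hmem : ∃ q ∈ Q, L.map (MulAut.conj q).toMonoidHom = M
      · exact (hzc y (show y ∈ orbitJoin Q L from le_sSup (α := Subgroup G) hmem hy)).symm
      · have : ⁅M, orbitJoin Q L⁆ = ⊥ := commutator_sSup_eq_bot fun K ⟨q, hq, he⟩ =>
          component_commutator_of_ne hM (he ▸ component_map_conj hL q) fun e => hmem ⟨q, hq, he.trans e.symm⟩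
        exact le_centralizer_of_commutator_eq_bot this hy _ hz
    intro y hy
    exact (hle hy z (Set.mem_singleton z)).symm
  have hzZ : zpowers z ≤ Cfsg.layer G ⊓ centralizer (Cfsg.layer G : Set G) :=
    zpowers_le.mpr ⟨orbitJoin_le_layer hL hz, hzE⟩
  have hnorm : Cfsg.layer G ⊓ centralizer (Cfsg.layer G : Set G) ≤ normalizer (zpowers z : Set G) :=
    le_normalizer_of_commutator_eq_bot (commutator_eq_bot_iff_le_centralizer.mpr fun a ha b hb =>
      (ha.2 b (zpowers_le.mpr (orbitJoin_le_layer hL hz) hb)))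
  refine le_pCore_of_isSubnormal (isSubnormal_of_le_normalizer hzZ hnorm
    (Normal.isSubnormal inferInstance)) ?_ (mem_zpowers z)
  refine IsPGroup.of_card_dvd_pow (n := k) ?_
  rw [Nat.card_zpowers]
  exact orderOf_dvd_of_pow_eq_one hk

/-- Some `p`-element of the orbit product normalizes `Q` and is not central in it. -/
theorem exists_pElement_normalizing {Q L : Subgroup G} (hQ : IsPGroup p Q)
    (hV : Cfsg.pCore p G ≤ Q) (hL : Cfsg.IsComponent L) (hdvd : p ∣ Nat.card L) :
    ∃ u ∈ orbitJoin Q L, u ∈ normalizer (Q : Set G) ∧ (∃ k : ℕ, u ^ p ^ k = 1) ∧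
      u ∉ centralizer (orbitJoin Q L : Set G) := by
  set E0 := orbitJoin Q L with hE0
  set X := Q ⊔ E0 with hX
  have hQE : Q ≤ normalizer (E0 : Set G) := le_normalizer_orbitJoin Q L
  have hXE : X ≤ normalizer (E0 : Set G) := sup_le hQE le_normalizer
  obtain ⟨T, hT⟩ := (isPGroup_subgroupOf (N := X) hQ).exists_le_sylow
  set T' := (T : Subgroup X).map X.subtype with hT'
  have hTp : IsPGroup p T' := T.isPGroup'.map _
  have hTX : T' ≤ X := map_subtype_le _
  have hQT : Q ≤ T' := by
    rw [hT', ← map_subgroupOf_eq_of_le (le_sup_left : Q ≤ X)]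
    exact map_mono hT
  have hpow : ∀ x ∈ T', ∃ k : ℕ, x ^ p ^ k = 1 := fun x hx => by
    obtain ⟨k, hk⟩ := hTp ⟨x, hx⟩
    exact ⟨k, by simpa [Subtype.ext_iff] using hk⟩
  obtain ⟨r, hrT, hrE, hrc⟩ : ∃ r ∈ T', r ∈ E0 ∧ r ∉ centralizer (E0 : Set G) := by
    by_contra hcon
    push Not at hcon
    refine component_commutator_self_ne_bot hL (commutator_eq_bot_iff_le_centralizer.mpr ?_)
    conv_lhs => rw [← pElements_component hL hdvd]
    refine pElements_le_iff.mpr fun a ha k hk => ?_
    have haX : a ∈ X := mem_sup_right (le_orbitJoin Q L ha)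
    have hpa : IsPGroup p ↥(zpowers (⟨a, haX⟩ : X)) := by
      refine IsPGroup.of_card_dvd_pow (n := k) ?_
      rw [Nat.card_zpowers]
      exact orderOf_dvd_of_pow_eq_one (Subtype.ext hk)
    obtain ⟨T2, hT2⟩ := hpa.exists_le_sylow
    obtain ⟨x, hx⟩ := MulAction.exists_smul_eq X T2 T
    have hmem : ((x : G) * a * (x : G)⁻¹) ∈ T' := by
      refine ⟨x * ⟨a, haX⟩ * x⁻¹, ?_, rfl⟩
      rw [SetLike.mem_coe, ← hx]
      exact ⟨⟨a, haX⟩, hT2 (mem_zpowers _), rfl⟩
    have hxn : (x : G) ∈ normalizer (E0 : Set G) := hXE x.2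
    have hc := hcon _ hmem ((mem_normalizer_iff.mp hxn a).mp (le_orbitJoin Q L ha))
    intro e he
    have he' := hc _ ((mem_normalizer_iff.mp hxn e).mp (le_orbitJoin Q L he))
    have h2 : (x : G) * (e * a) * (x : G)⁻¹ = (x : G) * (a * e) * (x : G)⁻¹ := by
      simpa [mul_assoc] using he'
    exact mul_left_cancel (mul_right_cancel h2)
  by_cases hQc : ∃ a ∈ Q, a ∈ E0 ∧ a ∉ centralizer (E0 : Set G)
  · obtain ⟨a, haQ, haE, hac⟩ := hQc
    exact ⟨a, haE, le_normalizer haQ, hpow a (hQT haQ), hac⟩
  push Not at hQc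
  have hlt : Q.subgroupOf T' < ⊤ := by
    rw [lt_top_iff_ne_top, Ne, subgroupOf_eq_top]
    exact fun h => hrc (hQc r (h hrT) hrE)
  haveI : Group.IsNilpotent T' := hTp.isNilpotent
  obtain ⟨t, ht, htQ⟩ := SetLike.exists_of_lt
    (Group.normalizerCondition_of_isNilpotent (Q.subgroupOf T') hlt)
  have htn : (t : G) ∈ normalizer (Q : Set G) := by
    rw [← map_subgroupOf_eq_of_le hQT]
    exact le_normalizer_map T'.subtype ⟨t, ht, rfl⟩
  have htX : (t : G) ∈ ((Q ⊔ E0 : Subgroup G) : Set G) := hTX t.2
  rw [coe_mul_of_left_le_normalizer_right Q E0 hQE] at htX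
  obtain ⟨q, hq, e, he, hqe⟩ := htX
  have heq : e = q⁻¹ * (t : G) := by rw [← hqe]; simp
  have heT : e ∈ T' := heq ▸ mul_mem (inv_mem (hQT hq)) t.2
  refine ⟨e, he, heq ▸ mul_mem (inv_mem (le_normalizer hq)) htn, hpow e heT, fun hec => htQ ?_⟩
  obtain ⟨k, hk⟩ := hpow e heT
  show (t : G) ∈ Q
  rw [← hqe]
  exact mul_mem hq (hV (mem_pCore_of_central_orbitJoin hL he hec hk))

/-- An element of order prime to `p` centralizing `Q ⊇ O_p(G)` and moving the suitable
`p`-elements of `E(G)` only by `p'`-elements normalizes every component. -/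
theorem mem_normalizer_component_of_centralizes {Q L : Subgroup G} (hQ : IsPGroup p Q)
    (hV : Cfsg.pCore p G ≤ Q) (hL : Cfsg.IsComponent L) (hdvd : p ∣ Nat.card L) {g : G}
    (hg : g ∈ centralizer (Q : Set G)) (hgp : (orderOf g).Coprime p)
    (h : ∀ u ∈ Cfsg.layer G, u ∈ normalizer (Q : Set G) → ∀ k : ℕ, u ^ p ^ k = 1 →
      (orderOf ⁅g, u⁆).Coprime p) :
    g ∈ normalizer (L : Set G) := by
  obtain ⟨q, hq, heq⟩ : ∃ q ∈ Q, L.map (MulAut.conj q).toMonoidHom = L.map (MulAut.conj g).toMonoidHom := by
    by_contra hcon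
    obtain ⟨u, hu, huQ, ⟨k, hk⟩, huc⟩ := exists_pElement_normalizing hQ hV hL hdvd
    have hcomm : ⁅(orbitJoin Q L).map (MulAut.conj g).toMonoidHom, orbitJoin Q L⁆ = ⊥ := by
      rw [commutator_eq_bot_iff_le_centralizer, map_le_iff_le_comap]
      refine sSup_le ?_
      rintro K ⟨a, ha, rfl⟩
      rw [← map_le_iff_le_comap, map_conj_map_conj, ← commutator_eq_bot_iff_le_centralizer]
      refine commutator_sSup_eq_bot ?_
      rintro K' ⟨b, hb, rfl⟩
      refine component_commutator_of_ne (component_map_conj hL _) (component_map_conj hL _) fun e => hcon ?_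
      refine ⟨a⁻¹ * b, mul_mem (inv_mem ha) hb, ?_⟩
      rw [← map_conj_map_conj L a⁻¹ b, ← e, map_conj_map_conj, ← mul_assoc,
        hg _ (inv_mem ha), mul_assoc, inv_mul_cancel, mul_one]
    set u' := g * u * g⁻¹ with hu'
    have hu'mem : u' ∈ centralizer (orbitJoin Q L : Set G) :=
      le_centralizer_of_commutator_eq_bot hcomm ⟨u, hu, rfl⟩
    have hc : Commute u' u := (hu'mem u hu).symm
    have hpow : ⁅g, u⁆ ^ p ^ k = 1 := by
      rw [show ⁅g, u⁆ = u' * u⁻¹ from rfl, hc.inv_right.mul_pow, hu', conj_pow, inv_pow, hk]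
      simp
    have h1 := Nat.eq_one_of_dvd_coprimes ((h u (orbitJoin_le_layer hL hu) huQ k hk).pow_right k)
      dvd_rfl (orderOf_dvd_of_pow_eq_one hpow)
    rw [orderOf_eq_one_iff, show ⁅g, u⁆ = u' * u⁻¹ from rfl, mul_inv_eq_one] at h1
    exact huc (h1 ▸ hu'mem)
  have hr : q⁻¹ * g ∈ normalizer (L : Set G) := by
    rw [mem_normalizer_iff_map_conj_eq]
    show L.map (MulAut.conj (q⁻¹ * g)).toMonoidHom = L
    rw [← map_conj_map_conj, ← heq, map_conj_map_conj, inv_mul_cancel, map_conj_one]
  have hc : Commute q⁻¹ g := hg _ (inv_mem hq)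
  have hqn : q⁻¹ ^ orderOf g ∈ normalizer (L : Set G) := by
    have := pow_mem hr (orderOf g)
    rwa [hc.mul_pow, pow_orderOf_eq_one, mul_one] at this
  obtain ⟨k, hk⟩ := hQ ⟨q⁻¹, inv_mem hq⟩
  obtain ⟨m, hm⟩ := exists_pow_eq_self_of_coprime (x := q⁻¹) (n := orderOf g)
    (Nat.Coprime.coprime_dvd_right
      (orderOf_dvd_of_pow_eq_one (by simpa [Subtype.ext_iff] using hk)) (hgp.pow_right k))
  have hqL : q⁻¹ ∈ normalizer (L : Set G) := hm ▸ pow_mem hqn m
  have := mul_mem (inv_mem hqL) hr
  rwa [inv_inv, mul_inv_cancel_left] at this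

/-- `p`-components through a subnormal subgroup with quasisimple quotient. -/
theorem isPComponent_of_quotient_quasisimple {K : Subgroup G} (hK : K.IsSubnormal)
    (hq : Cfsg.IsQuasisimple (↥K ⧸ Cfsg.pPrimeCore p K)) (hgen : pElements p K = K) :
    Cfsg.IsPComponent p K := by
  set f := (QuotientGroup.mk' (Cfsg.pPrimeCore p G)).comp K.subtype with hf
  have hrange : f.range = K.map (QuotientGroup.mk' (Cfsg.pPrimeCore p G)) := by
    rw [hf, MonoidHom.range_comp, range_subtype]
  have hker : f.ker = Cfsg.pPrimeCore p K := by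
    rw [hf, ← MonoidHom.comap_ker, QuotientGroup.ker_mk', pPrimeCore_subnormal_eq hK, subgroupOf]
  refine ⟨hK, ⟨hK.map (QuotientGroup.mk'_surjective _),
    (quasisimple_congr ((QuotientGroup.quotientMulEquivOfEq hker.symm).trans
      ((QuotientGroup.quotientKerEquivRange f).trans (MulEquiv.subgroupCongr hrange)))).mp hq⟩,
    fun H hH hle he => le_antisymm hle ?_⟩
  conv_lhs => rw [← hgen]
  refine le_trans (pElements_mono ?_) (pComponentOver_le_of_map_eq hH rfl)
  rw [he]
  exact le_comap_map _ _

theorem pPrimeCore_le_of_isSubnormal_map {M : Subgroup G} {A : Subgroup G} (hAM : A ≤ M)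
    (hA : (A.subgroupOf M).IsSubnormal) (hc : (Nat.card A).Coprime p) :
    A ≤ (Cfsg.pPrimeCore p M).map M.subtype := by
  rw [← map_subgroupOf_eq_of_le hAM]
  refine map_mono (le_pPrimeCore_of_isSubnormal hA ?_)
  rwa [Nat.card_congr (subgroupOfEquivOfLe hAM).toEquiv]

theorem centralizer_sup_eq (A B : Subgroup G) :
    centralizer ((A ⊔ B : Subgroup G) : Set G) = centralizer (A : Set G) ⊓ centralizer (B : Set G) :=
  le_antisymm (le_inf (centralizer_le (le_sup_left : A ≤ A ⊔ B)) (centralizer_le (le_sup_right : B ≤ A ⊔ B)))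
    (le_centralizer_iff.mp (sup_le (le_centralizer_iff.mp inf_le_left) (le_centralizer_iff.mp inf_le_right)))

/-- `O_{p'}(M)` of `M = N_G(Q)`, `Q ⊇ O_p(G)`, normalizes each component. -/
theorem pPrimeCore_normalizer_le_normalizer_component (hO : Cfsg.pPrimeCore p G = ⊥)
    {Q L : Subgroup G} (hQ : IsPGroup p Q) (hV : Cfsg.pCore p G ≤ Q) (hL : Cfsg.IsComponent L) :
    (Cfsg.pPrimeCore p ↥(normalizer (Q : Set G))).map (normalizer (Q : Set G)).subtype ≤
      normalizer (L : Set G) := fun g hg => by
  refine mem_normalizer_component_of_centralizes hQ hV hL (dvd_card_of_component_of_core_eq_bot hO hL)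
    (map_le_centralizer_of_le_centralizer_pCore hQ le_normalizer le_rfl
      pPrimeCore_le_centralizer_pCore_self hg)
    (Nat.Coprime.coprime_dvd_left (orderOf_dvd_natCard _ hg)
      (by rw [card_map_of_injective (normalizer (Q : Set G)).subtype_injective]
          exact coprime_card_pPrimeCore p)) fun u _ hu k _ => ?_
  obtain ⟨g', hg', rfl⟩ := hg
  have hmem : ⁅g', (⟨u, hu⟩ : normalizer (Q : Set G))⁆ ∈ Cfsg.pPrimeCore p ↥(normalizer (Q : Set G)) :=
    commutator_le_left _ ⊤ (commutator_mem_commutator hg' (mem_top _))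
  rw [show ⁅(normalizer (Q : Set G)).subtype g', u⁆ =
    ((⁅g', (⟨u, hu⟩ : normalizer (Q : Set G))⁆ : normalizer (Q : Set G)) : G) from rfl, orderOf_coe]
  exact Nat.Coprime.coprime_dvd_left (orderOf_dvd_natCard _ hmem) (coprime_card_pPrimeCore p)

/-- When `O_{p'}(G) = 1`, the `p`-layer and `p'`-core of a `p`-local subgroup normalize each
component of `G`. -/
theorem pLayer_local_le_normalizer_component (hO : Cfsg.pPrimeCore p G = ⊥)
    {P N : Subgroup G} (hP : IsPGroup p P) (hPN : P ≤ N) (hCN : centralizer (P : Set G) ≤ N)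
    (hN : N ≤ normalizer (P : Set G)) {L : Subgroup G} (hL : Cfsg.IsComponent L) :
    (Cfsg.pLayer p N ⊔ Cfsg.pPrimeCore p N).map N.subtype ≤ normalizer (L : Set G) := by
  set Q := P ⊔ Cfsg.pCore p G with hQdef
  have hQ : IsPGroup p Q := isPGroup_sup hP (isPGroup_pCore p) le_normalizer_of_normal
  have hV : Cfsg.pCore p G ≤ Q := le_sup_right
  set C := centralizer (Q : Set G) with hC
  set M := normalizer (Q : Set G) with hM
  have hCM : C ≤ M := centralizer_le_normalizer _
  have hCN' : C ≤ N := (centralizer_le (le_sup_left : P ≤ Q)).trans hCN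
  haveI hCn : (C.subgroupOf M).Normal := normal_subgroupOf_centralizer_normalizer _
  let φ : ↥(C.subgroupOf M) →* N :=
    (inclusion hCN').comp (subgroupOfEquivOfLe hCM).toMonoidHom
  have hsub : ∀ {H : Subgroup N}, H.IsSubnormal → H.map N.subtype ≤ C →
      ((H.map N.subtype).subgroupOf M).IsSubnormal := by
    intro H hH hHC
    refine IsSubnormal.trans (K := C.subgroupOf M) (fun x hx => hHC hx) ?_ hCn.isSubnormal
    rw [show ((H.map N.subtype).subgroupOf M).subgroupOf (C.subgroupOf M) = H.comap φ from ?_]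
    · exact hH.comap _
    ext c
    rw [mem_subgroupOf, mem_subgroupOf, mem_comap]
    constructor
    · rintro ⟨k, hk, he⟩
      rwa [show φ c = k from Subtype.ext he.symm]
    · intro h
      exact ⟨_, h, rfl⟩
  have hcent : ∀ {H : Subgroup N}, H ≤ centralizer (Cfsg.pCore p N : Set N) →
      H.map N.subtype ≤ centralizer (Cfsg.pCore p G : Set G) → H.map N.subtype ≤ C := by
    intro H h1 h2
    rw [hC, hQdef, centralizer_sup_eq]
    exact le_inf (map_le_centralizer_of_le_centralizer_pCore hP hPN hN h1) h2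
  have hYM : (Cfsg.pPrimeCore p N).map N.subtype ≤ (Cfsg.pPrimeCore p M).map M.subtype := by
    have hYC := hcent pPrimeCore_le_centralizer_pCore_self
      (pPrimeCore_local_le_centralizer_pCore hP hPN hCN hN)
    refine pPrimeCore_le_of_isSubnormal_map (hYC.trans hCM) (hsub (Normal.isSubnormal inferInstance) hYC) ?_
    rw [card_map_of_injective N.subtype_injective]
    exact coprime_card_pPrimeCore p
  have hYL := pPrimeCore_normalizer_le_normalizer_component hO hQ hV hL
  rw [Subgroup.map_sup]
  refine sup_le ?_ (hYM.trans hYL)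
  rw [map_le_iff_le_comap]
  refine sSup_le fun K hK => ?_
  rw [← map_le_iff_le_comap]
  set KG := K.map N.subtype with hKG
  have hKC : KG ≤ C := hcent ((pComponent_le_pLayer hK).trans pLayer_le_centralizer_pCore)
    (pComponent_local_le_centralizer_pCore hP hPN hCN hN hK)
  have hKM : KG ≤ M := hKC.trans hCM
  set K1 := KG.subgroupOf M with hK1
  let e : ↥K ≃* ↥K1 := (K.equivMapOfInjective _ N.subtype_injective).trans (subgroupOfEquivOfLe hKM).symm
  have hK1c : Cfsg.IsPComponent p K1 := by
    refine isPComponent_of_quotient_quasisimple (hsub hK.1 hKC)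
      ((quasisimple_congr (QuotientGroup.congr _ _ e (pPrimeCore_map_equiv p e))).mp
        (pComponent_quotient_quasisimple hK)) ?_
    apply map_injective M.subtype_injective
    rw [map_pElements_of_injective _ M.subtype_injective, hK1, map_subgroupOf_eq_of_le hKM, hKG,
      ← map_pElements_of_injective _ N.subtype_injective, pElements_pComponent hK]
  set π := QuotientGroup.mk' (Cfsg.pPrimeCore p M) with hπ
  set D := (Cfsg.layer G).subgroupOf M with hD
  rcases component_le_or_commutator_normal hK1c.2.1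
    ((inferInstance : D.Normal).map π (QuotientGroup.mk'_surjective _)) with h | h
  · have h' : K1 ≤ D ⊔ Cfsg.pPrimeCore p M := by
      have h3 := (le_comap_map π K1).trans (comap_mono (f := π) h)
      rwa [comap_map_eq, hπ, QuotientGroup.ker_mk'] at h3
    have := map_mono (f := M.subtype) h'
    rw [hK1, map_subgroupOf_eq_of_le hKM, Subgroup.map_sup] at this
    refine this.trans (sup_le ?_ hYL)
    exact (subgroupOf_map_subtype _ _).trans_le (inf_le_left.trans (layer_le_normalizer_component hL))
  · rw [← map_commutator] at h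
    have h' : ⁅K1, D⁆ ≤ Cfsg.pPrimeCore p M :=
      ((Subgroup.map_eq_bot_iff _).mp h).trans (QuotientGroup.ker_mk' _).le
    refine le_of_coprime_orderOf_mem (p := p) (by rw [hKG, ← map_commutator, pComponent_commutator_self hK]) fun g hg hgp => ?_
    refine mem_normalizer_component_of_centralizes hQ hV hL
      (dvd_card_of_component_of_core_eq_bot hO hL) (hKC hg) hgp fun u huE hu k _ => ?_
    have hmem : ⁅(⟨g, hKM hg⟩ : M), (⟨u, hu⟩ : M)⁆ ∈ Cfsg.pPrimeCore p M :=
      h' (commutator_mem_commutator (show (⟨g, hKM hg⟩ : M) ∈ K1 from hg) (show (⟨u, hu⟩ : M) ∈ D from huE))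
    have heq : ⁅g, u⁆ = ((⁅(⟨g, hKM hg⟩ : M), (⟨u, hu⟩ : M)⁆ : M) : G) := rfl
    rw [heq, orderOf_coe]
    exact Nat.Coprime.coprime_dvd_left (orderOf_dvd_natCard _ hmem) (coprime_card_pPrimeCore p)

/-- If `O_{p'}(G) = 1`, `x` has order `p` and `[L, x] ≠ L`, then the component `L` centralizes
`O_{p'}(C_G(x))`. -/
theorem component_commutator_centralizerPPrimeCore (hO : Cfsg.pPrimeCore p G = ⊥) {x : G}
    (hx : orderOf x = p) {L : Subgroup G} (hL : Cfsg.IsComponent L)
    (hne : ⁅L, zpowers x⁆ ≠ L) : ⁅L, Cfsg.centralizerPPrimeCore p x⁆ = ⊥ := by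
  have hdvd := dvd_card_of_component_of_core_eq_bot hO hL
  set C := centralizer ({x} : Set G) with hC
  set Y := Cfsg.centralizerPPrimeCore p x with hY
  have hYeq : Y = (Cfsg.pPrimeCore p C).map C.subtype := rfl
  have hYC : Y ≤ C := hYeq ▸ map_subtype_le _
  have hxC : ∀ c ∈ C, x * c = c * x := fun c hc => hc x (Set.mem_singleton x)
  have hYn : C ≤ normalizer (Y : Set G) := by
    have h := le_normalizer_map (H := Cfsg.pPrimeCore p C) C.subtype
    rwa [normalizer_eq_top, ← MonoidHom.range_eq_map, range_subtype, ← hYeq] at h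
  have hYcop : (Nat.card Y).Coprime p := by
    rw [hYeq, card_map_of_injective C.subtype_injective]
    exact coprime_card_pPrimeCore p
  have hzp : IsPGroup p ↥(zpowers x) := IsPGroup.of_card_dvd_pow (n := 1) (by
    rw [Nat.card_zpowers, hx, pow_one])
  have hYL : ∀ K : Subgroup G, Cfsg.IsComponent K → Y ≤ normalizer (K : Set G) := fun K hK => by
    refine le_trans (hYeq.trans_le (map_mono le_sup_right))
      (pLayer_local_le_normalizer_component hO hzp ?_ ?_ ?_ hK)
    · rw [zpowers_le]; intro u hu; rw [Set.mem_singleton_iff] at hu; subst hu; rfl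
    · exact centralizer_le (by simp)
    · refine le_trans ?_ (centralizer_le_normalizer _)
      rw [le_centralizer_iff, zpowers_le]
      exact fun c hc => (hxC c hc).symm
  by_cases hxL : x ∈ normalizer (L : Set G)
  · have hle : zpowers x ≤ normalizer (L : Set G) := zpowers_le.mpr hxL
    have hle' : ⁅L, zpowers x⁆ ≤ L := le_normalizer_iff_commutator_le_left.mp hle
    have hcen : ⁅⁅L, zpowers x⁆, L⁆ = ⊥ := by
      rcases quasisimple_normal_top_or_central hL.2
        ((normal_subgroupOf_iff_le_normalizer hle').mpr (normalizer_commutator_ge_left L _)) with h | h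
      · exact absurd (le_antisymm hle' (subgroupOf_eq_top.mp h)) hne
      · rw [commutator_eq_bot_iff_le_centralizer]
        intro a ha b hb
        exact congrArg Subtype.val (mem_center_iff.mp
          (h (show (⟨a, hle' ha⟩ : L) ∈ (⁅L, zpowers x⁆).subgroupOf L from ha)) ⟨b, hb⟩)
    have hLC : L ≤ C := fun l hl u hu => by
      rw [Set.mem_singleton_iff] at hu
      subst hu
      exact le_centralizer_of_commutator_eq_bot
        (commutator_eq_bot_of_perfect (component_commutator_self hL) hcen) hl u (mem_zpowers u)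
    have hL' := component_subgroupOf hL hLC
    rcases component_le_or_commutator_normal hL' (inferInstance : (Cfsg.pPrimeCore p C).Normal) with h | h
    · exfalso
      refine (hp.out.coprime_iff_not_dvd).mp
        (Nat.Coprime.coprime_dvd_left ((card_dvd_of_le h)) (coprime_card_pPrimeCore p)).symm ?_
      rwa [Nat.card_congr (subgroupOfEquivOfLe hLC).toEquiv]
    · rw [hYeq]
      conv_lhs => rw [← map_subgroupOf_eq_of_le hLC]
      rw [← map_commutator, h, Subgroup.map_bot]
  · set others := sSup {K : Subgroup G | Cfsg.IsComponent K ∧ K ≠ L} with hothers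
    have hLo : L ≤ centralizer (others : Set G) := le_centralizer_of_commutator_eq_bot
      (commutator_sSup_eq_bot fun K hK => component_commutator_of_ne hL hK.1 hK.2.symm)
    have hmove : ∀ i : ℕ, 0 < i → i < p → L.map (MulAut.conj (x ^ i)).toMonoidHom ≠ L := by
      intro i hi hip he
      obtain ⟨m, hm⟩ := exists_pow_eq_self_of_coprime (x := x) (n := i)
        (by rw [hx]; exact (Nat.coprime_of_lt_prime hi.ne' hip hp.out).symm)
      exact hxL (hm ▸ pow_mem (mem_normalizer_iff_map_conj_eq.mpr he) m)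
    -- every element of `L` is congruent to an element of `C_G(x)` modulo the other components
    have hlift : ∀ l ∈ L, ∃ z ∈ others, z * l ∈ C := by
      intro l hl
      let c : ℕ → G := fun n => Nat.rec (1 : G) (fun i acc => (x ^ i * l * (x ^ i)⁻¹) * acc) n
      have hrec : ∀ n, x * c n * x⁻¹ * l = c (n + 1) := by
        intro n
        induction n with
        | zero => simp [c]
        | succ n ih =>
          have e1 : c (n + 1) = (x ^ n * l * (x ^ n)⁻¹) * c n := rfl
          have e2 : c (n + 1 + 1) = (x ^ (n + 1) * l * (x ^ (n + 1))⁻¹) * c (n + 1) := rfl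
          calc x * c (n + 1) * x⁻¹ * l
              = (x ^ (n + 1) * l * (x ^ (n + 1))⁻¹) * (x * c n * x⁻¹ * l) := by
                rw [e1, pow_succ']
                group
            _ = c (n + 1 + 1) := by rw [ih, e2]
      have hmem : ∀ n, n + 1 ≤ p → x * c n * x⁻¹ ∈ others := by
        intro n
        induction n with
        | zero => intro _; simp [c]
        | succ n ih =>
          intro hn
          have e1 : c (n + 1) = (x ^ n * l * (x ^ n)⁻¹) * c n := rfl
          have e3 : x * c (n + 1) * x⁻¹ =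
              (x ^ (n + 1) * l * (x ^ (n + 1))⁻¹) * (x * c n * x⁻¹) := by
            rw [e1, pow_succ']
            group
          rw [e3]
          refine mul_mem ?_ (ih (by omega))
          exact le_sSup (α := Subgroup G)
            (show L.map (MulAut.conj (x ^ (n + 1))).toMonoidHom ∈
              {K : Subgroup G | Cfsg.IsComponent K ∧ K ≠ L} from
              ⟨component_map_conj hL _, hmove (n + 1) (by omega) (by omega)⟩) ⟨l, hl, rfl⟩
      obtain ⟨n, hn⟩ : ∃ n, p = n + 1 := ⟨p - 1, by have := hp.out.pos; omega⟩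
      refine ⟨x * c n * x⁻¹, hmem n hn.ge, ?_⟩
      rw [hrec]
      have h1 : x * c (n + 1) * x⁻¹ * l = c (n + 1 + 1) := hrec (n + 1)
      have e2 : c (n + 1 + 1) = (x ^ (n + 1) * l * (x ^ (n + 1))⁻¹) * c (n + 1) := rfl
      rw [e2, ← hn, ← hx, pow_orderOf_eq_one] at h1
      have hcl : l * c (n + 1) = c (n + 1) * l := by
        rw [← hrec n, ← mul_assoc, ← hLo hl _ (hmem n hn.ge)]
      rw [← hn, ← hx] at hcl ⊢
      simp only [one_mul, inv_one, mul_one] at h1
      intro u hu
      rw [Set.mem_singleton_iff] at hu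
      subst hu
      rw [hcl] at h1
      have h2 := mul_right_cancel h1
      rw [mul_inv_eq_iff_eq_mul] at h2
      exact h2
    set U := L ⊓ (others ⊔ (Y ⊓ Cfsg.layer G)) with hU
    have hYlayer : Y ⊓ Cfsg.layer G ≤ normalizer (others : Set G) := inf_le_right.trans
      (sSup_le fun K hK => by
        by_cases hKL : K = L
        · exact hKL ▸ hLo.trans (centralizer_le_normalizer _)
        · exact (le_sSup (show K ∈ {K : Subgroup G | Cfsg.IsComponent K ∧ K ≠ L} from ⟨hK, hKL⟩) :
            K ≤ others).trans le_normalizer)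
    have hYothers : Y ≤ normalizer (others : Set G) := by
      rw [le_normalizer_iff]
      intro y hy k hk
      have h : others.map (MulAut.conj y).toMonoidHom ≤ others := map_sSup_subset _ fun K hK => by
        show _ ∧ _
        rw [map_conj_eq_of_mem_normalizer (hYL K hK.1 hy)]
        exact hK
      exact h ⟨k, hk, rfl⟩
    have hkey : ⁅L, Y⁆ ≤ U := by
      rw [commutator_le]
      intro l hl y hy
      have hL1 : ⁅l, y⁆ ∈ L := le_normalizer_iff_commutator_le_left.mp (hYL L hL)
        (commutator_mem_commutator hl hy)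
      refine ⟨hL1, ?_⟩
      obtain ⟨z, hz, hzl⟩ := hlift l hl
      have h1 : ⁅z * l, y⁆ ∈ Y := le_normalizer_iff_commutator_le_right.mp hYn
        (commutator_mem_commutator hzl hy)
      have h2 : ⁅z * l, y⁆ ∈ Cfsg.layer G := by
        refine commutator_le_left (H₂ := ⊤) _ (commutator_mem_commutator
          (mul_mem ?_ (component_le_layer hL hl)) (mem_top y))
        exact (sSup_le fun K hK => component_le_layer hK.1 : others ≤ Cfsg.layer G) hz
      have h3 : ⁅z, y⁆ ∈ others := le_normalizer_iff_commutator_le_left.mp hYothers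
        (commutator_mem_commutator hz hy)
      have h4 : z * ⁅l, y⁆ * z⁻¹ = ⁅l, y⁆ := by
        rw [hLo hL1 z hz, mul_inv_cancel_right]
      rw [commutatorElement_mul_left_eq_conj_mul, h4] at h1 h2
      rw [show ⁅l, y⁆ = (⁅l, y⁆ * ⁅z, y⁆) * ⁅z, y⁆⁻¹ from (mul_inv_cancel_right _ _).symm]
      exact mul_mem (mem_sup_right ⟨h1, h2⟩) (mem_sup_left (inv_mem h3))
    have hnorm : L ≤ normalizer ((⁅L, Y⁆ : Subgroup G) : Set G) := normalizer_commutator_ge_left L Y
    rcases quasisimple_normal_top_or_central hL.2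
      ((normal_subgroupOf_iff_le_normalizer (hkey.trans inf_le_left)).mpr hnorm) with h | h
    · exfalso
      have hle : L ≤ others ⊔ (Y ⊓ Cfsg.layer G) :=
        (subgroupOf_eq_top.mp h).trans (hkey.trans inf_le_right)
      refine component_commutator_self_ne_bot hL (commutator_eq_bot_iff_le_centralizer.mpr ?_)
      have hsub : pElements p L ≤ others := by
        refine pElements_le_iff.mpr fun a ha k hk => ?_
        set W := (Y ⊓ Cfsg.layer G) ⊔ others with hW
        have haW : a ∈ W := by rw [hW, sup_comm]; exact hle ha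
        haveI : (others.subgroupOf W).Normal :=
          (normal_subgroupOf_iff_le_normalizer le_sup_right).mpr (sup_le hYlayer le_normalizer)
        have hidx : (others.subgroupOf W).index.Coprime p := by
          refine Nat.Coprime.coprime_dvd_left ?_ (Nat.Coprime.coprime_dvd_left
            (card_dvd_of_le (inf_le_left : Y ⊓ Cfsg.layer G ≤ Y)) hYcop)
          have h5 := card_sup_dvd (A := Y ⊓ Cfsg.layer G) (B := others) hYlayer
          have h6 : Nat.card others * (others.subgroupOf W).index = Nat.card W := by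
            rw [← Nat.card_congr (subgroupOfEquivOfLe (le_sup_right : others ≤ W)).toEquiv, card_mul_index]
          rw [← hW, ← h6, mul_comm (Nat.card ↥(Y ⊓ Cfsg.layer G))] at h5
          exact Nat.dvd_of_mul_dvd_mul_left Nat.card_pos h5
        exact mem_of_coprime_index (H := others.subgroupOf W) (Normal.isSubnormal inferInstance)
          hidx (x := ⟨a, haW⟩) (k := k) (Subtype.ext hk)
      rw [pElements_component hL hdvd] at hsub
      exact hLo.trans (centralizer_le hsub)
    · refine commutator_eq_bot_of_perfect (component_commutator_self hL) ?_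
      rw [commutator_eq_bot_iff_le_centralizer]
      intro a ha b hb
      exact congrArg Subtype.val (mem_center_iff.mp
        (h (show (⟨a, (hkey ha).1⟩ : L) ∈ (⁅L, Y⁆).subgroupOf L from ha)) ⟨b, hb⟩)

end CfsgLib.Components
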