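import Cfsg.Prelude.Def_Balance
import Cfsg.Agent.Lib.Components.GenFitting
import Cfsg.Agent.Lib.Components.PLayer
import Cfsg.Agent.Lib.AutPSL.Quot

/-!
Automorphisms of a perfect group act faithfully on its central quotient; local balance of the
central quotient gives local balance of the group.  Balance notions transported along isomorphisms.
-/

set_option autoImplicit false
set_option linter.style.haveILetI false
set_option linter.unusedVariables false

namespace CfsgLib.Components

open Subgroup
open scoped commutatorElement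

universe u

variable {G : Type*} [Group G]

theorem centralizer_singleton_map_equiv {G' : Type*} [Group G'] (e : G ≃* G') (x : G) :
    (centralizer ({x} : Set G)).map e.toMonoidHom = centralizer ({e x} : Set G') := by
  ext y
  rw [mem_map_equiv, mem_centralizer_singleton_iff, mem_centralizer_singleton_iff,
    ← e.injective.eq_iff, map_mul, map_mul, e.apply_symm_apply]

theorem centralizerPPrimeCore_map_equiv {G' : Type*} [Group G'] (p : ℕ) (e : G ≃* G') (x : G) :
    (Cfsg.centralizerPPrimeCore p x).map e.toMonoidHom = Cfsg.centralizerPPrimeCore p (e x) := by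
  set C := centralizer ({x} : Set G)
  set C' := centralizer ({e x} : Set G')
  let f : ↥C ≃* ↥C' := (C.equivMapOfInjective e.toMonoidHom e.injective).trans
    (MulEquiv.subgroupCongr (centralizer_singleton_map_equiv e x))
  have hcomp : e.toMonoidHom.comp C.subtype = C'.subtype.comp f.toMonoidHom := by
    ext c
    rfl
  rw [Cfsg.centralizerPPrimeCore, Cfsg.centralizerPPrimeCore, Subgroup.map_map, hcomp,
    ← Subgroup.map_map, pPrimeCore_map_equiv p f]

theorem signalizerDelta_map_equiv {G' : Type*} [Group G'] (p : ℕ) (e : G ≃* G') (A : Subgroup G) :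
    (Cfsg.signalizerDelta p A).map e.toMonoidHom = Cfsg.signalizerDelta p (A.map e.toMonoidHom) := by
  ext y
  simp only [Cfsg.signalizerDelta, mem_map_equiv, mem_iInf]
  constructor
  · rintro h ⟨b, ⟨a, ha, rfl⟩, hb⟩
    have h2 := h ⟨a, ha, fun h1 => hb (by simp [h1])⟩
    show y ∈ Cfsg.centralizerPPrimeCore p (e a)
    rw [← centralizerPPrimeCore_map_equiv, mem_map_equiv]
    exact h2
  · rintro h ⟨a, ha, ha1⟩
    have h2 : y ∈ Cfsg.centralizerPPrimeCore p (e a) :=
      h ⟨e a, ⟨a, ha, rfl⟩, fun h1 => ha1 (e.injective (by rw [h1, map_one]))⟩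
    rwa [← centralizerPPrimeCore_map_equiv, mem_map_equiv] at h2

theorem isBalancedFor_map_equiv {G' : Type*} [Group G'] {p : ℕ} (e : G ≃* G')
    (h : Cfsg.IsBalancedFor p G) : Cfsg.IsBalancedFor p G' := by
  intro y hy
  obtain ⟨x, rfl⟩ := e.surjective y
  rw [← centralizerPPrimeCore_map_equiv, ← pPrimeCore_map_equiv p e]
  exact map_mono (h x (by rwa [e.orderOf_eq] at hy))

/-- Automorphisms of a perfect group are determined by their action on the central quotient. -/
theorem descend_injective [Group.IsPerfect G] :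
    Function.Injective (CfsgLib.AutPSL.descend (G := G)) := by
  rw [injective_iff_map_eq_one]
  intro e he
  have hz : ∀ x : G, x⁻¹ * e x ∈ center G := fun x => by
    rw [← QuotientGroup.eq]
    have := congrArg (fun f : MulAut (G ⧸ center G) => f (x : G ⧸ center G)) he
    simpa using this.symm
  have hle : commutator G ≤ e.toMonoidHom.eqLocus (MonoidHom.id G) := by
    rw [_root_.commutator_def, commutator_le]
    intro a _ b _
    show e ⁅a, b⁆ = ⁅a, b⁆
    rw [map_commutatorElement]
    have h1 : e a = a * (a⁻¹ * e a) := by group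
    have h2 : e b = b * (b⁻¹ * e b) := by group
    rw [h1, h2, commutatorElement_mul_central (hz a) (hz b)]
  rw [Group.IsPerfect.commutator_eq_top] at hle
  exact MulEquiv.ext fun x => hle (mem_top x)

/-- Local `k`-balance of `K/Z(K)` gives local `k`-balance of a perfect `K`. -/
theorem isLocallyKBalanced_of_central_quotient {K : Type*} [Group K] [Group.IsPerfect K] {p k : ℕ}
    (h : Cfsg.IsLocallyKBalanced p k (K ⧸ center K)) : Cfsg.IsLocallyKBalanced p k K := by
  intro H hH A hA hAk
  set d := CfsgLib.AutPSL.descend (G := K)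
  have hH' : (MulAut.conj : (K ⧸ center K) →* MulAut (K ⧸ center K)).range ≤ H.map d := by
    rintro _ ⟨q, rfl⟩
    obtain ⟨x, rfl⟩ := QuotientGroup.mk'_surjective (center K) q
    exact ⟨MulAut.conj x, hH ⟨x, rfl⟩, CfsgLib.AutPSL.descend_conj x⟩
  set e := H.equivMapOfInjective d descend_injective
  have h1 := h (H.map d) hH' (A.map e.toMonoidHom) ⟨by
      refine ⟨⟨?_⟩⟩
      rintro ⟨_, a, ha, rfl⟩ ⟨_, b, hb, rfl⟩
      apply Subtype.ext
      show e a * e b = e b * e a
      have hab := congrArg Subtype.val (hA.1.is_comm.comm ⟨a, ha⟩ ⟨b, hb⟩)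
      rw [← map_mul, ← map_mul]
      exact congrArg e hab, by
      rintro _ ⟨a, ha, rfl⟩
      rw [← map_pow, hA.2 a ha, map_one]⟩ (by rw [card_map_of_injective e.injective, hAk])
  rw [← signalizerDelta_map_equiv] at h1
  exact (map_eq_bot_iff_of_injective _ e.injective).mp h1

theorem isLocallyKBalanced_two_one_of_isLocallyBalanced {K : Type*} [Group K]
    (h : Cfsg.IsLocallyBalanced K) : Cfsg.IsLocallyKBalanced 2 1 K := by
  intro H hH A hA hA2
  obtain ⟨a, ha, ha1⟩ : ∃ a ∈ A, a ≠ 1 := by
    by_contra hcon
    push Not at hcon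
    rw [(eq_bot_iff_forall A).2 hcon, card_bot] at hA2
    simp at hA2
  haveI : Fact (Nat.Prime 2) := ⟨Nat.prime_two⟩
  exact le_bot_iff.mp ((iInf_le _ (⟨a, ha, ha1⟩ : {a : ↥H // a ∈ A ∧ a ≠ 1})).trans
    (h H hH a (orderOf_eq_prime (hA.2 a ha) ha1)).le)

theorem isBalanced_iff_isKBalanced_two_one : Cfsg.IsBalanced G ↔ Cfsg.IsKBalanced 2 1 G := by
  haveI : Fact (Nat.Prime 2) := ⟨Nat.prime_two⟩
  constructor
  · intro h A hA hA2 b hb hcomm
    obtain ⟨a, ha, ha1⟩ : ∃ a ∈ A, a ≠ 1 := by
      by_contra hcon
      push Not at hcon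
      rw [(eq_bot_iff_forall A).2 hcon, card_bot] at hA2
      simp at hA2
    refine le_trans (inf_le_inf_right _ (iInf_le _ (⟨a, ha, ha1⟩ : {a : G // a ∈ A ∧ a ≠ 1}))) ?_
    exact (h a b (orderOf_eq_prime (hA.2 a ha) ha1) hb (hcomm a ha)).trans_le inf_le_left
  · intro h x y hx hy hxy
    have key : ∀ x y : G, orderOf x = 2 → orderOf y = 2 → x * y = y * x →
        Cfsg.centralizerPPrimeCore 2 x ⊓ centralizer {y} ≤
          Cfsg.centralizerPPrimeCore 2 y ⊓ centralizer {x} := by
      intro x y hx hy hxy
      have hA : Cfsg.IsElementaryAbelian 2 (zpowers x) := by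
        refine ⟨inferInstance, ?_⟩
        rintro _ ⟨i, rfl⟩
        show (x ^ i) ^ 2 = 1
        rw [← zpow_natCast, ← zpow_mul, mul_comm, zpow_mul, zpow_natCast, ← hx, pow_orderOf_eq_one,
          one_zpow]
      refine le_inf (le_trans ?_ (h (zpowers x) hA (by rw [Nat.card_zpowers, hx, pow_one]) y hy ?_))
        (inf_le_left.trans (map_subtype_le _))
      · refine inf_le_inf_right _ (le_iInf fun a => ?_)
        obtain ⟨a, ⟨i, hi⟩, ha1⟩ := a
        suffices hax : a = x by
          show _ ≤ Cfsg.centralizerPPrimeCore 2 a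
          rw [hax]
        have hz : x ^ (i % 2) = a := by
          rw [← hi]
          have e := zpow_mod_orderOf x i
          rw [hx] at e
          exact_mod_cast e
        rcases Int.emod_two_eq i with h2 | h2 <;> rw [h2] at hz
        · exact absurd (by simpa using hz.symm) ha1
        · simpa using hz.symm
      · rintro _ ⟨i, rfl⟩
        exact (show Commute x y from hxy).zpow_left i
    exact le_antisymm (key x y hx hy hxy) (key y x hy hx hxy.symm)

end CfsgLib.Components
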