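import Cfsg.Agent.Lib.Components.InvolComponent
import Cfsg.Agent.Lib.Signalizer.CoreSepLocal

/-!
The position of a component of the centralizer of an involution when every 2-component is a
component.  The solvability of the groups of odd order enters as a hypothesis.
-/

set_option autoImplicit false
set_option linter.style.haveILetI false
set_option linter.unusedVariables false
set_option linter.unusedSectionVars false

open scoped commutatorElement
open Subgroup CfsgLib.Components

universe u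

namespace CfsgLib.CentralizerTrichotomy

variable {G : Type u} [Group G] [Finite G]

theorem pLayer_commutator_core (hFT : ∀ H : Subgroup G, Odd (Nat.card H) → Group.IsSolvable H)
    (hL2 : Cfsg.pLayer 2 G = Cfsg.layer G) : ⁅Cfsg.pLayer 2 G, Cfsg.pPrimeCore 2 G⁆ = ⊥ := by
  rw [hL2]
  exact layer_commutator_solvable (hFT _ (Nat.coprime_two_right.mp (coprime_card_pPrimeCore 2)))
    le_normalizer_of_normal

/-- The trichotomy for a component of the centralizer of an involution. -/
theorem trichotomy (hFT : ∀ H : Subgroup G, Odd (Nat.card H) → Group.IsSolvable H)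
    (hL2 : Cfsg.pLayer 2 G = Cfsg.layer G) (t : G) (ht : orderOf t = 2) (L : Subgroup G)
    (hLt : L ≤ Subgroup.centralizer ({t} : Set G))
    (hL : Cfsg.IsComponent (L.subgroupOf (Subgroup.centralizer ({t} : Set G)))) :
    ∃ D : Subgroup G, Cfsg.IsComponent D ∧ (L = D ∨ (L < D ∧ D = ⁅D, Subgroup.zpowers t⁆) ∨
      (D.map (MulAut.conj t).toMonoidHom ≠ D ∧
        L = (Cfsg.layer ↥((D ⊔ D.map (MulAut.conj t).toMonoidHom) ⊓
              Subgroup.centralizer ({t} : Set G))).map
            ((D ⊔ D.map (MulAut.conj t).toMonoidHom) ⊓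
              Subgroup.centralizer ({t} : Set G)).subtype)) := by
  haveI : Fact (Nat.Prime 2) := ⟨Nat.prime_two⟩
  set Ct := centralizer ({t} : Set G) with hCt
  have htt : t * t = 1 := by rw [← sq, ← ht, pow_orderOf_eq_one]
  have hti : t⁻¹ = t := inv_eq_of_mul_eq_one_right htt
  have htC : t ∈ Ct := mem_centralizer_singleton_iff.mpr rfl
  have hLq : Cfsg.IsQuasisimple ↥L := (quasisimple_congr (subgroupOfEquivOfLe hLt)).mp hL.2
  have hperf : ⁅L, L⁆ = L := by
    have h1 := congrArg (Subgroup.map Ct.subtype) (component_commutator_self hL)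
    rwa [map_commutator, map_subgroupOf_eq_of_le hLt] at h1
  have hLnab : ¬ L ≤ centralizer (L : Set G) := fun h =>
    quasisimple_not_isMulCommutative hLq ⟨⟨fun x y => Subtype.ext (h y.2 (x : G) x.2)⟩⟩
  have heven : 2 ∣ Nat.card L := by
    by_contra h
    exact quasisimple_not_isSolvable hLq
      (hFT L (Nat.odd_iff.mpr (Nat.two_dvd_ne_zero.mp h)))
  have hLE : L ≤ Cfsg.layer G := by
    rw [← hL2]
    exact CfsgLib.InvolComponent.two_le_of_component_even (pLayer_commutator_core hFT hL2) ht hLt hL heven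
  obtain ⟨D, hD, hLD⟩ : ∃ D : Subgroup G, Cfsg.IsComponent D ∧ ¬ L ≤ centralizer (D : Set G) := by
    by_contra hcon
    push Not at hcon
    exact hLnab (hLE.trans (sSup_le fun D hD => le_centralizer_iff.mp (hcon D hD)))
  have hLN : L ≤ normalizer (D : Set G) := hLE.trans (layer_le_normalizer_component hD)
  have hDperf : ⁅D, D⁆ = D := component_commutator_self hD
  have hDnab : ¬ D ≤ centralizer (D : Set G) := fun h =>
    component_commutator_self_ne_bot hD (commutator_eq_bot_iff_le_centralizer.mpr h)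
  set D' := D.map (MulAut.conj t).toMonoidHom with hD'
  have hD'C : Cfsg.IsComponent D' := component_map_conj hD t
  have htconj : ∀ x, t * (t * x * t⁻¹) * t⁻¹ = x := fun x => by
    calc t * (t * x * t⁻¹) * t⁻¹ = (t * t) * x * (t * t)⁻¹ := by group
      _ = x := by rw [htt, one_mul, inv_one, mul_one]
  -- decomposition along `D`
  have hdec : ∀ l ∈ L, ∃ d ∈ D, ∃ c ∈ centralizer (D : Set G), l = d * c := by
    intro l hl
    have hE : Cfsg.layer G ≤ D ⊔ centralizer (D : Set G) := sSup_le fun K hK => by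
      by_cases e : K = D
      · exact e ▸ le_sup_left
      · exact le_sup_of_le_right
          (le_centralizer_of_commutator_eq_bot (component_commutator_of_ne hK hD e))
    rw [sup_comm] at hE
    obtain ⟨c, hc, d, hd, hcd⟩ := (CfsgLib.Solvable.mem_sup_of_le_normalizer
      (show D ≤ normalizer ((centralizer (D : Set G) : Subgroup G) : Set G) from
        CfsgLib.Signalizer.le_normalizer_centralizer le_normalizer)).mp (hE (hLE hl))
    exact ⟨d, hd, c, hc, by rw [← hcd]; exact (hc d hd).symm⟩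
  by_cases hfix : D' = D
  · -- `t` normalizes `D`
    have htN : t ∈ normalizer (D : Set G) := mem_normalizer_iff_map_conj_eq.mpr hfix
    set C := D ⊓ Ct with hC
    set K₀ := Ct ⊓ normalizer (D : Set G) with hK₀
    have hLK : L ≤ K₀ := le_inf hLt hLN
    have hLK₀ : Cfsg.IsComponent (L.subgroupOf K₀) := by
      have h1 := component_subgroupOf hL (H := K₀.subgroupOf Ct) (subgroupOf_mono Ct hLK)
      have h2 := component_map_equiv (subgroupOfEquivOfLe (inf_le_left : K₀ ≤ Ct)) h1
      convert h2 using 1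
      ext x
      constructor
      · intro hx
        exact ⟨⟨⟨x, x.2.1⟩, mem_subgroupOf.mpr x.2⟩, hx, rfl⟩
      · rintro ⟨y, hy, rfl⟩
        exact hy
    haveI hCn : (C.subgroupOf K₀).Normal :=
      (normal_subgroupOf_iff_le_normalizer (le_inf inf_le_right (inf_le_left.trans le_normalizer))).mpr
        (CfsgLib.Signalizer.le_normalizer_inf inf_le_right (inf_le_left.trans le_normalizer))
    have hLleD : L ≤ D := by
      rcases component_le_or_commutator_normal hLK₀ hCn with hle | hcomm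
      · intro l hl
        exact (mem_subgroupOf.mp (hle (show (⟨l, hLK hl⟩ : ↥K₀) ∈ L.subgroupOf K₀ from hl))).1
      exfalso
      have hLC : ∀ l ∈ L, ∀ d ∈ C, d * l = l * d := by
        have h1 := congrArg (Subgroup.map K₀.subtype) hcomm
        rw [map_commutator, map_subgroupOf_eq_of_le hLK, map_subgroupOf_eq_of_le
          (le_inf inf_le_right (inf_le_left.trans le_normalizer) : C ≤ K₀), Subgroup.map_bot] at h1
        exact fun l hl d hd => (le_centralizer_of_commutator_eq_bot h1 hl) d hd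
      have hstep : L ≤ C ⊔ centralizer (D : Set G) := by
        have hcd : C ≤ normalizer ((centralizer (D : Set G) : Subgroup G) : Set G) :=
          inf_le_left.trans (CfsgLib.Signalizer.le_normalizer_centralizer le_normalizer)
        conv_lhs => rw [← hperf]
        rw [commutator_le]
        intro l₁ h₁ l₂ h₂
        obtain ⟨d₁, hd₁, c₁, hc₁, rfl⟩ := hdec l₁ h₁
        obtain ⟨d₂, hd₂, c₂, hc₂, rfl⟩ := hdec l₂ h₂
        have hcc : ∀ d ∈ D, ∀ c ∈ centralizer (D : Set G), d * c * (d * c) ⁻¹ = 1 :=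
          fun d _ c _ => mul_inv_cancel _
        have hmod : ∀ d ∈ D, ∀ c ∈ centralizer (D : Set G), d * c ∈ Ct →
            ∃ z ∈ D ⊓ centralizer (D : Set G), t * d * t⁻¹ = d * z := by
          intro d hd c hc hdc
          have h1 : t * (d * c) * t⁻¹ = d * c := by
            rw [← mem_centralizer_singleton_iff.mp hdc, mul_inv_cancel_right]
          have h2 : t * c * t⁻¹ ∈ centralizer (D : Set G) :=
            (mem_normalizer_iff.mp (CfsgLib.Signalizer.le_normalizer_centralizer
              (U := zpowers t) (zpowers_le.mpr htN) (mem_zpowers t)) c).mp hc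
          refine ⟨d⁻¹ * (t * d * t⁻¹), ⟨D.mul_mem (D.inv_mem hd)
            ((mem_normalizer_iff.mp htN d).mp hd), ?_⟩, by group⟩
          have e : d⁻¹ * (t * d * t⁻¹) = c * (t * c * t⁻¹)⁻¹ := by
            rw [eq_mul_inv_iff_mul_eq]
            calc d⁻¹ * (t * d * t⁻¹) * (t * c * t⁻¹) = d⁻¹ * (t * (d * c) * t⁻¹) := by group
              _ = c := by rw [h1]; group
          rw [e]
          exact (centralizer (D : Set G)).mul_mem hc ((centralizer (D : Set G)).inv_mem h2)
        obtain ⟨z₁, hz₁, e₁⟩ := hmod d₁ hd₁ c₁ hc₁ (hLt h₁)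
        obtain ⟨z₂, hz₂, e₂⟩ := hmod d₂ hd₂ c₂ hc₂ (hLt h₂)
        have hsplit : ∀ d ∈ D, ∀ c ∈ centralizer (D : Set G), Commute d c :=
          fun d hd c hc => hc d hd
        have e : ⁅d₁ * c₁, d₂ * c₂⁆ = ⁅d₁, d₂⁆ * ⁅c₁, c₂⁆ := by
          have k1 := hsplit d₂ hd₂ c₁ hc₁
          have k2 := hsplit d₂⁻¹ (inv_mem hd₂) (c₁ * c₂ * c₁⁻¹)
            (mul_mem (mul_mem hc₁ hc₂) (inv_mem hc₁))
          have k3 := hsplit d₁⁻¹ (inv_mem hd₁) (c₁ * c₂ * c₁⁻¹)
            (mul_mem (mul_mem hc₁ hc₂) (inv_mem hc₁))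
          simp only [commutatorElement_def]
          calc d₁ * c₁ * (d₂ * c₂) * (d₁ * c₁)⁻¹ * (d₂ * c₂)⁻¹
              = d₁ * (c₁ * d₂) * c₂ * c₁⁻¹ * d₁⁻¹ * c₂⁻¹ * d₂⁻¹ := by group
            _ = d₁ * d₂ * ((c₁ * c₂ * c₁⁻¹) * d₁⁻¹) * c₂⁻¹ * d₂⁻¹ := by rw [← k1.eq]; group
            _ = d₁ * d₂ * d₁⁻¹ * ((c₁ * c₂ * c₁⁻¹ * c₂⁻¹) * d₂⁻¹) := by rw [← k3.eq]; group
            _ = d₁ * d₂ * d₁⁻¹ * d₂⁻¹ * (c₁ * c₂ * c₁⁻¹ * c₂⁻¹) := by
              rw [← (hsplit d₂⁻¹ (inv_mem hd₂) (c₁ * c₂ * c₁⁻¹ * c₂⁻¹)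
                (mul_mem (mul_mem (mul_mem hc₁ hc₂) (inv_mem hc₁)) (inv_mem hc₂))).eq]
              group
        rw [e]
        refine mul_mem (mem_sup_left ⟨?_, mem_centralizer_singleton_iff.mpr ?_⟩) (mem_sup_right ?_)
        · simp only [commutatorElement_def]
          exact D.mul_mem (D.mul_mem (D.mul_mem hd₁ hd₂) (D.inv_mem hd₁)) (D.inv_mem hd₂)
        · have e3 : t * ⁅d₁, d₂⁆ * t⁻¹ = ⁅d₁, d₂⁆ := by
            rw [← MulAut.conj_apply, map_commutatorElement, MulAut.conj_apply, MulAut.conj_apply, e₁, e₂]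
            have q1 : ∀ d ∈ D, Commute d z₁ := fun d hd => hz₁.2 d hd
            have q2 : ∀ d ∈ D, Commute d z₂ := fun d hd => hz₂.2 d hd
            simp only [commutatorElement_def]
            calc d₁ * z₁ * (d₂ * z₂) * (d₁ * z₁)⁻¹ * (d₂ * z₂)⁻¹
                = d₁ * (z₁ * d₂) * (z₂ * z₁⁻¹) * d₁⁻¹ * z₂⁻¹ * d₂⁻¹ := by group
              _ = d₁ * d₂ * ((z₁ * z₂ * z₁⁻¹) * d₁⁻¹) * z₂⁻¹ * d₂⁻¹ := by
                rw [← (q1 d₂ hd₂).eq]; group
              _ = d₁ * d₂ * d₁⁻¹ * ((z₁ * z₂ * z₁⁻¹ * z₂⁻¹) * d₂⁻¹) := by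
                rw [← (hsplit d₁⁻¹ (inv_mem hd₁) (z₁ * z₂ * z₁⁻¹)
                  (mul_mem (mul_mem hz₁.2 hz₂.2) (inv_mem hz₁.2))).eq]
                group
              _ = d₁ * d₂ * d₁⁻¹ * d₂⁻¹ := by
                rw [show z₁ * z₂ * z₁⁻¹ * z₂⁻¹ = 1 by rw [(q2 z₁ hz₁.1).eq]; group, one_mul]
          calc ⁅d₁, d₂⁆ * t = t * ⁅d₁, d₂⁆ * t⁻¹ * t := by rw [e3]
            _ = t * ⁅d₁, d₂⁆ := inv_mul_cancel_right _ _
        · simp only [commutatorElement_def]
          exact mul_mem (mul_mem (mul_mem hc₁ hc₂) (inv_mem hc₁)) (inv_mem hc₂)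
      apply hLD
      conv_lhs => rw [← hperf]
      rw [commutator_le]
      intro l₁ h₁ l₂ h₂
      have hcd : C ≤ normalizer ((centralizer (D : Set G) : Subgroup G) : Set G) :=
        inf_le_left.trans (CfsgLib.Signalizer.le_normalizer_centralizer le_normalizer)
      have hs₁ := hstep h₁
      have hs₂ := hstep h₂
      rw [sup_comm] at hs₁ hs₂
      obtain ⟨c₁, hc₁, d₁, hd₁, rfl⟩ := (CfsgLib.Solvable.mem_sup_of_le_normalizer hcd).mp hs₁
      obtain ⟨c₂, hc₂, d₂, hd₂, rfl⟩ := (CfsgLib.Solvable.mem_sup_of_le_normalizer hcd).mp hs₂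
      have k1 : Commute d₁ (c₂ * d₂) := hLC _ h₂ d₁ hd₁
      have k2 : Commute d₂ c₁ := hc₁ d₂ hd₂.1
      have k3 : Commute d₁ d₂ := by
        have k4 : Commute d₁ c₂ := hc₂ d₁ hd₁.1
        have := (k4.inv_right.mul_right k1)
        rwa [inv_mul_cancel_left] at this
      have k4 : Commute d₁ c₂ := hc₂ d₁ hd₁.1
      simp only [commutatorElement_def]
      have e : c₁ * d₁ * (c₂ * d₂) * (c₁ * d₁)⁻¹ * (c₂ * d₂)⁻¹ = c₁ * c₂ * c₁⁻¹ * c₂⁻¹ := by
        calc c₁ * d₁ * (c₂ * d₂) * (c₁ * d₁)⁻¹ * (c₂ * d₂)⁻¹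
            = c₁ * (d₁ * (c₂ * d₂)) * d₁⁻¹ * c₁⁻¹ * d₂⁻¹ * c₂⁻¹ := by group
          _ = c₁ * c₂ * (d₂ * c₁⁻¹) * d₂⁻¹ * c₂⁻¹ := by rw [k1.eq]; group
          _ = c₁ * c₂ * c₁⁻¹ * c₂⁻¹ := by rw [k2.inv_right.eq]; group
      rw [e]
      exact mul_mem (mul_mem (mul_mem hc₁ hc₂) (inv_mem hc₁)) (inv_mem hc₂)
    refine ⟨D, hD, ?_⟩
    by_cases heq : L = D
    · exact Or.inl heq
    refine Or.inr (Or.inl ⟨lt_of_le_of_ne hLleD heq, ?_⟩)
    set M := ⁅D, zpowers t⁆ with hM
    have hMD : M ≤ D := CfsgLib.Solvable.commutator_le_of_normalizes (zpowers_le.mpr htN)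
    haveI hMn : (M.subgroupOf D).Normal :=
      (normal_subgroupOf_iff_le_normalizer hMD).mpr (CfsgLib.Solvable.le_normalizer_commutator_left D _)
    rcases quasisimple_normal_top_or_central hD.2 hMn with htop | hcen
    · exact le_antisymm (subgroupOf_eq_top.mp htop) hMD
    exfalso
    have htcen : t ∈ centralizer (D : Set G) := by
      refine CfsgLib.Signalizer.CoreSep.mem_centralizer_of_perfect hDperf
        (N := D ⊓ centralizer (D : Set G)) ?_ htN ?_
      · rw [le_centralizer_iff]; exact inf_le_right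
      · intro d hd
        have h1 : ⁅d, t⁆ ∈ M := commutator_mem_commutator hd (mem_zpowers t)
        have h2 : ⁅t, d⁆ ∈ M := by
          rw [← commutatorElement_inv]; exact inv_mem h1
        refine ⟨hMD h2, fun y hy => ?_⟩
        exact congrArg Subtype.val (mem_center_iff.mp
          (hcen (show (⟨⁅t, d⁆, hMD h2⟩ : ↥D) ∈ M.subgroupOf D from h2)) ⟨y, hy⟩)
    have hDt : D ≤ Ct := fun d hd => mem_centralizer_singleton_iff.mpr (htcen d hd)
    have h1 := component_eq_of_le hL (component_subgroupOf hD hDt) (subgroupOf_mono Ct hLleD)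
    exact heq (by
      have h2 := congrArg (Subgroup.map Ct.subtype) h1
      rwa [map_subgroupOf_eq_of_le hLt, map_subgroupOf_eq_of_le hDt] at h2)
  · -- `t` moves `D`
    refine ⟨D, hD, Or.inr (Or.inr ⟨hfix, ?_⟩)⟩
    set M := D ⊔ D' with hM
    set K := M ⊓ Ct with hK
    have hDD' : D' ≤ centralizer (D : Set G) :=
      le_centralizer_of_commutator_eq_bot (component_commutator_of_ne hD'C hD hfix)
    have hcm : ∀ a ∈ D, ∀ b ∈ D', Commute a b := fun a ha b hb => hDD' hb a ha
    have hmem' : ∀ a ∈ D, t * a * t⁻¹ ∈ D' := fun a ha => ⟨a, ha, rfl⟩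
    have hmem : ∀ a ∈ D', t * a * t⁻¹ ∈ D := by
      rintro _ ⟨a, ha, rfl⟩
      rw [show t * (MulAut.conj t).toMonoidHom a * t⁻¹ = a from htconj a]
      exact ha
    let φ : ↥D →* G :=
      { toFun := fun d => (d : G) * (t * d * t⁻¹)
        map_one' := by simp
        map_mul' := fun a b => by
          show (a : G) * b * (t * (a * b) * t⁻¹) = (a : G) * (t * a * t⁻¹) * (b * (t * b * t⁻¹))
          have k := (hcm b b.2 _ (hmem' a a.2)).eq
          calc (a : G) * b * (t * (a * b) * t⁻¹)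
              = a * ((b : G) * (t * a * t⁻¹)) * (t * b * t⁻¹) := by group
            _ = (a : G) * (t * a * t⁻¹) * (b * (t * b * t⁻¹)) := by rw [k]; group }
    set P := φ.range with hP
    have hPK : P ≤ K := by
      rintro _ ⟨d, rfl⟩
      refine ⟨mul_mem (mem_sup_left d.2) (mem_sup_right (hmem' d d.2)),
        mem_centralizer_singleton_iff.mpr ?_⟩
      show (d : G) * (t * d * t⁻¹) * t = t * ((d : G) * (t * d * t⁻¹))
      have k := (hcm d d.2 _ (hmem' d d.2)).eq
      have e1 : (d : G) * (t * d * t⁻¹) * t = d * t * d := by group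
      have e2 : t * ((t * (d : G) * t⁻¹) * d) = d * t * d := by
        rw [← mul_assoc, ← mul_assoc, ← mul_assoc, htt, one_mul, hti]
      rw [e1, k, e2]
    have hD1 : Cfsg.IsQuasisimple ↥D := hD.2
    haveI : Nontrivial ↥P := by
      rw [nontrivial_iff_ne_bot]
      intro hb
      refine hDnab fun d hd e he => ?_
      have h1 : φ ⟨d, hd⟩ = 1 := mem_bot.mp (hb ▸ ⟨⟨d, hd⟩, rfl⟩)
      have h2 : d = (t * d * t⁻¹)⁻¹ := eq_inv_of_mul_eq_one_left h1
      rw [h2]
      exact hDD' (inv_mem (hmem' d hd)) e he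
    have hPq : Cfsg.IsQuasisimple ↥P :=
      quasisimple_of_surjective hD1 φ.rangeRestrict_surjective
    have hPperf : ⁅P, P⁆ = P := by
      rw [hP, MonoidHom.range_eq_map, ← map_commutator, ← _root_.commutator_def,
        (quasisimple_isPerfect hD1).commutator_eq_top]
    -- `K` is `P` times a central part
    have hKdec : ∀ m ∈ K, ∃ p ∈ P, ∃ z ∈ D' ⊓ centralizer (D' : Set G), m = p * z := by
      intro m hm
      have hm1 := hm.1
      rw [hM, sup_comm] at hm1
      obtain ⟨d', hd', d, hd, rfl⟩ := (CfsgLib.Solvable.mem_sup_of_le_normalizer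
        (show D ≤ normalizer (D' : Set G) from (le_centralizer_iff.mp hDD').trans
          (centralizer_le_normalizer _))).mp hm1
      have hfx : t * (d' * d) * t⁻¹ = d' * d := by
        rw [← mem_centralizer_singleton_iff.mp hm.2, mul_inv_cancel_right]
      set z := d⁻¹ * (t * d' * t⁻¹) with hz
      have hzD : z ∈ D := D.mul_mem (D.inv_mem hd) (hmem d' hd')
      have hzD' : z ∈ D' := by
        have e : z = d' * (t * d * t⁻¹)⁻¹ * (d⁻¹ * 1) * d := by
          rw [hz, eq_comm, mul_one]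
          calc d' * (t * d * t⁻¹)⁻¹ * d⁻¹ * d = d' * (t * d * t⁻¹)⁻¹ := inv_mul_cancel_right _ _
            _ = d⁻¹ * (t * d' * t⁻¹) := by
              rw [mul_inv_eq_iff_eq_mul, mul_assoc, show t * d' * t⁻¹ * (t * d * t⁻¹) =
                t * (d' * d) * t⁻¹ by group, hfx, ← (hcm d hd d' hd').eq, inv_mul_cancel_left]
        rw [e, mul_one, inv_mul_cancel_right]
        exact D'.mul_mem hd' (D'.inv_mem (hmem' d hd))
      refine ⟨φ ⟨d, hd⟩, ⟨_, rfl⟩, t * z * t⁻¹, ⟨hmem' z hzD, ?_⟩, ?_⟩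
      · intro y hy
        have h1 : Commute (t * y * t⁻¹) z := (hcm _ (hmem y hy) z hzD')
        have h2 := h1.map (MulAut.conj t).toMonoidHom
        simp only [MulEquiv.coe_toMonoidHom, MulAut.conj_apply, htconj] at h2
        exact h2.eq
      · show d' * d = (d : G) * (t * d * t⁻¹) * (t * (d⁻¹ * (t * d' * t⁻¹)) * t⁻¹)
        rw [show (d : G) * (t * d * t⁻¹) * (t * (d⁻¹ * (t * d' * t⁻¹)) * t⁻¹) =
          d * (t * (t * d' * t⁻¹) * t⁻¹) by group, htconj]
        exact (hcm d hd d' hd').eq.symm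
    have hMc : ∀ z ∈ D' ⊓ centralizer (D' : Set G), ∀ m ∈ M, m * z = z * m := by
      intro z hz
      have : M ≤ centralizer ({z} : Set G) := sup_le
        (fun a ha => mem_centralizer_singleton_iff.mpr (hcm a ha z hz.1).eq)
        (fun a ha => mem_centralizer_singleton_iff.mpr (hz.2 a ha))
      exact fun m hm => mem_centralizer_singleton_iff.mp (this hm)
    have hKK : ⁅K, K⁆ = P := by
      refine le_antisymm ?_ (hPperf.symm.trans_le (commutator_mono hPK hPK))
      rw [commutator_le]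
      intro m₁ h₁ m₂ h₂
      obtain ⟨p₁, hp₁, z₁, hz₁, rfl⟩ := hKdec m₁ h₁
      obtain ⟨p₂, hp₂, z₂, hz₂, rfl⟩ := hKdec m₂ h₂
      have c1 : ∀ m ∈ M, Commute m z₁ := hMc z₁ hz₁
      have c2 : ∀ m ∈ M, Commute m z₂ := hMc z₂ hz₂
      have q₁ := (hPK hp₁).1
      have q₂ := (hPK hp₂).1
      have e : ⁅p₁ * z₁, p₂ * z₂⁆ = ⁅p₁, p₂⁆ := by
        simp only [commutatorElement_def]
        calc p₁ * z₁ * (p₂ * z₂) * (p₁ * z₁)⁻¹ * (p₂ * z₂)⁻¹
            = p₁ * (z₁ * (p₂ * z₂)) * z₁⁻¹ * p₁⁻¹ * z₂⁻¹ * p₂⁻¹ := by group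
          _ = p₁ * p₂ * (z₂ * p₁⁻¹) * z₂⁻¹ * p₂⁻¹ := by
            rw [← (c1 _ (mul_mem q₂ (mem_sup_right hz₂.1))).eq]; group
          _ = p₁ * p₂ * p₁⁻¹ * p₂⁻¹ := by rw [← (c2 _ (inv_mem q₁)).eq]; group
      rw [e, commutatorElement_def]
      exact P.mul_mem (P.mul_mem (P.mul_mem hp₁ hp₂) (P.inv_mem hp₁)) (P.inv_mem hp₂)
    -- `P` is a component of `C(t)`
    set E := Cfsg.layer G with hE
    have hML : M ≤ E := sup_le (component_le_layer hD) (component_le_layer hD'C)
    have hEM : E ≤ normalizer (M : Set G) :=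
      CfsgLib.Signalizer.le_normalizer_sup (layer_le_normalizer_component hD)
        (layer_le_normalizer_component hD'C)
    have hnorm : E ⊓ Ct ≤ normalizer (P : Set G) := by
      rw [← hKK]
      intro x hx
      have hxK : x ∈ normalizer (K : Set G) :=
        CfsgLib.Signalizer.le_normalizer_inf (U := E ⊓ Ct) (inf_le_left.trans hEM)
          (inf_le_right.trans le_normalizer) hx
      exact CfsgLib.Signalizer.normalizer_inf_le_normalizer_commutator K K ⟨hxK, hxK⟩
    have hPE : P ≤ E ⊓ Ct := le_inf ((hPK.trans inf_le_left).trans hML) (hPK.trans inf_le_right)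
    have hPC : Cfsg.IsComponent (P.subgroupOf Ct) := by
      refine ⟨?_, (quasisimple_congr (subgroupOfEquivOfLe (hPK.trans inf_le_right))).mpr hPq⟩
      haveI : (Cfsg.layer G).Normal := inferInstance
      refine isSubnormal_of_le_normalizer (K := (E ⊓ Ct).subgroupOf Ct) (subgroupOf_mono Ct hPE) ?_ ?_
      · intro x hx
        rw [mem_normalizer_iff]
        intro y
        simp only [mem_subgroupOf, Subgroup.coe_mul, Subgroup.coe_inv]
        exact mem_normalizer_iff.mp (hnorm (mem_subgroupOf.mp hx)) (y : G)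
      · rw [inf_subgroupOf_right]
        exact (Normal.subgroupOf inferInstance _).isSubnormal
    have hLP : L = P := by
      rcases component_eq_or_commutator hL hPC with h | h
      · have h2 := congrArg (Subgroup.map Ct.subtype) h
        rwa [map_subgroupOf_eq_of_le hLt, map_subgroupOf_eq_of_le (hPK.trans inf_le_right)] at h2
      · exfalso
        have h1 := congrArg (Subgroup.map Ct.subtype) h
        rw [map_commutator, map_subgroupOf_eq_of_le hLt,
          map_subgroupOf_eq_of_le (hPK.trans inf_le_right), Subgroup.map_bot] at h1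
        refine hLD fun l hl => ?_
        refine CfsgLib.Signalizer.CoreSep.mem_centralizer_of_perfect hDperf
          (N := D ⊓ D') ?_ (hLN hl) fun d hd => ?_
        · rw [le_centralizer_iff]; exact inf_le_right.trans hDD'
        · have hc : φ ⟨d, hd⟩ * l = l * φ ⟨d, hd⟩ :=
            le_centralizer_of_commutator_eq_bot h1 hl _ ⟨⟨d, hd⟩, rfl⟩
          have hld : l * d * l⁻¹ ∈ D := (mem_normalizer_iff.mp (hLN hl) d).mp hd
          have hlD' : l * (t * d * t⁻¹) * l⁻¹ ∈ D' :=
            (mem_normalizer_iff.mp (hLE.trans (layer_le_normalizer_component hD'C) hl) _).mp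
              (hmem' d hd)
          have e : ⁅l, d⁆ = (l * (t * d * t⁻¹) * l⁻¹)⁻¹ * (t * d * t⁻¹) := by
            have k : (d : G) * (t * d * t⁻¹) = (t * d * t⁻¹) * d := (hcm d hd _ (hmem' d hd)).eq
            have hc' : (d : G) * (t * d * t⁻¹) * l = l * ((d : G) * (t * d * t⁻¹)) := hc
            rw [commutatorElement_def, eq_inv_mul_iff_mul_eq]
            calc l * (t * d * t⁻¹) * l⁻¹ * (l * d * l⁻¹ * d⁻¹)
                = l * ((t * d * t⁻¹) * d) * l⁻¹ * d⁻¹ := by group
              _ = (d * (t * d * t⁻¹) * l) * l⁻¹ * d⁻¹ := by rw [← k, hc']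
              _ = t * d * t⁻¹ := by rw [k]; group
          refine ⟨?_, e ▸ D'.mul_mem (D'.inv_mem hlD') (hmem' d hd)⟩
          rw [commutatorElement_def]
          exact D.mul_mem hld (D.inv_mem hd)
    -- the layer of `K` is `P`
    have hPKc : Cfsg.IsComponent (P.subgroupOf K) := by
      refine ⟨?_, (quasisimple_congr (subgroupOfEquivOfLe hPK)).mpr hPq⟩
      refine Normal.isSubnormal ((normal_subgroupOf_iff_le_normalizer hPK).mpr ?_)
      exact (le_inf (inf_le_left.trans hML) inf_le_right).trans hnorm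
    rw [hLP]
    refine le_antisymm ?_ ?_
    · rw [← map_subgroupOf_eq_of_le hPK]
      exact map_mono (component_le_layer hPKc)
    · rw [map_le_iff_le_comap]
      refine sSup_le fun Q hQ => ?_
      rw [← component_commutator_self hQ, ← map_le_iff_le_comap, map_commutator, ← hKK]
      exact commutator_mono (map_subtype_le _) (map_subtype_le _)

end CfsgLib.CentralizerTrichotomy
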