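import Cfsg.Prelude.Def_Balance
import Cfsg.Agent.Lib.Components.PLayer
import Cfsg.Agent.Lib.Components.GenFittingSub

/-!
The extended 2-layer `L*_{2'}(X)`.
-/

set_option autoImplicit false
set_option linter.style.haveILetI false
set_option linter.unusedVariables false

namespace CfsgLib.ExtTwoLayer

open Subgroup CfsgLib.Components

variable {X : Type*} [Group X]

/-- `O(C_X(S))` as a subgroup of `X`. -/
def coreCent (S : Subgroup X) : Subgroup X :=
  (Cfsg.oddCore ↥(centralizer (S : Set X))).map (centralizer (S : Set X)).subtype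

variable (X) in
/-- `L_{2'}(X) O_{2',2}(X)`. -/
def base : Subgroup X := Cfsg.pLayer 2 X ⊔ Cfsg.pPrimePCore 2 X

variable (X) in
/-- `L_{2'}(X) O(X)`. -/
def bottom : Subgroup X := Cfsg.pLayer 2 X ⊔ Cfsg.oddCore X

instance base_normal : (base X).Normal := by
  haveI : (Cfsg.pPrimePCore 2 X).Normal := by
    haveI := CfsgLib.Solvable.pCore_normal (p := 2) (X ⧸ Cfsg.pPrimeCore 2 X)
    exact Normal.comap inferInstance _
  exact sup_normal _ _

instance bottom_normal : (bottom X).Normal := by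
  haveI := CfsgLib.Solvable.pPrimeCore_normal 2 X
  exact sup_normal _ _

theorem coreCent_le_centralizer (S : Subgroup X) : coreCent S ≤ centralizer (S : Set X) :=
  map_subtype_le _

theorem map_pPrimeCore_of_map_eq [Finite X] {H H' : Subgroup X} (e : X ≃* X)
    (h : H.map e.toMonoidHom = H') (p : ℕ) :
    ((Cfsg.pPrimeCore p ↥H).map H.subtype).map e.toMonoidHom =
      (Cfsg.pPrimeCore p ↥H').map H'.subtype := by
  subst h
  have he := CfsgLib.Solvable.map_pPrimeCore_mulEquiv (p := p)
    (H.equivMapOfInjective e.toMonoidHom e.injective)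
  rw [← he, Subgroup.map_map, Subgroup.map_map]
  rfl

theorem coreCent_conj [Finite X] (g : X) (S : Subgroup X) :
    (coreCent S).map (MulAut.conj g).toMonoidHom = coreCent (S.map (MulAut.conj g).toMonoidHom) := by
  refine map_pPrimeCore_of_map_eq (MulAut.conj g) ?_ 2
  rw [CfsgLib.GenFittingSub.map_conj_centralizer, coe_map]
  rfl

theorem odd_coreCent [Finite X] (S : Subgroup X) : (Nat.card ↥(coreCent S)).Coprime 2 := by
  rw [coreCent, card_map_of_injective (subtype_injective _)]
  exact CfsgLib.Solvable.pPrimeCore_card_coprime 2 _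

theorem sylow_sup_bottom [Finite X] (T : Sylow 2 ↥(base X)) :
    base X ≤ bottom X ⊔ (T : Subgroup ↥(base X)).map (base X).subtype := by
  haveI : Fact (Nat.Prime 2) := ⟨Nat.prime_two⟩
  rw [← relIndex_eq_one]
  have h1 : ¬ 2 ∣ ((T : Subgroup ↥(base X)).map (base X).subtype).relIndex (base X) := by
    rw [relIndex, subgroupOf, comap_map_eq_self_of_injective (base X).subtype_injective]
    exact T.not_dvd_index
  have h2 : ∃ n, (Cfsg.oddCore X).relIndex (Cfsg.pPrimePCore 2 X) = 2 ^ n := by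
    obtain ⟨n, hn⟩ := CfsgLib.Solvable.card_pCore (p := 2) (G := X ⧸ Cfsg.pPrimeCore 2 X)
    refine ⟨n, ?_⟩
    have h := relIndex_comap (H := (⊥ : Subgroup (X ⧸ Cfsg.pPrimeCore 2 X)))
      (QuotientGroup.mk' (Cfsg.pPrimeCore 2 X)) (Cfsg.pPrimePCore 2 X)
    rw [MonoidHom.comap_bot, QuotientGroup.ker_mk', relIndex_bot_left, Cfsg.pPrimePCore,
      map_comap_eq_self_of_surjective (QuotientGroup.mk'_surjective _)] at h
    exact h.trans hn
  obtain ⟨n, hn⟩ := h2
  have h3 : (bottom X).relIndex (base X) ∣ 2 ^ n := by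
    have hb : base X = Cfsg.pPrimePCore 2 X ⊔ bottom X := by
      refine le_antisymm (sup_le (le_sup_left.trans le_sup_right) le_sup_left) (sup_le le_sup_right
        (sup_le le_sup_left (le_trans ?_ le_sup_right)))
      intro x hx
      show QuotientGroup.mk' (Cfsg.pPrimeCore 2 X) x ∈ Cfsg.pCore 2 (X ⧸ Cfsg.pPrimeCore 2 X)
      rw [show QuotientGroup.mk' (Cfsg.pPrimeCore 2 X) x = 1 from (QuotientGroup.eq_one_iff x).mpr hx]
      exact one_mem _
    rw [hb, relIndex_sup_right, ← hn]
    exact relIndex_dvd_of_le_left _ le_sup_right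
  set B := bottom X ⊔ (T : Subgroup ↥(base X)).map (base X).subtype with hB
  have h4 : B.relIndex (base X) ∣ 2 ^ n := (relIndex_dvd_of_le_left _ le_sup_left).trans h3
  obtain ⟨i, -, hi⟩ := (Nat.dvd_prime_pow Nat.prime_two).mp h4
  rcases Nat.eq_zero_or_pos i with rfl | hpos
  · simpa using hi
  · exact absurd (((dvd_pow_self 2 hpos.ne').trans hi.symm.dvd).trans
      (relIndex_dvd_of_le_left _ le_sup_right)) h1

theorem coreCent_sylow_le [Finite X] (T T' : Sylow 2 ↥(base X)) :
    coreCent ((T' : Subgroup ↥(base X)).map (base X).subtype) ≤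
      bottom X ⊔ coreCent ((T : Subgroup ↥(base X)).map (base X).subtype) := by
  haveI : Fact (Nat.Prime 2) := ⟨Nat.prime_two⟩
  obtain ⟨n, hn⟩ := MulAction.exists_smul_eq ↥(base X) T T'
  have hmap : (T' : Subgroup ↥(base X)).map (base X).subtype =
      ((T : Subgroup ↥(base X)).map (base X).subtype).map (MulAut.conj (n : X)).toMonoidHom := by
    rw [← hn, Sylow.coe_subgroup_smul, Subgroup.map_map]
    show ((T : Subgroup ↥(base X)).map (MulAut.conj n).toMonoidHom).map (base X).subtype = _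
    rw [Subgroup.map_map]
    rfl
  rw [hmap, ← coreCent_conj]
  rintro _ ⟨x, hx, rfl⟩
  obtain ⟨r, hr, t, ht, hrt⟩ := mem_sup_of_normal_left.mp (sylow_sup_bottom T n.2)
  have htx : t * x = x * t := coreCent_le_centralizer _ hx t ht
  show (n : X) * x * (n : X)⁻¹ ∈ _
  rw [← hrt, show r * t * x * (r * t)⁻¹ = r * x * r⁻¹ by
    rw [mul_assoc r t x, htx]; simp [mul_assoc]]
  exact mul_mem (mul_mem (mem_sup_left hr) (mem_sup_right hx)) (inv_mem (mem_sup_left hr))

theorem extendedTwoLayer_eq [Finite X] (T : Sylow 2 ↥(base X)) :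
    Cfsg.extendedTwoLayer X =
      bottom X ⊔ coreCent ((T : Subgroup ↥(base X)).map (base X).subtype) := by
  show bottom X ⊔ (⨆ S : Sylow 2 ↥(base X),
    coreCent ((S : Subgroup ↥(base X)).map (base X).subtype)) = _
  exact le_antisymm (sup_le le_sup_left (iSup_le fun S => coreCent_sylow_le T S))
    (sup_le_sup_left (le_iSup (fun S : Sylow 2 ↥(base X) =>
      coreCent ((S : Subgroup ↥(base X)).map (base X).subtype)) T) _)

/-- The conjugate of a Sylow subgroup of `L_{2'}O_{2',2}` is again one. -/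
theorem exists_sylow_conj [Finite X] (g : X) (T : Sylow 2 ↥(base X)) :
    ∃ T' : Sylow 2 ↥(base X), (T' : Subgroup ↥(base X)).map (base X).subtype =
      ((T : Subgroup ↥(base X)).map (base X).subtype).map (MulAut.conj g).toMonoidHom := by
  have hs : Function.Surjective ((MulAut.conjNormal g : MulAut ↥(base X)).toMonoidHom) :=
    MulEquiv.surjective _
  refine ⟨T.mapSurjective hs, ?_⟩
  rw [Sylow.coe_mapSurjective, Subgroup.map_map, Subgroup.map_map]
  rfl

theorem extendedTwoLayer_normal [Finite X] : (Cfsg.extendedTwoLayer X).Normal := by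
  obtain ⟨T⟩ : Nonempty (Sylow 2 ↥(base X)) := inferInstance
  refine normal_of_map_conj_le fun g => ?_
  obtain ⟨T', hT'⟩ := exists_sylow_conj g T
  conv_rhs => rw [extendedTwoLayer_eq T']
  rw [extendedTwoLayer_eq T, Subgroup.map_sup, coreCent_conj, hT']
  refine sup_le_sup_right ?_ _
  rintro _ ⟨x, hx, rfl⟩
  exact (bottom_normal).conj_mem x hx g

/-- Every 2-component is a normal subgroup of the extended 2-layer. -/
theorem extendedTwoLayer_le_normalizer [Finite X] {K : Subgroup X} (hK : Cfsg.IsPComponent 2 K) :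
    Cfsg.extendedTwoLayer X ≤ normalizer (K : Set X) := by
  haveI : Fact (Nat.Prime 2) := ⟨Nat.prime_two⟩
  obtain ⟨P⟩ : Nonempty (Sylow 2 ↥K) := inferInstance
  have hPN : (P : Subgroup ↥K).map K.subtype ≤ base X :=
    (map_subtype_le _).trans ((pComponent_le_pLayer hK).trans le_sup_left)
  obtain ⟨T, hT⟩ := IsPGroup.exists_le_sylow
    ((P.isPGroup'.map K.subtype).comap_subtype (K := base X))
  set T' := (T : Subgroup ↥(base X)).map (base X).subtype with hT'
  have hPT : (P : Subgroup ↥K).map K.subtype ≤ T' := fun x hx =>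
    ⟨⟨x, hPN hx⟩, hT hx, rfl⟩
  rw [extendedTwoLayer_eq T]
  refine sup_le (sup_le (pLayer_le_normalizer_pComponent hK) (core_le_normalizer_pComponent hK)) ?_
  intro x hx
  refine mem_normalizer_pComponent hK ?_
  set f := QuotientGroup.mk' (Cfsg.pPrimeCore 2 X) with hf
  by_contra hne
  have hne' : (K.map f).map (MulAut.conj (f x)).toMonoidHom ≠ K.map f := fun he =>
    hne (mem_normalizer_fintype fun a ha => he ▸ ⟨a, ha, rfl⟩)
  have hcomm := component_commutator_of_ne hK.2.1 (component_map_conj hK.2.1 (f x)) (Ne.symm hne')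
  apply component_commutator_self_ne_bot hK.2.1
  rw [commutator_eq_bot_iff_le_centralizer]
  have hgen : pElements 2 K ≤ (centralizer ((K.map f : Subgroup _) : Set _)).comap f := by
    rw [pElements_le_iff]
    intro b hb k hk
    have hbp : IsPGroup 2 ↥(zpowers (⟨b, hb⟩ : ↥K)) :=
      IsPGroup.of_card (n := Nat.log 2 (orderOf (⟨b, hb⟩ : ↥K))) (by
        rw [Nat.card_zpowers]
        obtain ⟨i, -, hi⟩ := (Nat.dvd_prime_pow Nat.prime_two).mp
          (orderOf_dvd_of_pow_eq_one (show (⟨b, hb⟩ : ↥K) ^ 2 ^ k = 1 from Subtype.ext hk))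
        rw [hi, Nat.log_pow (by norm_num)])
    obtain ⟨Q, hQ⟩ := hbp.exists_le_sylow
    obtain ⟨c, hc⟩ := MulAction.exists_smul_eq ↥K P Q
    have hb' : (⟨b, hb⟩ : ↥K) ∈ (P : Subgroup ↥K).map (MulAut.conj c).toMonoidHom := by
      have := hQ (mem_zpowers (⟨b, hb⟩ : ↥K))
      rw [← hc, Sylow.coe_subgroup_smul] at this
      exact this
    obtain ⟨a, ha, hab⟩ := hb'
    have hax : (a : X) * x = x * (a : X) :=
      coreCent_le_centralizer _ hx (a : X) (hPT ⟨a, ha, rfl⟩)
    have hmem : f (a : X) ∈ (K.map f).map (MulAut.conj (f x)).toMonoidHom :=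
      ⟨f (a : X), ⟨a, a.2, rfl⟩, by
        show f x * f (a : X) * (f x)⁻¹ = f (a : X)
        rw [← map_mul, ← hax, map_mul, mul_inv_cancel_right]⟩
    have hcent : f (a : X) ∈ centralizer ((K.map f : Subgroup _) : Set _) :=
      le_centralizer_of_commutator_eq_bot (by rwa [commutator_comm]) hmem
    have hb2 : f b = f (a : X) := by
      have h1 : b = (c : X) * (a : X) * (c : X)⁻¹ := (congrArg Subtype.val hab).symm
      rw [h1, map_mul, map_mul, map_inv,
        ((mem_centralizer_iff.mp hcent) (f (c : X)) ⟨(c : X), c.2, rfl⟩ : f (c : X) * f (a : X) = f (a : X) * f (c : X)),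
        mul_inv_cancel_right]
    rw [Subgroup.mem_comap, hb2]
    exact hcent
  rw [pElements_pComponent hK] at hgen
  exact map_le_iff_le_comap.mpr hgen

theorem pComponent_le_extendedTwoLayer {K : Subgroup X} (hK : Cfsg.IsPComponent 2 K) :
    K ≤ Cfsg.extendedTwoLayer X :=
  (pComponent_le_pLayer hK).trans (le_sup_left.trans le_sup_left)

/-- The odd complement. -/
theorem exists_odd_complement [Finite X] :
    ∃ F : Subgroup X, Odd (Nat.card ↥F) ∧
      (∃ S : Sylow 2 X, (S : Subgroup X) ≤ normalizer (F : Set X)) ∧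
      Cfsg.extendedTwoLayer X = Cfsg.pLayer 2 X ⊔ F := by
  haveI : Fact (Nat.Prime 2) := ⟨Nat.prime_two⟩
  haveI := CfsgLib.Solvable.pPrimeCore_normal 2 X
  obtain ⟨T⟩ : Nonempty (Sylow 2 ↥(base X)) := inferInstance
  set T' := (T : Subgroup ↥(base X)).map (base X).subtype with hT'
  obtain ⟨S, hS⟩ := (T.isPGroup'.map (base X).subtype).exists_le_sylow
  have hST : ∀ s ∈ (S : Subgroup X), T'.map (MulAut.conj s).toMonoidHom = T' := by
    intro s hs
    have hle : ((S : Subgroup X).subgroupOf (base X)) = (T : Subgroup ↥(base X)) :=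
      T.is_maximal' (S.isPGroup'.comap_subtype) fun y hy => hS ⟨y, hy, rfl⟩
    refine eq_of_le_of_card_ge ?_ (le_of_eq (card_map_of_injective (MulAut.conj s).injective).symm)
    rintro _ ⟨y, hy, rfl⟩
    obtain ⟨z, hz, rfl⟩ := hy
    refine ⟨⟨s * (z : X) * s⁻¹, (base_normal).conj_mem _ z.2 s⟩, ?_, rfl⟩
    show _ ∈ (T : Subgroup ↥(base X))
    rw [← hle]
    exact mul_mem (mul_mem hs (hS ⟨z, hz, rfl⟩)) (inv_mem hs)
  refine ⟨Cfsg.oddCore X ⊔ coreCent T', ?_, ⟨S, fun s hs => ?_⟩, ?_⟩
  · refine Nat.coprime_two_right.mp (Nat.Coprime.coprime_dvd_left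
      (CfsgLib.Solvable.card_sup_dvd_mul _ _) ?_)
    exact Nat.Coprime.mul_left (CfsgLib.Solvable.pPrimeCore_card_coprime 2 X) (odd_coreCent _)
  · refine mem_normalizer_fintype fun y hy => ?_
    have : (Cfsg.oddCore X ⊔ coreCent T').map (MulAut.conj s).toMonoidHom ≤
        Cfsg.oddCore X ⊔ coreCent T' := by
      rw [Subgroup.map_sup, coreCent_conj, hST s hs]
      refine sup_le_sup_right ?_ _
      rintro _ ⟨x, hx, rfl⟩
      exact (CfsgLib.Solvable.pPrimeCore_normal 2 X).conj_mem x hx s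
    exact this ⟨y, hy, rfl⟩
  · rw [extendedTwoLayer_eq T, bottom, sup_assoc]

end CfsgLib.ExtTwoLayer
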