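import Cfsg.Agent.Lib.Components.LBalanceTwo
import Cfsg.Agent.Lib.Components.ExtTwoLayer
import Cfsg.Agent.Lib.Components.Permute

/-!
Core balance for the prime 2: `O(C_X(R)) ≤ L*_{2'}(X)` for every 2-subgroup `R` of a finite group.
-/

set_option autoImplicit false
set_option linter.style.haveILetI false
set_option linter.unusedVariables false
set_option linter.unusedSectionVars false

open Subgroup
open scoped commutatorElement

namespace CfsgLib.CoreBalance

open CfsgLib.Balance (coreP coreP_le coreP_coprime le_coreP le_normalizer_coreP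
  normalizer_le_normalizer_coreP)
open CfsgLib.Components

universe u

variable {H : Type u} [Group H] [Finite H]

theorem odd_orderOf_of_mem {D : Subgroup H} (hD : (Nat.card D).Coprime 2) {x : H} (hx : x ∈ D) :
    Odd (orderOf x) :=
  Nat.coprime_two_right.mp (hD.coprime_dvd_left (Subgroup.orderOf_dvd_natCard _ hx))

/-- A representative of odd order in a coset of odd order. -/
theorem exists_odd_rep (E : Subgroup H) [E.Normal] {d y : H} (hd : Odd (orderOf d))
    (h : d * y⁻¹ ∈ E) : ∃ e : ℕ, Odd (orderOf (y ^ e)) ∧ d * (y ^ e)⁻¹ ∈ E := by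
  obtain ⟨i, m, hm, hy⟩ :=
    Nat.exists_eq_pow_mul_and_not_dvd (orderOf_pos y).ne' 2 (by norm_num)
  obtain ⟨t, ht⟩ := exists_pow_eq_self_of_coprime (x := d) (n := 2 ^ i)
    ((Nat.coprime_two_left.mpr hd).pow_left i)
  refine ⟨2 ^ i * t, ?_, ?_⟩
  · have hodd : Odd m := Nat.not_even_iff_odd.mp fun he => hm (even_iff_two_dvd.mp he)
    refine hodd.of_dvd_nat (orderOf_dvd_of_pow_eq_one ?_)
    rw [← pow_mul, show 2 ^ i * t * m = orderOf y * t by rw [hy]; ring, pow_mul,
      pow_orderOf_eq_one, one_pow]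
  · have h1 : QuotientGroup.mk' E d = QuotientGroup.mk' E y := by
      rw [← mul_inv_eq_one, ← map_inv, ← map_mul]
      exact (QuotientGroup.eq_one_iff _).mpr h
    refine (QuotientGroup.eq_one_iff _).mp ?_
    show QuotientGroup.mk' E (d * (y ^ (2 ^ i * t))⁻¹) = 1
    rw [map_mul, map_inv, map_pow, ← h1, ← map_pow, pow_mul, ht, mul_inv_cancel]

/-- Modulo the layer, an element of `O(C(R))` centralizes a Sylow 2-subgroup of the layer. -/
theorem exists_sylow_centralizing (hO : Cfsg.pPrimeCore 2 H = ⊥) {R : Subgroup H}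
    (hR : IsPGroup 2 R) {d : H} (hd : d ∈ coreP 2 (centralizer (R : Set H))) :
    ∃ S : Subgroup H, S ≤ Cfsg.layer H ∧ IsPGroup 2 S ∧ ¬ 2 ∣ S.relIndex (Cfsg.layer H) ∧
      ∃ w : H, Odd (orderOf w) ∧ w ∈ centralizer (S : Set H) ∧ d * w⁻¹ ∈ Cfsg.layer H := by
  haveI : Fact (Nat.Prime 2) := ⟨Nat.prime_two⟩
  set E := Cfsg.layer H with hE
  set T := centralizer (R : Set H) with hT
  set D := coreP 2 T with hDdef
  set V := E ⊓ T with hV
  have hTV : T ≤ normalizer (V : Set H) := fun t ht => inf_normalizer_le_normalizer_inf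
    ⟨by rw [normalizer_eq_top]; trivial, le_normalizer ht⟩
  have hTD : T ≤ normalizer (D : Set H) := le_normalizer_coreP 2 T
  have hdT : d ∈ T := coreP_le 2 T hd
  have hdodd : Odd (orderOf d) := odd_orderOf_of_mem (coreP_coprime 2 T) hd
  set N := V ⊓ D with hN
  have hNc : (Nat.card N).Coprime 2 :=
    (coreP_coprime 2 T).coprime_dvd_left (card_dvd_of_le inf_le_right)
  have hTN : T ≤ normalizer (N : Set H) := fun t ht => inf_normalizer_le_normalizer_inf
    ⟨hTV ht, hTD ht⟩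
  obtain ⟨P₀⟩ : Nonempty (Sylow 2 V) := inferInstance
  set S₀ := (P₀ : Subgroup V).map V.subtype with hS₀
  have hS₀V : S₀ ≤ V := map_subtype_le _
  have hS₀max : ∀ c ∈ V, (∀ s ∈ S₀, s * c = c * s) → ∀ j : ℕ, c ^ 2 ^ j = 1 → c ∈ S₀ := by
    intro c hc hcomm j hj
    have hp : IsPGroup 2 ↥(S₀ ⊔ zpowers c) := IsPGroup.to_sup_of_normal_left' (P₀.isPGroup'.map _)
      (isPGroup_zpowers_of_pow hj) (zpowers_le.mpr (mem_normalizer_of_conj_le fun s hs => by
        rw [← hcomm s hs, mul_inv_cancel_right]; exact hs))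
    have hle : S₀ ⊔ zpowers c ≤ V := sup_le hS₀V (zpowers_le.mpr hc)
    have h := P₀.3 (hp.of_equiv (subgroupOfEquivOfLe hle).symm) (fun x hx =>
      mem_subgroupOf.mpr (mem_sup_left (mem_map_of_mem V.subtype hx)))
    refine ⟨⟨c, hc⟩, ?_, rfl⟩
    rw [SetLike.mem_coe, ← h]
    exact mem_subgroupOf.mpr (mem_sup_right (mem_zpowers c))
  set Good := fun S : Subgroup H => S ≤ E ∧ IsPGroup 2 S ∧ R ≤ normalizer (S : Set H) ∧ S₀ ≤ S ∧
    ∃ w : H, Odd (orderOf w) ∧ w ∈ T ∧ w ∈ centralizer (S : Set H) ∧ d * w⁻¹ ∈ E with hGood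
  have hstart : Good S₀ := by
    refine ⟨hS₀V.trans inf_le_left, P₀.isPGroup'.map _, fun r hr => mem_normalizer_of_conj_le
      fun s hs => ?_, le_rfl, ?_⟩
    · rw [(hS₀V hs).2 r hr, mul_inv_cancel_right]; exact hs
    · obtain ⟨n, hn, hnd⟩ := exists_mul_mem_centralizer (P₀.isPGroup'.map V.subtype) hNc
        ((hS₀V.trans inf_le_right).trans hTN) (w := d) fun s hs => ⟨by
          rw [commutatorElement_def]
          exact V.mul_mem (le_normalizer_iff.mp hTV d hdT s (hS₀V hs)) (V.inv_mem (hS₀V hs)), by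
          rw [commutatorElement_def, mul_assoc, mul_assoc]
          refine D.mul_mem hd ?_
          have := le_normalizer_iff.mp hTD s (hS₀V hs).2 d⁻¹ (inv_mem hd)
          simpa [mul_assoc] using this⟩
      have hnD : n⁻¹ * d ∈ D := mul_mem (inv_mem hn.2) hd
      refine ⟨n⁻¹ * d, odd_orderOf_of_mem (coreP_coprime 2 T) hnD, coreP_le 2 T hnD, hnd, ?_⟩
      rw [mul_inv_rev, inv_inv, mul_inv_cancel_left]
      exact hn.1.1
  obtain ⟨S, hS, hSmax⟩ := (Set.toFinite {S | Good S}).exists_maximal ⟨S₀, hstart⟩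
  obtain ⟨hSE, hSp, hRS, hS₀S, w, hwodd, hwT, hwS, hdw⟩ := hS
  refine ⟨S, hSE, hSp, ?_, w, hwodd, hwS, hdw⟩
  intro hdvd
  -- a larger member
  set G₂ := E ⊔ R with hG₂
  have hSR : IsPGroup 2 ↥(S ⊔ R) := IsPGroup.to_sup_of_normal_left' hSp hR hRS
  obtain ⟨P₂, hP₂⟩ := (hSR.of_equiv
    (subgroupOfEquivOfLe (sup_le_sup_right hSE R : S ⊔ R ≤ G₂)).symm).exists_le_sylow
  set P₂' := (P₂ : Subgroup G₂).map G₂.subtype with hP₂'
  set SE := P₂' ⊓ E with hSEdef
  have hSP : S ⊔ R ≤ P₂' := fun x hx =>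
    ⟨⟨x, sup_le_sup_right hSE R hx⟩, hP₂ (mem_subgroupOf.mpr hx), rfl⟩
  have hne : ¬ SE ≤ S := by
    intro hle
    obtain ⟨U⟩ : Nonempty (Sylow 2 E) := inferInstance
    obtain ⟨m, hm, hmU⟩ := CfsgLib.AlperinGroup.exists_conj_mem (p := 2) G₂ P₂'
      ((U : Subgroup E).map E.subtype) (P₂.isPGroup'.map _) (U.isPGroup'.map _) (map_subtype_le _)
      ((map_subtype_le _).trans le_sup_left)
      (by rw [relIndex, subgroupOf, comap_map_eq_self_of_injective G₂.subtype_injective]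
          exact Sylow.not_dvd_index P₂)
    have hcard : Nat.card U ≤ Nat.card S := by
      refine Nat.card_le_card_of_injective (fun u => ⟨m⁻¹ * ((u : E) : H) * m, hle
        ⟨hmU _ ⟨u, u.2, rfl⟩, by
          simpa using (inferInstance : E.Normal).conj_mem _ (u : E).2 m⁻¹⟩⟩) fun a b hab => ?_
      exact Subtype.ext (Subtype.ext (mul_left_cancel (mul_right_cancel (congrArg Subtype.val hab))))
    have h1 : Nat.card S * S.relIndex E = Nat.card E := by
      rw [← relIndex_bot_left, ← relIndex_bot_left]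
      exact relIndex_mul_relIndex _ _ _ bot_le hSE
    obtain ⟨i, hi⟩ := IsPGroup.iff_card.mp hSp
    have h2 : 2 ^ (i + 1) ∣ Nat.card E := by
      rw [← h1, hi, pow_succ]
      exact Nat.mul_dvd_mul_left _ hdvd
    have h3 : 2 ^ (i + 1) ∣ Nat.card U := by
      rw [U.card_eq_multiplicity]
      exact pow_dvd_pow 2 ((Nat.prime_two.pow_dvd_iff_le_factorization Nat.card_pos.ne').mp h2)
    have h4 := (Nat.le_of_dvd Nat.card_pos h3).trans hcard
    rw [hi] at h4
    exact absurd h4 (not_le.mpr (Nat.pow_lt_pow_right one_lt_two (Nat.lt_succ_self i)))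
  have hSEp : IsPGroup 2 SE := (P₂.isPGroup'.map _).to_le inf_le_left
  have hgrow := CfsgLib.Signalizer.inf_lt_normalizer hSEp
    (le_inf (le_sup_left.trans hSP) hSE) (fun h => hne h.ge)
  have hRW : R ≤ normalizer ((normalizer (S : Set H) ⊓ SE : Subgroup H) : Set H) := fun r hr =>
    inf_normalizer_le_normalizer_inf ⟨le_normalizer (hRS hr), inf_normalizer_le_normalizer_inf
      ⟨le_normalizer (hSP (mem_sup_right hr)), by rw [normalizer_eq_top]; trivial⟩⟩
  obtain ⟨s, hs, hsS, hsR⟩ := CfsgLib.Signalizer.exists_fixed_coset hR (hSEp.to_le inf_le_right)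
    hRW inf_le_left hRS hgrow
  set S₁ := S ⊔ zpowers s with hS₁
  have hS₁SE : S₁ ≤ SE := sup_le (le_inf (le_sup_left.trans hSP) hSE) (zpowers_le.mpr hs.2)
  have hS₁N : S₁ ≤ normalizer (S : Set H) := sup_le le_normalizer (zpowers_le.mpr hs.1)
  set FS : Subgroup H :=
    { carrier := {a | a ∈ normalizer (S : Set H) ∧ ∀ r ∈ R, a⁻¹ * (r * a * r⁻¹) ∈ S}
      one_mem' := ⟨one_mem _, fun r _ => by simp⟩
      mul_mem' := fun {a b} ha hb => ⟨mul_mem ha.1 hb.1, fun r hr => by
        rw [show (a * b)⁻¹ * (r * (a * b) * r⁻¹) =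
          b⁻¹ * (a⁻¹ * (r * a * r⁻¹)) * b * (b⁻¹ * (r * b * r⁻¹)) by group]
        exact mul_mem ((mem_normalizer_iff''.mp hb.1 _).mp (ha.2 r hr)) (hb.2 r hr)⟩
      inv_mem' := fun {a} ha => ⟨inv_mem ha.1, fun r hr => by
        rw [show a⁻¹⁻¹ * (r * a⁻¹ * r⁻¹) = a * (a⁻¹ * (r * a * r⁻¹))⁻¹ * a⁻¹ by group]
        exact (mem_normalizer_iff.mp ha.1 _).mp (inv_mem (ha.2 r hr))⟩ } with hFS
  have hS₁F : S₁ ≤ FS := sup_le (fun t ht => ⟨le_normalizer ht, fun r hr =>
    mul_mem (inv_mem ht) (le_normalizer_iff.mp hRS r hr t ht)⟩) (zpowers_le.mpr ⟨hs.1, hsR⟩)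
  set C := V ⊓ centralizer (S : Set H) with hCdef
  -- conjugation by `S₁` on the elements centralizing `R` and `S`
  have hconjT : ∀ a ∈ S₁, ∀ v : H, v ∈ T → v ∈ centralizer (S : Set H) →
      a * v * a⁻¹ ∈ T ∧ a * v * a⁻¹ ∈ centralizer (S : Set H) := by
    intro a ha v hvT hvS
    refine ⟨fun r hr => ?_, fun t ht => ?_⟩
    · set b := a⁻¹ * (r * a * r⁻¹) with hb
      have hbS : b ∈ S := (hS₁F ha).2 r hr
      have hrv : r * v * r⁻¹ = v := by rw [hvT r hr, mul_inv_cancel_right]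
      have hvb : b * v * b⁻¹ = v := by rw [hvS b hbS, mul_inv_cancel_right]
      rw [← mul_inv_eq_iff_eq_mul]
      calc r * (a * v * a⁻¹) * r⁻¹ = (r * a * r⁻¹) * (r * v * r⁻¹) * (r * a * r⁻¹)⁻¹ := by group
        _ = a * (b * v * b⁻¹) * a⁻¹ := by rw [hrv, hb]; group
        _ = a * v * a⁻¹ := by rw [hvb]
    · have h := hvS (a⁻¹ * t * a) ((mem_normalizer_iff''.mp (hS₁N ha) t).mp ht)
      calc t * (a * v * a⁻¹) = a * ((a⁻¹ * t * a) * v) * a⁻¹ := by group
        _ = a * (v * (a⁻¹ * t * a)) * a⁻¹ := by rw [h]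
        _ = _ := by group
  have hconjC : ∀ a ∈ S₁, ∀ c ∈ C, a * c * a⁻¹ ∈ C := fun a ha c hc =>
    ⟨⟨(inferInstance : E.Normal).conj_mem c hc.1.1 a, (hconjT a ha c hc.1.2 hc.2).1⟩,
      (hconjT a ha c hc.1.2 hc.2).2⟩
  have hcommC : ∀ a ∈ S₁, ∀ v : H, v ∈ T → v ∈ centralizer (S : Set H) → ⁅a, v⁆ ∈ C := by
    intro a ha v hvT hvS
    obtain ⟨h1, h2⟩ := hconjT a ha v hvT hvS
    refine ⟨⟨?_, ?_⟩, ?_⟩
    · rw [show ⁅a, v⁆ = a * (v * a⁻¹ * v⁻¹) by simp [commutatorElement_def, mul_assoc]]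
      exact E.mul_mem (hS₁SE ha).2
        ((inferInstance : E.Normal).conj_mem _ (E.inv_mem (hS₁SE ha).2) v)
    · rw [commutatorElement_def]
      exact T.mul_mem h1 (T.inv_mem hvT)
    · rw [commutatorElement_def]
      exact Subgroup.mul_mem _ h2 (Subgroup.inv_mem _ hvS)
  have h2C : ∀ c ∈ C, ∀ j : ℕ, c ^ 2 ^ j = 1 → c ∈ S := fun c hc j hj =>
    hS₀S (hS₀max c hc.1 (fun t ht => hc.2 t (hS₀S ht)) j hj)
  obtain ⟨k, hk, hk2, hkmul⟩ := exists_odd_powHom (C := C)
    fun c hc j hj e he => (he.2 c (h2C c hc j hj)).symm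
  -- the odd part of `C`
  set N₀ : Subgroup H :=
    { carrier := {c | c ∈ C ∧ c ^ k = 1}
      one_mem' := ⟨one_mem _, one_pow _⟩
      mul_mem' := fun {a b} ha hb => ⟨mul_mem ha.1 hb.1, by
        rw [hkmul a ha.1 b hb.1, ha.2, hb.2, one_mul]⟩
      inv_mem' := fun {a} ha => ⟨inv_mem ha.1, by rw [inv_pow, ha.2, inv_one]⟩ } with hN₀
  have hN₀c : (Nat.card N₀).Coprime 2 := by
    refine (Nat.prime_two.coprime_iff_not_dvd.mpr fun h2 => ?_).symm
    obtain ⟨⟨x, hx⟩, hxo⟩ := exists_prime_orderOf_dvd_card' (G := N₀) 2 h2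
    rw [orderOf_mk] at hxo
    have h3 : x = 1 := eq_one_of_twoElement_of_odd_pow (j := 1)
      (by rw [pow_one, ← hxo, pow_orderOf_eq_one]) hk hx.2
    rw [h3, orderOf_one] at hxo
    omega
  have hS₁p : IsPGroup 2 S₁ := hSEp.to_le hS₁SE
  have hcomm : ∀ a ∈ S₁, ⁅a, w⁆ ∈ N₀ := by
    intro a ha
    set z := ⁅a, w⁆ ^ k with hz
    have hwi : ∀ i : ℕ, w ^ i ∈ T ∧ w ^ i ∈ centralizer (S : Set H) := fun i =>
      ⟨pow_mem hwT i, pow_mem hwS i⟩
    obtain ⟨j, hj⟩ := hk2 _ (hcommC a ha w hwT hwS)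
    have hzS : z ∈ S := h2C z (pow_mem (hcommC a ha w hwT hwS) k) j hj
    have hpow : ∀ i : ℕ, ⁅a, w ^ i⁆ ^ k = z ^ i := by
      intro i
      induction i with
      | zero => simp [commutatorElement_def]
      | succ i ih =>
        obtain ⟨h1, h2⟩ := hconjT a ha w hwT hwS
        have hcm : w ^ i * ⁅a, w⁆ * (w ^ i)⁻¹ ∈ C := by
          have hc := hcommC a ha w hwT hwS
          exact ⟨⟨(inferInstance : E.Normal).conj_mem _ hc.1.1 _,
            T.mul_mem (T.mul_mem (hwi i).1 hc.1.2) (T.inv_mem (hwi i).1)⟩,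
            Subgroup.mul_mem _ (Subgroup.mul_mem _ (hwi i).2 hc.2) (Subgroup.inv_mem _ (hwi i).2)⟩
        rw [show ⁅a, w ^ (i + 1)⁆ = ⁅a, w ^ i⁆ * (w ^ i * ⁅a, w⁆ * (w ^ i)⁻¹) by
            rw [pow_succ]; simp [commutatorElement_def, mul_assoc],
          hkmul _ (hcommC a ha _ (hwi i).1 (hwi i).2) _ hcm, ih, conj_pow, ← hz, pow_succ z i,
          ← (hwi i).2 z hzS, mul_inv_cancel_right]
    refine ⟨hcommC a ha w hwT hwS, ?_⟩
    refine eq_one_of_twoElement_of_odd_pow hj hwodd ?_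
    rw [← hpow, pow_orderOf_eq_one]
    simp [commutatorElement_def]
  have hS₁N₀ : S₁ ≤ normalizer (N₀ : Set H) := fun a ha => mem_normalizer_of_conj_le fun c hc =>
    ⟨hconjC a ha c hc.1, by rw [conj_pow, hc.2, mul_one, mul_inv_cancel]⟩
  obtain ⟨n, hn, hny⟩ := exists_mul_mem_centralizer hS₁p hN₀c hS₁N₀ (w := w) fun t ht => by
    rw [← commutatorElement_inv]
    exact inv_mem (hcomm t ht)
  have hyT : n⁻¹ * w ∈ T := mul_mem (inv_mem hn.1.1.2) hwT
  have hdy : d * (n⁻¹ * w)⁻¹ ∈ E := by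
    rw [mul_inv_rev, inv_inv, ← mul_assoc]
    exact mul_mem hdw hn.1.1.1
  obtain ⟨e, he1, he2⟩ := exists_odd_rep E hdodd hdy
  have hGood₁ : Good S₁ := by
    refine ⟨hS₁SE.trans inf_le_right, hS₁p, fun r hr => mem_normalizer_of_conj_le fun t ht => ?_,
      hS₀S.trans le_sup_left, _, he1, pow_mem hyT e, pow_mem hny e, he2⟩
    have h1 := (hS₁F ht).2 r hr
    have h2 := S₁.mul_mem ht (mem_sup_left h1)
    rwa [mul_inv_cancel_left] at h2
  exact hsS (hSmax hGood₁ le_sup_left (mem_sup_right (mem_zpowers s)))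

/-- With `O(H) = 1` the odd elements of `C(S O₂(H))`, `S` a Sylow 2-subgroup of the layer,
form its core. -/
theorem mem_coreP_of_odd (hO : Cfsg.pPrimeCore 2 H = ⊥) {S : Subgroup H} (hSE : S ≤ Cfsg.layer H)
    (hS : IsPGroup 2 S) (hidx : ¬ 2 ∣ S.relIndex (Cfsg.layer H)) {c : H}
    (hc : c ∈ centralizer ((S ⊔ Cfsg.pCore 2 H : Subgroup H) : Set H)) (hodd : Odd (orderOf c)) :
    c ∈ coreP 2 (centralizer ((S ⊔ Cfsg.pCore 2 H : Subgroup H) : Set H)) := by
  haveI : Fact (Nat.Prime 2) := ⟨Nat.prime_two⟩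
  set Cx := centralizer ((S ⊔ Cfsg.pCore 2 H : Subgroup H) : Set H) with hCx
  have hCS : Cx ≤ centralizer (S : Set H) := centralizer_le (SetLike.coe_subset_coe.2 le_sup_left)
  have hCP : Cx ≤ centralizer (Cfsg.pCore 2 H : Set H) := centralizer_le (SetLike.coe_subset_coe.2 le_sup_right)
  have hEO : Cfsg.pPrimeCore 2 ↥(Cfsg.layer H) = ⊥ :=
    CfsgLib.Balance.pPrimeCore_subnormal_eq_bot hO (Normal.isSubnormal inferInstance)
  set Zc := (Cfsg.pCore 2 H).subgroupOf Cx with hZc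
  have hkill : ∀ q x : Cx, (∃ j : ℕ, (q * x * q⁻¹ * x⁻¹) ^ 2 ^ j = 1) → q * x * q⁻¹ * x⁻¹ ∈ Zc := by
    rintro ⟨q, hq⟩ ⟨x, hx⟩ ⟨j, hj⟩
    have hj' : (q * x * q⁻¹ * x⁻¹) ^ 2 ^ j = 1 := by simpa using congrArg Subtype.val hj
    have hyC : q * x * q⁻¹ * x⁻¹ ∈ Cx := mul_mem (mul_mem (mul_mem hq hx) (inv_mem hq)) (inv_mem hx)
    have hyE := commutator_mem_centralizer (Cfsg.layer H) hEO hSE hS hidx (hCS hx) (hCS hq) hj'
    have hyF : q * x * q⁻¹ * x⁻¹ ∈ centralizer (Cfsg.generalizedFittingSubgroup H : Set H) := by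
      have h1 : Cfsg.generalizedFittingSubgroup H ≤ centralizer ({q * x * q⁻¹ * x⁻¹} : Set H) := by
        refine sup_le (fun z hz => ?_) ((CfsgLib.Balance.fitting_le_pCore hO).trans fun z hz => ?_)
        · rw [mem_centralizer_singleton_iff]
          exact mem_centralizer_iff.1 hyE z hz
        · rw [mem_centralizer_singleton_iff]
          exact mem_centralizer_iff.1 (hCP hyC) z hz
      rw [mem_centralizer_iff]
      exact fun z hz => mem_centralizer_singleton_iff.1 (h1 hz)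
    exact CfsgLib.Balance.center_le_pCore hO (Normal.isSubnormal inferInstance)
      ⟨centralizer_genFitting_le hyF, hyF⟩
  have hZcen : ∀ z ∈ Zc, ∀ y : Cx, y * z = z * y := fun z hz y =>
    Subtype.ext ((hCP y.2) (z : H) hz).symm
  have hZp : IsPGroup 2 Zc := (CfsgLib.Components.isPGroup_pCore 2).comap_subtype
  haveI : Zc.Normal := (inferInstance : (Cfsg.pCore 2 H).Normal).subgroupOf Cx
  set f := QuotientGroup.mk' Zc with hf
  have hfs : Function.Surjective f := QuotientGroup.mk'_surjective Zc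
  obtain ⟨Q⟩ : Nonempty (Sylow 2 Cx) := inferInstance
  set P := Q.mapSurjective hfs with hP
  have hPeq : (P : Subgroup (↥Cx ⧸ Zc)) = (Q : Subgroup Cx).map f := Sylow.coe_mapSurjective _ _
  have hZQ : Zc ≤ (Q : Subgroup Cx) := by
    have h := Q.3 (Q.isPGroup'.to_sup_of_normal_right hZp) le_sup_left
    exact le_sup_right.trans h.le
  have hcen : normalizer ((P : Subgroup (↥Cx ⧸ Zc)) : Set (↥Cx ⧸ Zc)) ≤
      centralizer ((P : Subgroup (↥Cx ⧸ Zc)) : Set (↥Cx ⧸ Zc)) := by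
    intro nb hnb
    obtain ⟨n, rfl⟩ := hfs nb
    have hn : ∀ r ∈ (Q : Subgroup Cx), n * r * n⁻¹ ∈ (Q : Subgroup Cx) := by
      intro r hr
      obtain ⟨r', hr', he⟩ : f (n * r * n⁻¹) ∈ (Q : Subgroup Cx).map f := by
        rw [← hPeq, map_mul, map_mul, map_inv]
        exact (mem_normalizer_iff.mp hnb _).mp (hPeq ▸ mem_map_of_mem f hr)
      have := mul_mem hr' (hZQ (QuotientGroup.eq.mp he : r'⁻¹ * (n * r * n⁻¹) ∈ Zc))
      rwa [mul_inv_cancel_left] at this
    rw [mem_centralizer_iff]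
    intro a ha
    rw [hPeq] at ha
    obtain ⟨x, hx, rfl⟩ := ha
    obtain ⟨j, hj⟩ := twoElement_of_mem Q.isPGroup' (mul_mem (hn x hx) (inv_mem hx))
    have h : f (n * x * n⁻¹ * x⁻¹) = 1 := (QuotientGroup.eq_one_iff _).mpr (hkill n x ⟨j, hj⟩)
    rw [map_mul, map_mul, map_mul, map_inv, map_inv, mul_inv_eq_one, mul_inv_eq_iff_eq_mul] at h
    exact h.symm
  haveI : IsMulCommutative ↥(P : Subgroup (↥Cx ⧸ Zc)) :=
    ⟨⟨fun a b => Subtype.ext (hcen (le_normalizer b.2) a a.2)⟩⟩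
  set K := (MonoidHom.transferSylow P hcen).ker with hK
  have hKodd : ¬ 2 ∣ Nat.card K := by
    rw [← (MonoidHom.ker_transferSylow_isComplement' P hcen).index_eq_card]
    exact Sylow.not_dvd_index P
  set M := K.comap f with hM
  have hM2 : ∀ x ∈ M, ∀ j : ℕ, x ^ 2 ^ j = 1 → x ∈ Zc := by
    intro x hx j hj
    refine (QuotientGroup.eq_one_iff x).mp (orderOf_eq_one_iff.mp (Nat.eq_one_of_dvd_coprimes
      ((Nat.prime_two.coprime_iff_not_dvd.mpr hKodd).pow_left j)
      (orderOf_dvd_of_pow_eq_one (x := f x) (by rw [← map_pow, hj, map_one]))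
      (Subgroup.orderOf_dvd_natCard K hx)))
  obtain ⟨k, hk, hk2, hkmul⟩ := exists_odd_powHom (C := M)
    fun z hz j hj y hy => hZcen z (hM2 z hz j hj) y
  set N : Subgroup Cx :=
    { carrier := {x | x ∈ M ∧ x ^ k = 1}
      one_mem' := ⟨one_mem _, one_pow _⟩
      mul_mem' := fun {a b} ha hb => ⟨mul_mem ha.1 hb.1, by
        rw [hkmul a ha.1 b hb.1, ha.2, hb.2, one_mul]⟩
      inv_mem' := fun {a} ha => ⟨inv_mem ha.1, by rw [inv_pow, ha.2, inv_one]⟩ } with hNdef
  have hNn : N.Normal := ⟨fun x hx g =>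
    ⟨(inferInstance : M.Normal).conj_mem x hx.1 g, by rw [conj_pow, hx.2, mul_one, mul_inv_cancel]⟩⟩
  have hNc : (Nat.card N).Coprime 2 := by
    refine (Nat.prime_two.coprime_iff_not_dvd.mpr fun h2 => ?_).symm
    obtain ⟨⟨x, hx⟩, hxo⟩ := exists_prime_orderOf_dvd_card' (G := N) 2 h2
    rw [orderOf_mk] at hxo
    have h3 : x = 1 := eq_one_of_twoElement_of_odd_pow (j := 1)
      (by rw [pow_one, ← hxo, pow_orderOf_eq_one]) hk hx.2
    rw [h3, orderOf_one] at hxo
    omega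
  set c' : Cx := ⟨c, hc⟩ with hc'
  have hoc : orderOf c' = orderOf c := orderOf_mk c hc
  have hcM : c' ∈ M := by
    show MonoidHom.transferSylow P hcen (f c') = 1
    obtain ⟨j, hj⟩ := P.isPGroup' (MonoidHom.transferSylow P hcen (f c'))
    refine orderOf_eq_one_iff.mp (Nat.eq_one_of_dvd_coprimes
      ((Nat.coprime_two_left.mpr (hoc ▸ hodd : Odd (orderOf c'))).pow_left j)
      (orderOf_dvd_of_pow_eq_one hj) ((orderOf_map_dvd _ _).trans (orderOf_map_dvd f c')))
  refine ⟨c', le_pPrimeCore_of_normal hNn hNc ⟨hcM, ?_⟩, rfl⟩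
  obtain ⟨j, hj⟩ := hk2 c' hcM
  refine eq_one_of_twoElement_of_odd_pow hj (hoc ▸ hodd : Odd (orderOf c')) ?_
  rw [← pow_mul, mul_comm, pow_mul, pow_orderOf_eq_one, one_pow]

/-- Core balance in a group with trivial core. -/
theorem exists_mul_mem_coreP (hO : Cfsg.pPrimeCore 2 H = ⊥) {R : Subgroup H}
    (hR : IsPGroup 2 R) {d : H} (hd : d ∈ coreP 2 (centralizer (R : Set H))) :
    ∃ S : Subgroup H, S ≤ Cfsg.layer H ∧ IsPGroup 2 S ∧ ¬ 2 ∣ S.relIndex (Cfsg.layer H) ∧
      ∃ w ∈ coreP 2 (centralizer ((S ⊔ Cfsg.pCore 2 H : Subgroup H) : Set H)),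
        d * w⁻¹ ∈ Cfsg.layer H := by
  haveI : Fact (Nat.Prime 2) := ⟨Nat.prime_two⟩
  obtain ⟨S, hSE, hS, hidx, w, hodd, hwS, hdw⟩ := exists_sylow_centralizing hO hR hd
  refine ⟨S, hSE, hS, hidx, w, mem_coreP_of_odd hO hSE hS hidx ?_ hodd, hdw⟩
  have hwP : w ∈ centralizer (Cfsg.pCore 2 H : Set H) := by
    rw [show w = (d * w⁻¹)⁻¹ * d by group]
    exact mul_mem (inv_mem (layer_le_centralizer_pCore 2 hdw))
      (CfsgLib.Balance.coreP_centralizer_le_centralizer_pCore hR hd)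
  rw [centralizer_sup_eq]
  exact ⟨hwS, hwP⟩

/-- Core balance for the prime 2. -/
theorem oddCore_centralizer_le {X : Type u} [Group X] [Finite X] {R : Subgroup X}
    (hR : IsPGroup 2 R) :
    (Cfsg.oddCore ↥(centralizer (R : Set X))).map (centralizer (R : Set X)).subtype ≤
      Cfsg.extendedTwoLayer X := by
  haveI : Fact (Nat.Prime 2) := ⟨Nat.prime_two⟩
  set f := QuotientGroup.mk' (Cfsg.pPrimeCore 2 X) with hf
  have hfs : Function.Surjective f := QuotientGroup.mk'_surjective _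
  have hker : (Nat.card f.ker).Coprime 2 := by
    rw [QuotientGroup.ker_mk']; exact coprime_card_pPrimeCore 2
  intro x hx
  have hx' : f x ∈ coreP 2 (centralizer ((R.map f : Subgroup _) : Set _)) := by
    rw [CfsgLib.PLoc.centralizer_map_eq hfs hker hR]
    exact le_coreP (map_mono (coreP_le 2 _))
      ((map_mono (le_normalizer_coreP 2 _)).trans (le_normalizer_map f))
      ((coreP_coprime 2 _).coprime_dvd_left (card_map_dvd _ _))
      (mem_map_of_mem f (show x ∈ coreP 2 (centralizer (R : Set X)) from hx))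
  obtain ⟨S, hSE, hS, hidx, w, hw, hxw⟩ :=
    exists_mul_mem_coreP pPrimeCore_quotient_self (hR.map f) hx'
  set E' := Cfsg.layer (X ⧸ Cfsg.pPrimeCore 2 X) with hE'
  set Q' := Cfsg.pCore 2 (X ⧸ Cfsg.pPrimeCore 2 X) with hQ'
  set A := S ⊔ Q' with hA
  have hAp : IsPGroup 2 A := hS.to_sup_of_normal_right (CfsgLib.Components.isPGroup_pCore 2)
  have hbase : (ExtTwoLayer.base X).map f = E' ⊔ Q' := by
    rw [ExtTwoLayer.base, Subgroup.map_sup, pLayer_map_mk, Cfsg.pPrimePCore,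
      map_comap_eq_self_of_surjective hfs]
  have hkb : f.ker ≤ ExtTwoLayer.base X := fun z hz => mem_sup_right (by
    show f z ∈ Q'
    rw [show f z = 1 from hz]
    exact one_mem _)
  have hAb : A.comap f ≤ ExtTwoLayer.base X := by
    refine (comap_mono (hbase ▸ sup_le_sup_right hSE Q' : A ≤ (ExtTwoLayer.base X).map f)).trans ?_
    rw [comap_map_eq, sup_eq_left.mpr hkb]
  have hidx' : ¬ 2 ∣ (A.comap f).relIndex (ExtTwoLayer.base X) := by
    rw [relIndex_comap, hbase]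
    have hsup : E' ⊔ Q' = A ⊔ E' := le_antisymm
      (sup_le le_sup_right (le_trans le_sup_right le_sup_left))
      (sup_le (sup_le_sup_right hSE Q') le_sup_left)
    have h1 := relIndex_mul_relIndex (A ⊓ E') A (A ⊔ E') inf_le_left le_sup_left
    have h2 := relIndex_mul_relIndex (A ⊓ E') E' (A ⊔ E') inf_le_right le_sup_right
    rw [inf_relIndex_left] at h1
    rw [inf_relIndex_right, relIndex_sup_right] at h2
    rw [hsup]
    have h3 : A.relIndex (A ⊔ E') = A.relIndex E' := by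
      refine Nat.eq_of_mul_eq_mul_left (Nat.pos_of_ne_zero (show E'.relIndex A ≠ 0 from index_ne_zero_of_finite)) ?_
      rw [h1, ← h2, mul_comm]
    rw [h3]
    exact fun h => hidx (h.trans (relIndex_dvd_of_le_left _ le_sup_left))
  -- a Sylow subgroup of `L O_{2',2}` over `A`
  obtain ⟨T₀⟩ : Nonempty (Sylow 2 ↥(A.comap f)) := inferInstance
  set U := (T₀ : Subgroup ↥(A.comap f)).map (A.comap f).subtype with hU
  have hUA : U ≤ A.comap f := map_subtype_le _
  have hUidx : ¬ 2 ∣ U.relIndex (A.comap f) := by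
    rw [relIndex, subgroupOf, comap_map_eq_self_of_injective (A.comap f).subtype_injective]
    exact T₀.not_dvd_index
  have hUf : U.map f = A := by
    refine le_antisymm (map_le_iff_le_comap.mpr hUA) ?_
    rw [← relIndex_eq_one]
    obtain ⟨i, hi⟩ := IsPGroup.iff_card.mp hAp
    have h1 : (U.map f).relIndex A ∣ 2 ^ i := hi ▸ relIndex_dvd_card _ _
    have h2 : (U.map f).relIndex A ∣ U.relIndex (A.comap f) := by
      have h4 := relIndex_comap (U.map f) f (A.comap f)
      rw [map_comap_eq_self_of_surjective hfs] at h4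
      rw [← h4]
      exact relIndex_dvd_of_le_left _ (le_comap_map f U)
    obtain ⟨l, -, hl⟩ := (Nat.dvd_prime_pow Nat.prime_two).mp h1
    rcases Nat.eq_zero_or_pos l with rfl | hpos
    · simpa using hl
    · exact absurd ((dvd_pow_self 2 hpos.ne').trans (hl ▸ h2)) hUidx
  have hUb : U ≤ ExtTwoLayer.base X := hUA.trans hAb
  have hTidx : ¬ 2 ∣ (U.subgroupOf (ExtTwoLayer.base X)).index := by
    show ¬ 2 ∣ U.relIndex (ExtTwoLayer.base X)
    rw [← relIndex_mul_relIndex U (A.comap f) _ hUA hAb]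
    exact fun h => (Nat.prime_two.dvd_mul.mp h).elim hUidx hidx'
  have hUp : IsPGroup 2 U := T₀.isPGroup'.map _
  obtain ⟨T, hT⟩ : ∃ T : Sylow 2 ↥(ExtTwoLayer.base X),
      (T : Subgroup ↥(ExtTwoLayer.base X)).map (ExtTwoLayer.base X).subtype = U :=
    ⟨(hUp.of_equiv (subgroupOfEquivOfLe hUb).symm).toSylow hTidx,
      map_subgroupOf_eq_of_le hUb⟩
  -- lift `w`
  have hwC : w ∈ (centralizer (U : Set X)).map f := by
    rw [← CfsgLib.PLoc.centralizer_map_eq hfs hker hUp, hUf]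
    exact coreP_le 2 _ hw
  obtain ⟨c, hc, rfl⟩ := hwC
  have hcc : c ∈ ExtTwoLayer.coreCent U := by
    set W := centralizer (A : Set (X ⧸ Cfsg.pPrimeCore 2 X))
    refine le_coreP (p := 2) (K := centralizer (U : Set X))
      (N := (coreP 2 W).comap f ⊓ centralizer (U : Set X)) inf_le_right ?_ ?_ ⟨hw, hc⟩
    · intro g hg
      refine inf_normalizer_le_normalizer_inf ⟨le_normalizer_comap f (mem_comap.mpr ?_), le_normalizer hg⟩
      refine le_normalizer_coreP 2 W ?_
      rw [show W = (centralizer (U : Set X)).map f by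
        rw [← CfsgLib.PLoc.centralizer_map_eq hfs hker hUp, hUf]]
      exact mem_map_of_mem f hg
    · refine Nat.Coprime.coprime_dvd_left (card_dvd_of_le inf_le_left) ?_
      rw [CfsgLib.PLoc.card_comap_of_surjective hfs]
      exact Nat.Coprime.mul_left hker (coreP_coprime 2 W)
  rw [ExtTwoLayer.extendedTwoLayer_eq T, hT]
  rw [show x = x * c⁻¹ * c by group]
  refine mul_mem (mem_sup_left ?_) (mem_sup_right hcc)
  have h : x * c⁻¹ ∈ (Cfsg.layer (X ⧸ Cfsg.pPrimeCore 2 X)).comap f := by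
    rw [mem_comap, map_mul, map_inv]; exact hxw
  rw [pLayer_comap_mk] at h
  exact h

/-- The core of a subgroup is carried to the core of its image by an injective homomorphism. -/
theorem map_coreP_of_injective {Z : Type u} [Group Z] [Finite Z] (ι : Z →* H)
    (hι : Function.Injective ι) (A : Subgroup Z) :
    (coreP 2 A).map ι = coreP 2 (A.map ι) := by
  haveI : Fact (Nat.Prime 2) := ⟨Nat.prime_two⟩
  have he := CfsgLib.Solvable.map_pPrimeCore_mulEquiv (p := 2) (A.equivMapOfInjective ι hι)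
  rw [coreP, coreP, ← he, Subgroup.map_map, Subgroup.map_map]
  rfl

/-- `L*` of a normal subgroup of the centralizer of a 2-subgroup lies in `L*` of the group. -/
theorem map_extendedTwoLayer_le {Z : Type u} [Group Z] [Finite Z] (ι : Z →* H)
    (hι : Function.Injective ι) {R : Subgroup H} (hR : IsPGroup 2 R)
    (hle : ι.range ≤ centralizer (R : Set H))
    (hn : centralizer (R : Set H) ≤ normalizer (ι.range : Set H)) :
    (Cfsg.extendedTwoLayer Z).map ι ≤ Cfsg.extendedTwoLayer H := by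
  haveI : Fact (Nat.Prime 2) := ⟨Nat.prime_two⟩
  set C := centralizer (R : Set H) with hC
  have key : ∀ S : Subgroup Z, IsPGroup 2 S →
      (coreP 2 (centralizer (S : Set Z))).map ι ≤ Cfsg.extendedTwoLayer H := by
    intro S hS
    set S' := S.map ι with hS'
    have hS'C : S' ≤ C := (map_le_range ι S).trans hle
    have hRS : IsPGroup 2 ↥(R ⊔ S') := IsPGroup.to_sup_of_normal_left' hR (hS.map ι)
      (hS'C.trans (centralizer_le_normalizer _))
    have hA : (centralizer (S : Set Z)).map ι = ι.range ⊓ centralizer ((R ⊔ S' : Subgroup H) : Set H) := by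
      rw [centralizer_sup_eq]
      refine le_antisymm (le_inf (map_le_range ι _)
        (le_inf ((map_le_range ι _).trans hle) ?_)) ?_
      · rintro _ ⟨z, hz, rfl⟩ _ ⟨s, hs, rfl⟩
        rw [← map_mul, ← map_mul, hz s hs]
      · rintro _ ⟨⟨z, rfl⟩, -, h2⟩
        refine ⟨z, fun s hs => hι ?_, rfl⟩
        rw [map_mul, map_mul]
        exact h2 _ ⟨s, hs, rfl⟩
    rw [map_coreP_of_injective ι hι]
    refine le_trans ?_ (oddCore_centralizer_le hRS)
    set C' := centralizer ((R ⊔ S' : Subgroup H) : Set H)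
    have hC'n : C' ≤ normalizer (((centralizer (S : Set Z)).map ι : Subgroup H) : Set H) := by
      rw [hA]
      exact fun g hg => inf_normalizer_le_normalizer_inf
        ⟨hn (centralizer_le (SetLike.coe_subset_coe.2 le_sup_left) hg), le_normalizer hg⟩
    exact le_coreP (K := C') ((coreP_le 2 _).trans (hA ▸ inf_le_right))
      (hC'n.trans (normalizer_le_normalizer_coreP 2 _)) (coreP_coprime 2 _)
  obtain ⟨T⟩ : Nonempty (Sylow 2 ↥(ExtTwoLayer.base Z)) := inferInstance
  rw [ExtTwoLayer.extendedTwoLayer_eq T, ExtTwoLayer.bottom, Subgroup.map_sup, Subgroup.map_sup]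
  refine sup_le (sup_le ?_ ?_) (key _ (T.isPGroup'.map _))
  · refine le_trans ?_ ((pLayer_centralizer_two_le hR).trans (le_sup_left.trans le_sup_left))
    rw [Cfsg.pLayer, map_le_iff_le_comap]
    refine sSup_le fun K hK => ?_
    rw [← map_le_iff_le_comap]
    set j : Z →* C := ι.codRestrict C (fun z => hle ⟨z, rfl⟩) with hj
    have hji : Function.Injective j := fun a b h => hι (congrArg Subtype.val h)
    have hrange : j.range = ι.range.subgroupOf C := by
      ext z
      exact ⟨fun ⟨a, ha⟩ => ⟨a, congrArg Subtype.val ha⟩, fun ⟨a, ha⟩ => ⟨a, Subtype.ext ha⟩⟩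
    haveI : j.range.Normal := by
      rw [hrange]; exact normal_subgroupOf_of_le_normalizer hn
    have hsub : (K.map j).IsSubnormal := by
      refine Subgroup.IsSubnormal.trans (map_le_range j K) ?_ (Normal.isSubnormal inferInstance)
      have h1 : (K.map j).subgroupOf j.range = K.map j.rangeRestrict := by
        apply map_injective j.range.subtype_injective
        rw [map_subgroupOf_eq_of_le (map_le_range j K), Subgroup.map_map]
        rfl
      rw [h1]
      exact hK.1.map j.rangeRestrict_surjective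
    have hcomp : Cfsg.IsPComponent 2 (K.map j) := by
      refine isPComponent_of_quotient_quasisimple hsub ?_ ?_
      · set e := K.equivMapOfInjective j hji
        exact (quasisimple_congr (QuotientGroup.congr _ _ e
          (CfsgLib.Solvable.map_pPrimeCore_mulEquiv (p := 2) e))).1
          (pComponent_quotient_quasisimple hK)
      · rw [← map_pElements_of_injective j hji, pElements_pComponent hK]
    intro z hz
    obtain ⟨a, ha, rfl⟩ := hz
    exact ⟨j a, pComponent_le_pLayer hcomp ⟨a, ha, rfl⟩, rfl⟩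
  · refine le_trans ?_ (key ⊥ IsPGroup.of_bot)
    refine map_mono ?_
    haveI := CfsgLib.Solvable.pPrimeCore_normal 2 Z
    exact le_coreP (fun z _ s hs => by rw [mem_bot.mp hs]; simp)
      (by rw [normalizer_eq_top]; exact le_top) (CfsgLib.Solvable.pPrimeCore_card_coprime 2 Z)

end CfsgLib.CoreBalance
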