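import Cfsg.Agent.Lib.Components.LBalanceTwo
import Cfsg.Agent.S1304
import Cfsg.Agent.Lib.Components.GenFittingSub

/-!
Components of the centralizer of an involution inside a group whose 2-layer centralizes the core.
-/

set_option autoImplicit false
set_option linter.style.haveILetI false
set_option linter.unusedVariables false
set_option linter.unusedSectionVars false

namespace CfsgLib.InvolComponent

open Subgroup CfsgLib.Components
open scoped commutatorElement

universe u

variable {X : Type u} [Group X] [Finite X]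

/-- If the 2-layer centralizes the core then every 2-component is a component. -/
theorem pComponent_isComponent (hX : ⁅Cfsg.pLayer 2 X, Cfsg.pPrimeCore 2 X⁆ = ⊥) {D : Subgroup X}
    (hD : Cfsg.IsPComponent 2 D) : Cfsg.IsComponent D := by
  haveI : Fact (Nat.Prime 2) := ⟨Nat.prime_two⟩
  set f := QuotientGroup.mk' (Cfsg.pPrimeCore 2 X)
  have hperf := pComponent_commutator_self hD
  have hne : D ≠ ⊥ := fun e => pComponent_not_le_core hD (e ▸ bot_le)
  refine ⟨hD.1, isQuasisimple_of (isPerfect_iff.mpr hperf) ((nontrivial_iff_ne_bot D).mpr hne)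
    fun N hN => ?_⟩
  set N' := N.map D.subtype with hN'
  have hN'D : N' ≤ D := map_subtype_le N
  have hN's : N'.IsSubnormal := (Normal.isSubnormal hN).trans' hD.1
  rcases component_le_or_commutator hD.2.1
    (isSubnormal_map_of_surjective' f (QuotientGroup.mk'_surjective _) hN's) with h | h
  · left
    have he := hD.2.2 N' hN's hN'D (le_antisymm (map_mono hN'D) h)
    refine map_injective D.subtype_injective ?_
    rw [← hN', he, ← MonoidHom.range_eq_map, range_subtype]
  · right
    rw [← map_commutator, Subgroup.map_eq_bot_iff, QuotientGroup.ker_mk'] at h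
    have h2 : ⁅⁅D, N'⁆, D⁆ = ⊥ := le_bot_iff.mp (by
      rw [← hX, commutator_comm]
      exact commutator_mono (pComponent_le_pLayer hD) h)
    have h3 := commutator_eq_bot_of_perfect hperf h2
    intro x hx
    rw [mem_center_iff]
    intro y
    exact Subtype.ext (mem_centralizer_iff.mp
      (le_centralizer_of_commutator_eq_bot (by rwa [commutator_comm]) (show (x : X) ∈ N' from ⟨x, hx, rfl⟩))
      (y : X) y.2)
where
  isSubnormal_map_of_surjective' {Y : Type u} [Group Y] (f : X →* Y) (hf : Function.Surjective f)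
      {H : Subgroup X} (hH : H.IsSubnormal) : (H.map f).IsSubnormal := by
    induction hH with
    | top => rw [map_top_of_surjective f hf]; exact IsSubnormal.top
    | step H K hHK hK hn ih =>
      refine isSubnormal_of_le_normalizer (map_mono hHK) ?_ ih
      exact (map_mono ((normal_subgroupOf_iff_le_normalizer hHK).mp hn)).trans (le_normalizer_map f)

/-- An element commuting with a perfect subgroup modulo its centralizer centralizes it. -/
theorem commute_of_mod_centralizer {D : Subgroup X} (hperf : ⁅D, D⁆ = D) {g : X}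
    (hg : ∀ d ∈ D, g * d * g⁻¹ ∈ D) (h : ∀ d ∈ D, g * d * g⁻¹ * d⁻¹ ∈ centralizer (D : Set X)) :
    g ∈ centralizer (D : Set X) := by
  have hperf' : _root_.commutator ↥D = ⊤ := by
    apply map_injective D.subtype_injective
    rw [_root_.commutator_def, map_commutator, ← MonoidHom.range_eq_map, range_subtype, hperf]
  have hgn : g ∈ normalizer (D : Set X) := mem_normalizer_fintype hg
  let α : ↥D ≃* ↥D := ((MulAut.conj g).subgroupMap D).trans
    (MulEquiv.subgroupCongr (map_conj_eq_of_mem_normalizer hgn))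
  have hα : ∀ d : ↥D, ((α d : ↥D) : X) = g * d * g⁻¹ := fun d => rfl
  have key := Cfsg.Agent.S1304.result hperf' α fun d => by
    rw [mem_center_iff]
    intro y
    refine Subtype.ext ?_
    show (y : X) * ((α d : X) * (d : X)⁻¹) = (α d : X) * (d : X)⁻¹ * y
    rw [hα]
    exact mem_centralizer_iff.mp (h d d.2) y y.2
  rw [mem_centralizer_iff]
  intro d hd
  have h1 : g * d * g⁻¹ = d := (hα ⟨d, hd⟩).symm.trans (congrArg Subtype.val (key ⟨d, hd⟩))
  exact (mul_inv_eq_iff_eq_mul.mp h1).symm

theorem two_le_of_component_even (hX : ⁅Cfsg.pLayer 2 X, Cfsg.pPrimeCore 2 X⁆ = ⊥) {a : X}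
    (ha : orderOf a = 2) {K : Subgroup X} (hKa : K ≤ centralizer ({a} : Set X))
    (hK : Cfsg.IsComponent (K.subgroupOf (centralizer ({a} : Set X)))) (heven : 2 ∣ Nat.card K) :
    K ≤ sSup {D : Subgroup X | Cfsg.IsPComponent 2 D} := by
  haveI : Fact (Nat.Prime 2) := ⟨Nat.prime_two⟩
  have hpc : Cfsg.IsPComponent 2 (K.subgroupOf (centralizer ({a} : Set X))) := by
    refine component_isPComponent hK fun hle => ?_
    have h1 := (Nat.card_congr (subgroupOfEquivOfLe hKa).toEquiv) ▸ card_dvd_of_le hle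
    exact (Nat.Prime.coprime_iff_not_dvd Nat.prime_two).mp
      (coprime_card_pPrimeCore (G := ↥(centralizer ({a} : Set X))) 2).symm (heven.trans h1)
  have hR : IsPGroup 2 ↥(zpowers a) := IsPGroup.of_card (n := 1) (by rw [Nat.card_zpowers, ha, pow_one])
  have h := pLayer_centralizer_two_le hR
  rw [CfsgLib.Balance.centralizer_zpowers] at h
  refine le_trans ?_ h
  rw [← map_subgroupOf_eq_of_le hKa]
  exact map_mono (pComponent_le_pLayer hpc)

/-- A component of maximal size of the centralizer of an involution is a component. -/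
theorem isComponent_of_max (hX : ⁅Cfsg.pLayer 2 X, Cfsg.pPrimeCore 2 X⁆ = ⊥) {a : X}
    (ha : orderOf a = 2) {K : Subgroup X} (hKa : K ≤ centralizer ({a} : Set X))
    (hK : Cfsg.IsComponent (K.subgroupOf (centralizer ({a} : Set X))))
    {B : Subgroup X} (haB : a ∈ B) (hB : Cfsg.IsElementaryAbelian 2 B)
    (hBK : B ≤ centralizer (K : Set X))
    {V : Subgroup X} (hVK : V ≤ K) (hV : Cfsg.IsElementaryAbelian 2 V) (hV4 : 4 ≤ Nat.card V)
    (hsize : ∀ D : Subgroup X, Cfsg.IsComponent D → Nat.card D ≤ Nat.card K)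
    (hrank : ∀ D : Subgroup X, Cfsg.IsComponent D → Nat.card D = Nat.card K →
      ∀ B' : Subgroup X, B' ≤ centralizer (D : Set X) → Cfsg.IsElementaryAbelian 2 B' →
        Nat.card B' ≤ Nat.card B) :
    Cfsg.IsComponent K := by
  haveI : Fact (Nat.Prime 2) := ⟨Nat.prime_two⟩
  have haa : a * a = 1 := by rw [← sq]; exact orderOf_dvd_iff_pow_eq_one.mp ha.dvd
  have hainv : a⁻¹ = a := inv_eq_of_mul_eq_one_right haa
  have hconj2 : ∀ x : X, a * (a * x * a) * a = x := fun x => by
    calc a * (a * x * a) * a = (a * a) * x * (a * a) := by group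
      _ = x := by rw [haa, one_mul, mul_one]
  have hKq : Cfsg.IsQuasisimple ↥K := (quasisimple_congr (subgroupOfEquivOfLe hKa)).mp hK.2
  have hKperf : ⁅K, K⁆ = K := by
    have h1 := congrArg (Subgroup.map (centralizer ({a} : Set X)).subtype) (component_commutator_self hK)
    rwa [map_commutator, map_subgroupOf_eq_of_le hKa] at h1
  have hKnab : ¬ K ≤ centralizer (K : Set X) := fun h =>
    quasisimple_not_isMulCommutative hKq ⟨⟨fun x y => Subtype.ext
      (mem_centralizer_iff.mp (h y.2) (x : X) x.2)⟩⟩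
  have h2K : 2 ∣ Nat.card K := by
    obtain ⟨j, hj⟩ := (CfsgLib.Signalizer.elementary_isPGroup hV).exists_card_eq
    have h2 : 2 ∣ Nat.card V := by
      rw [hj]
      refine dvd_pow_self 2 ?_
      rintro rfl
      rw [hj] at hV4
      omega
    exact h2.trans (card_dvd_of_le hVK)
  set Ω := {D : Subgroup X | Cfsg.IsPComponent 2 D} with hΩ
  have hKL : K ≤ sSup Ω := two_le_of_component_even hX ha hKa hK h2K
  -- some component is not centralized by `K`
  obtain ⟨D, hDΩ, hKD⟩ : ∃ D ∈ Ω, ¬ K ≤ centralizer (D : Set X) := by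
    by_contra hall
    push Not at hall
    have hle : sSup Ω ≤ centralizer (K : Set X) := sSup_le fun D hD => le_centralizer_iff.mp (hall D hD)
    exact hKnab (hKL.trans hle)
  have hD : Cfsg.IsComponent D := pComponent_isComponent hX hDΩ
  set Da := D.map (MulAut.conj a).toMonoidHom with hDa
  have hDaC : Cfsg.IsComponent Da := component_map_conj hD a
  have haDa : ∀ x ∈ D, a * x * a ∈ Da := fun x hx => ⟨x, hx, by
    show a * x * a⁻¹ = _
    rw [hainv]⟩
  have haD : ∀ x ∈ Da, a * x * a ∈ D := by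
    rintro _ ⟨x, hx, rfl⟩
    show a * (a * x * a⁻¹) * a ∈ D
    rwa [hainv, hconj2]
  set W := D ⊔ Da with hW
  set CW := centralizer (W : Set X) with hCW
  have hcases : ∀ D' : Subgroup X, Cfsg.IsComponent D' → D' ≤ W ∨ D' ≤ CW := by
    intro D' hD'
    by_cases e1 : D' = D
    · exact Or.inl (e1 ▸ le_sup_left)
    by_cases e2 : D' = Da
    · exact Or.inl (e2 ▸ le_sup_right)
    refine Or.inr (le_centralizer_iff.mp (sup_le ?_ ?_))
    · exact le_centralizer_of_commutator_eq_bot (component_commutator_of_ne hD hD' (Ne.symm e1))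
    · exact le_centralizer_of_commutator_eq_bot (component_commutator_of_ne hDaC hD' (Ne.symm e2))
  have hCWN : CW ≤ normalizer (W : Set X) := centralizer_le_normalizer _
  have hLdec : sSup Ω ≤ W ⊔ CW := sSup_le fun D' hD' =>
    (hcases D' (pComponent_isComponent hX hD')).elim (fun h => h.trans le_sup_left)
      (fun h => h.trans le_sup_right)
  have hLN : sSup Ω ≤ normalizer (W : Set X) := hLdec.trans (sup_le le_normalizer hCWN)
  have hWL : W ≤ sSup Ω := by
    refine sup_le (le_sSup hDΩ) ?_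
    haveI : (Cfsg.pLayer 2 X).Normal := inferInstance
    rintro _ ⟨x, hx, rfl⟩
    exact (inferInstance : (Cfsg.pLayer 2 X).Normal).conj_mem x (le_sSup hDΩ hx) a
  have haW : ∀ x ∈ W, a * x * a ∈ W := by
    intro x hx
    have hle : W ≤ W.comap (MulAut.conj a).toMonoidHom := sup_le
      (fun d hd => by
        show a * d * a⁻¹ ∈ W
        rw [hainv]; exact mem_sup_right (haDa d hd))
      (fun d hd => by
        show a * d * a⁻¹ ∈ W
        rw [hainv]; exact mem_sup_left (haD d hd))
    have h := hle hx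
    rwa [mem_comap, MulEquiv.coe_toMonoidHom, MulAut.conj_apply, hainv] at h
  have hfixed : ∀ x : X, x ∈ centralizer ({a} : Set X) ↔ a * x * a = x := by
    intro x
    rw [mem_centralizer_singleton_iff]
    constructor
    · intro h; rw [← h, mul_assoc, haa, mul_one]
    · intro h; calc x * a = (a * x * a) * a := by rw [h]
        _ = a * x * (a * a) := by group
        _ = a * x := by rw [haa, mul_one]
  -- `W ∩ C(a)` is subnormal in `C(a)`
  set C := centralizer ({a} : Set X) with hC
  set W0 := W ⊓ C with hW0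
  have hW0sn : (W0.subgroupOf C).IsSubnormal := by
    haveI : (Cfsg.pLayer 2 X).Normal := inferInstance
    haveI hM : ((sSup Ω).subgroupOf C).Normal := (inferInstance : ((Cfsg.pLayer 2 X).subgroupOf C).Normal)
    refine isSubnormal_of_le_normalizer (H := W0.subgroupOf C) (K := (sSup Ω).subgroupOf C)
      (fun x hx => hWL hx.1) (fun m hm => ?_) (Normal.isSubnormal hM)
    refine mem_normalizer_fintype fun x hx => ⟨?_, (m * x * m⁻¹).2⟩
    exact (mem_normalizer_iff.mp (hLN hm) _).mp hx.1
  have hKW : K ≤ W0 := by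
    rcases component_le_or_commutator hK hW0sn with h | h
    · intro k hk
      exact h (show (⟨k, hKa hk⟩ : ↥C) ∈ K.subgroupOf C from hk)
    exfalso
    have hKC : K ≤ centralizer (W0 : Set X) := le_centralizer_of_commutator_eq_bot
      ((commutator_subgroupOf_eq_bot_iff hKa inf_le_right).mp h)
    have hdec : ∀ k ∈ K, ∃ w ∈ W, ∃ c ∈ CW, w * c = k := fun k hk =>
      (CfsgLib.Solvable.mem_sup_of_le_normalizer hCWN).mp (hLdec (hKL hk))
    have haCW : ∀ c ∈ CW, a * c * a ∈ CW := by
      intro c hc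
      rw [mem_centralizer_iff]
      intro x hx
      have h1 := mem_centralizer_iff.mp hc _ (haW x hx)
      calc x * (a * c * a) = (a * a) * x * (a * c * a) := by rw [haa, one_mul]
        _ = a * ((a * x * a) * c) * a := by group
        _ = a * (c * (a * x * a)) * a := by rw [h1]
        _ = (a * c * a) * x * (a * a) := by group
        _ = (a * c * a) * x := by rw [haa, mul_one]
    -- the `W`-part of an element of `K` is fixed by `a` modulo the centre of `W`
    have hpart : ∀ k ∈ K, ∀ w ∈ W, ∀ c ∈ CW, w * c = k →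
        w⁻¹ * (a * w * a) ∈ W ∧ w⁻¹ * (a * w * a) ∈ CW := by
      intro k hk w hw c hc hwc
      refine ⟨mul_mem (inv_mem hw) (haW w hw), ?_⟩
      have h1 : a * k * a = k := (hfixed k).mp (hKa hk)
      have h2 : (a * w * a) * (a * c * a) = w * c := by
        rw [hwc, ← h1, ← hwc]
        calc (a * w * a) * (a * c * a) = a * w * (a * a) * c * a := by group
          _ = a * (w * c) * a := by rw [haa, mul_one]; group
      have : w⁻¹ * (a * w * a) = c * (a * c * a)⁻¹ := by
        rw [eq_mul_inv_iff_mul_eq, mul_assoc, h2]; group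
      rw [this]
      exact mul_mem hc (inv_mem (haCW c hc))
    have hgen : ⁅K, K⁆ ≤ W0 ⊔ CW := by
      rw [commutator_le]
      intro k hk k' hk'
      obtain ⟨w, hw, c, hc, rfl⟩ := hdec k hk
      obtain ⟨w', hw', c', hc', rfl⟩ := hdec k' hk'
      obtain ⟨hzW, hzC⟩ := hpart _ hk w hw c hc rfl
      obtain ⟨hzW', hzC'⟩ := hpart _ hk' w' hw' c' hc' rfl
      have e1 : Commute w c' := mem_centralizer_iff.mp hc' w hw
      have e2 : Commute w' c := mem_centralizer_iff.mp hc w' hw'
      have e3 : ⁅w * c, w' * c'⁆ = ⁅w, w'⁆ * ⁅c, c'⁆ := by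
        have q1 : Commute c w' := e2.symm
        have q2 : Commute c' w := e1.symm
        have q3 : Commute w c := mem_centralizer_iff.mp hc w hw
        have q4 : Commute w' c' := mem_centralizer_iff.mp hc' w' hw'
        simp only [commutatorElement_def, mul_inv_rev]
        calc w * c * (w' * c') * (c⁻¹ * w⁻¹) * (c'⁻¹ * w'⁻¹)
            = w * (c * w') * c' * c⁻¹ * (w⁻¹ * c'⁻¹) * w'⁻¹ := by group
          _ = w * (w' * c) * c' * c⁻¹ * (c'⁻¹ * w⁻¹) * w'⁻¹ := by
            rw [q1.eq, q2.inv_inv.eq]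
          _ = w * w' * ((c * c' * c⁻¹ * c'⁻¹) * w⁻¹ * w'⁻¹) := by group
          _ = w * w' * (w⁻¹ * w'⁻¹ * (c * c' * c⁻¹ * c'⁻¹)) := by
            congr 1
            have hcc : c * c' * c⁻¹ * c'⁻¹ ∈ CW := by
              exact mul_mem (mul_mem (mul_mem hc hc') (inv_mem hc)) (inv_mem hc')
            have h5 := mem_centralizer_iff.mp hcc _ (mul_mem (inv_mem hw) (inv_mem hw'))
            calc c * c' * c⁻¹ * c'⁻¹ * w⁻¹ * w'⁻¹ = c * c' * c⁻¹ * c'⁻¹ * (w⁻¹ * w'⁻¹) := by group
              _ = w⁻¹ * w'⁻¹ * (c * c' * c⁻¹ * c'⁻¹) := h5.symm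
          _ = w * w' * w⁻¹ * w'⁻¹ * (c * c' * c⁻¹ * c'⁻¹) := by group
      rw [e3]
      refine mul_mem (mem_sup_left ?_) (mem_sup_right
        (commutatorElement_mem_of CW hc hc'))
      refine ⟨commutatorElement_mem_of W hw hw', ?_⟩
      refine (hfixed _).mpr ?_
      obtain ⟨z, hz⟩ : ∃ z, z = w⁻¹ * (a * w * a) := ⟨_, rfl⟩
      obtain ⟨z', hz'⟩ : ∃ z', z' = w'⁻¹ * (a * w' * a) := ⟨_, rfl⟩
      have f0 : a * ⁅w, w'⁆ * a = ⁅a * w * a, a * w' * a⁆ := by
        have hc' : ∀ x : X, MulAut.conj a x = a * x * a := fun x => by rw [MulAut.conj_apply, hainv]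
        rw [← hc', ← hc', ← hc', map_commutatorElement]
      rw [f0, show a * w * a = w * z by rw [hz, mul_inv_cancel_left],
        show a * w' * a = w' * z' by rw [hz', mul_inv_cancel_left]]
      rw [← hz] at hzW hzC
      rw [← hz'] at hzW' hzC'
      have m1 : Commute w z := mem_centralizer_iff.mp hzC w hw
      have m2 : Commute w' z := mem_centralizer_iff.mp hzC w' hw'
      have m3 : Commute w z' := mem_centralizer_iff.mp hzC' w hw
      have m4 : Commute w' z' := mem_centralizer_iff.mp hzC' w' hw'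
      have m5 : Commute z z' := mem_centralizer_iff.mp hzC' z hzW
      simp only [commutatorElement_def, mul_inv_rev]
      calc w * z * (w' * z') * (z⁻¹ * w⁻¹) * (z'⁻¹ * w'⁻¹)
          = w * (z * w') * (z' * z⁻¹) * (w⁻¹ * z'⁻¹) * w'⁻¹ := by group
        _ = w * (w' * z) * (z⁻¹ * z') * (z'⁻¹ * w⁻¹) * w'⁻¹ := by
          rw [← m2.eq, (m5.symm.inv_right).eq, m3.inv_inv.eq]
        _ = w * w' * w⁻¹ * w'⁻¹ := by group
    rw [hKperf] at hgen
    have hKW0C : K ≤ W0 ⊔ CW := hgen
    -- so `K` centralizes `W`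
    have hKcomm : ⁅K, K⁆ ≤ CW := by
      rw [commutator_le]
      intro k hk k' hk'
      obtain ⟨u, hu, c, hc, rfl⟩ := (CfsgLib.Solvable.mem_sup_of_le_normalizer
        (show CW ≤ normalizer (W0 : Set X) from
          (centralizer_le (show (W0 : Set X) ⊆ W from fun _ h => h.1)).trans
            (centralizer_le_normalizer _))).mp (hKW0C hk')
      have hku : Commute k u := (mem_centralizer_iff.mp (hKC hk) u hu).symm
      obtain ⟨w, hw, d, hd, rfl⟩ := hdec k hk
      have hdu : Commute d u := (mem_centralizer_iff.mp hd u hu.1).symm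
      have hwu : Commute w u := by
        have h1 : w * d * u = u * (w * d) := hku
        rw [mul_assoc, hdu.eq, ← mul_assoc, ← mul_assoc, mul_left_inj] at h1
        exact h1
      have hwc : Commute w c := mem_centralizer_iff.mp hc w hw
      have e : ⁅w * d, u * c⁆ = ⁅d, c⁆ := by
        simp only [commutatorElement_def, mul_inv_rev]
        calc w * d * (u * c) * (d⁻¹ * w⁻¹) * (c⁻¹ * u⁻¹)
            = w * (d * u) * (c * d⁻¹) * (w⁻¹ * c⁻¹) * u⁻¹ := by group
          _ = w * (u * d) * (c * d⁻¹) * (c⁻¹ * w⁻¹) * u⁻¹ := by rw [hdu.eq, hwc.inv_inv.eq]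
          _ = (w * u) * (d * c * d⁻¹ * c⁻¹) * (w⁻¹ * u⁻¹) := by group
          _ = (d * c * d⁻¹ * c⁻¹) * ((w * u) * (w⁻¹ * u⁻¹)) := by
            have hcc : d * c * d⁻¹ * c⁻¹ ∈ CW :=
              mul_mem (mul_mem (mul_mem hd hc) (inv_mem hd)) (inv_mem hc)
            rw [mem_centralizer_iff.mp hcc (w * u) (mul_mem hw hu.1), mul_assoc]
          _ = d * c * d⁻¹ * c⁻¹ := by
            rw [hwu.eq, show u * w * (w⁻¹ * u⁻¹) = 1 by group, mul_one]
      rw [e]
      exact commutatorElement_mem_of CW hd hc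
    rw [hKperf] at hKcomm
    exact hKD (hKcomm.trans (centralizer_le (show (D : Set X) ⊆ W from fun _ h => mem_sup_left h)))
  by_cases hmove : Da = D
  · have hKleD : K ≤ D := (hKW.trans inf_le_left).trans (sup_le le_rfl hmove.le)
    rw [eq_of_le_of_card_ge hKleD (hsize D hD)]
    exact hD
  exfalso
  have hcommD : ∀ x ∈ D, ∀ y ∈ Da, x * y = y * x := fun x hx y hy =>
    (mem_centralizer_iff.mp (le_centralizer_of_commutator_eq_bot
      (component_commutator_of_ne hD hDaC (Ne.symm hmove)) hx) y hy).symm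
  -- the diagonal
  let φ : ↥D →* X :=
    { toFun := fun d => d * (a * d * a)
      map_one' := by simp [haa]
      map_mul' := fun d e => by
        show (d : X) * e * (a * (d * e) * a) = d * (a * d * a) * (e * (a * e * a))
        have h1 := hcommD _ e.2 _ (haDa _ d.2)
        calc (d : X) * e * (a * (d * e) * a) = d * e * (a * d * (a * a) * e * a) := by
              rw [haa, mul_one]; group
          _ = d * (e * (a * d * a)) * (a * e * a) := by group
          _ = d * ((a * d * a) * e) * (a * e * a) := by rw [h1]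
          _ = d * (a * d * a) * (e * (a * e * a)) := by group }
  have hφfix : ∀ d, φ d ∈ C := by
    intro d
    rw [hfixed]
    show a * ((d : X) * (a * d * a)) * a = d * (a * d * a)
    calc a * ((d : X) * (a * d * a)) * a = (a * d * a) * d * (a * a) := by group
      _ = (a * d * a) * d := by rw [haa, mul_one]
      _ = d * (a * d * a) := (hcommD _ d.2 _ (haDa _ d.2)).symm
  have hdecW : ∀ w ∈ W0, ∃ d : ↥D, (φ d)⁻¹ * w ∈ centralizer (W : Set X) := by
    intro w hw
    obtain ⟨d, hd, e, he, rfl⟩ := CfsgLib.GenFittingSub.exists_mul_of_mem_sup_of_commute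
      (component_commutator_of_ne hD hDaC (Ne.symm hmove)) hw.1
    refine ⟨⟨d, hd⟩, ?_⟩
    set z := (a * d * a)⁻¹ * e with hz
    have hzeq : (φ ⟨d, hd⟩)⁻¹ * (d * e) = z := by
      show (d * (a * d * a))⁻¹ * (d * e) = z
      rw [hz]; group
    rw [hzeq]
    have hzDa : z ∈ Da := mul_mem (inv_mem (haDa d hd)) he
    have hzfix : a * z * a = z := by
      rw [← hzeq]
      exact (hfixed _).mp (mul_mem (inv_mem (hφfix ⟨d, hd⟩)) hw.2)
    have hzD : z ∈ D := hzfix ▸ haD z hzDa
    rw [mem_centralizer_iff]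
    intro y hy
    have hle : W ≤ centralizer {z} := sup_le
      (fun x hx => mem_centralizer_singleton_iff.mpr (hcommD x hx z hzDa))
      (fun x hx => mem_centralizer_singleton_iff.mpr (hcommD z hzD x hx).symm)
    exact mem_centralizer_singleton_iff.mp (hle hy)
  have hKφ : K ≤ φ.range := by
    rw [← hKperf, commutator_le]
    intro k hk k' hk'
    obtain ⟨d, hd⟩ := hdecW k (hKW hk)
    obtain ⟨d', hd'⟩ := hdecW k' (hKW hk')
    refine ⟨⁅d, d'⁆, ?_⟩
    rw [map_commutatorElement]
    obtain ⟨z, hz⟩ : ∃ z, z = (φ d)⁻¹ * k := ⟨_, rfl⟩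
    obtain ⟨z', hz'⟩ : ∃ z', z' = (φ d')⁻¹ * k' := ⟨_, rfl⟩
    rw [← hz] at hd
    rw [← hz'] at hd'
    have hφW : ∀ x, φ x ∈ W := fun x => mul_mem (mem_sup_left x.2) (mem_sup_right (haDa _ x.2))
    have hzW : z ∈ W := by rw [hz]; exact mul_mem (inv_mem (hφW d)) (hKW hk).1
    have m2 : Commute (φ d') z := mem_centralizer_iff.mp hd _ (hφW d')
    have m3 : Commute (φ d) z' := mem_centralizer_iff.mp hd' _ (hφW d)
    have m5 : Commute z z' := mem_centralizer_iff.mp hd' z hzW
    rw [show k = φ d * z by rw [hz, mul_inv_cancel_left],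
      show k' = φ d' * z' by rw [hz', mul_inv_cancel_left]]
    simp only [commutatorElement_def, mul_inv_rev]
    symm
    calc φ d * z * (φ d' * z') * (z⁻¹ * (φ d)⁻¹) * (z'⁻¹ * (φ d')⁻¹)
        = φ d * (z * φ d') * (z' * z⁻¹) * ((φ d)⁻¹ * z'⁻¹) * (φ d')⁻¹ := by group
      _ = φ d * (φ d' * z) * (z⁻¹ * z') * (z'⁻¹ * (φ d)⁻¹) * (φ d')⁻¹ := by
        rw [← m2.eq, (m5.symm.inv_right).eq, m3.inv_inv.eq]
      _ = φ d * φ d' * (φ d)⁻¹ * (φ d')⁻¹ := by group
  have hrangecard : Nat.card φ.range ≤ Nat.card D :=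
    Nat.card_le_card_of_surjective φ.rangeRestrict φ.rangeRestrict_surjective
  have hcardeq : Nat.card D = Nat.card K :=
    le_antisymm (hsize D hD) ((card_le_of_le hKφ).trans hrangecard)
  have hKeq : K = φ.range := eq_of_le_of_card_ge hKφ (hrangecard.trans hcardeq.le)
  have hinj : Function.Injective φ := by
    have hb : Function.Bijective φ.rangeRestrict :=
      (Nat.bijective_iff_surjective_and_card _).mpr
        ⟨φ.rangeRestrict_surjective, by rw [← hKeq, hcardeq]⟩
    exact fun x y h => hb.1 (Subtype.ext h)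
  -- the stabilizer of `D` in `B`
  set B0 := B ⊓ normalizer (D : Set X) with hB0
  have hBcomm : ∀ x ∈ B, ∀ y ∈ B, x * y = y * x := fun x hx y hy =>
    CfsgLib.Signalizer.elementary_commute hB hx hy
  have himg : ∀ x ∈ B, D.map (MulAut.conj x).toMonoidHom = D ∨
      D.map (MulAut.conj x).toMonoidHom = Da := by
    intro x hx
    by_contra hno
    push Not at hno
    set D' := D.map (MulAut.conj x).toMonoidHom with hD'
    have hD'C : Cfsg.IsComponent D' := component_map_conj hD x
    have hWD' : W ≤ centralizer (D' : Set X) := sup_le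
      (le_centralizer_of_commutator_eq_bot (component_commutator_of_ne hD hD'C hno.1.symm))
      (le_centralizer_of_commutator_eq_bot (component_commutator_of_ne hDaC hD'C hno.2.symm))
    refine hKD (fun k hk => ?_)
    rw [mem_centralizer_iff]
    intro d hd
    have hxk : x * k * x⁻¹ = k := by
      rw [← mem_centralizer_iff.mp (hBK hx) k hk, mul_inv_cancel_right]
    have h1 := mem_centralizer_iff.mp (hWD' (hKW hk).1) (x * d * x⁻¹) ⟨d, hd, rfl⟩
    rw [← hxk] at h1
    rw [show x * d * x⁻¹ * (x * k * x⁻¹) = x * (d * k) * x⁻¹ by group,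
      show x * k * x⁻¹ * (x * d * x⁻¹) = x * (k * d) * x⁻¹ by group, mul_left_inj, mul_right_inj] at h1
    exact h1
  have hnorm : ∀ x : X, D.map (MulAut.conj x).toMonoidHom = D → x ∈ normalizer (D : Set X) :=
    fun x h => mem_normalizer_fintype fun d hd => h ▸ ⟨d, hd, rfl⟩
  have hBsplit : ∀ x ∈ B, x ∈ B0 ∨ a * x ∈ B0 := by
    intro x hx
    rcases himg x hx with h | h
    · exact Or.inl ⟨hx, hnorm x h⟩
    · refine Or.inr ⟨mul_mem haB hx, hnorm _ (le_antisymm ?_ ?_)⟩
      · rintro _ ⟨d, hd, rfl⟩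
        show a * x * d * (a * x)⁻¹ ∈ D
        have hm : x * d * x⁻¹ ∈ Da := h ▸ ⟨d, hd, rfl⟩
        rw [show a * x * d * (a * x)⁻¹ = a * (x * d * x⁻¹) * a⁻¹ by group, hainv]
        exact haD _ hm
      · intro d hd
        have hm : a * d * a ∈ D.map (MulAut.conj x).toMonoidHom := h ▸ haDa d hd
        obtain ⟨e, he, hed⟩ := hm
        refine ⟨e, he, ?_⟩
        have hed' : x * e * x⁻¹ = a * d * a := hed
        show a * x * e * (a * x)⁻¹ = d
        rw [show a * x * e * (a * x)⁻¹ = a * (x * e * x⁻¹) * a⁻¹ by group, hed', hainv, hconj2]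
  have hBcard : Nat.card B ≤ 2 * Nat.card B0 := by
    let g : Bool × ↥B0 → ↥B := fun q => ⟨(if q.1 then a else 1) * q.2,
      mul_mem (by split_ifs <;> [exact haB; exact one_mem B]) q.2.2.1⟩
    have hg : Function.Surjective g := by
      intro x
      rcases hBsplit x x.2 with h | h
      · exact ⟨(false, ⟨x, h⟩), Subtype.ext (by simp [g])⟩
      · exact ⟨(true, ⟨a * x, h⟩), Subtype.ext (by simp [g, ← mul_assoc, haa])⟩
    exact (Nat.card_le_card_of_surjective g hg).trans (by simp [Nat.card_prod])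
  have hB0D : B0 ≤ centralizer (D : Set X) := by
    intro x hx
    refine commute_of_mod_centralizer (component_commutator_self hD)
      (fun d hd => (mem_normalizer_iff.mp hx.2 d).mp hd) fun d hd => ?_
    set δ := x * d * x⁻¹ * d⁻¹ with hδ
    have hδD : δ ∈ D := mul_mem ((mem_normalizer_iff.mp hx.2 d).mp hd) (inv_mem hd)
    have hxa : a * x = x * a := hBcomm a haB x hx.1
    have hδDa : a * δ * a ∈ Da := haDa δ hδD
    -- `δ · aδa = 1`
    have hk : φ ⟨d, hd⟩ ∈ K := hKeq ▸ ⟨_, rfl⟩
    have hxk : x * φ ⟨d, hd⟩ * x⁻¹ = φ ⟨d, hd⟩ := by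
      rw [← mem_centralizer_iff.mp (hBK hx.1) _ hk, mul_inv_cancel_right]
    have h1 : φ ⟨δ, hδD⟩ = 1 := by
      have hprod : (⟨δ, hδD⟩ : ↥D) = ⟨x * d * x⁻¹, (mem_normalizer_iff.mp hx.2 d).mp hd⟩ *
          (⟨d, hd⟩ : ↥D)⁻¹ := Subtype.ext rfl
      rw [hprod, map_mul, map_inv, mul_inv_eq_one]
      show x * d * x⁻¹ * (a * (x * d * x⁻¹) * a) = φ ⟨d, hd⟩
      rw [← hxk]
      show x * d * x⁻¹ * (a * (x * d * x⁻¹) * a) = x * (d * (a * d * a)) * x⁻¹
      have hxa' : x⁻¹ * a = a * x⁻¹ := by
        rw [inv_mul_eq_iff_eq_mul, ← mul_assoc, ← hxa, mul_inv_cancel_right]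
      calc x * d * x⁻¹ * (a * (x * d * x⁻¹) * a) = x * d * x⁻¹ * (a * x) * d * (x⁻¹ * a) := by group
        _ = x * d * x⁻¹ * (x * a) * d * (a * x⁻¹) := by rw [hxa, hxa']
        _ = x * (d * (a * d * a)) * x⁻¹ := by group
    have h2 : δ * (a * δ * a) = 1 := h1
    have hδ2 : δ ∈ Da := by
      rw [eq_inv_of_mul_eq_one_left h2]
      exact inv_mem hδDa
    rw [mem_centralizer_iff]
    exact fun y hy => hcommD y hy δ hδ2
  -- a four-subgroup of `Da`
  set V1 := (V.comap φ).map ((MulAut.conj a).toMonoidHom.comp D.subtype) with hV1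
  have hV1Da : V1 ≤ Da := by
    rintro _ ⟨d, -, rfl⟩
    exact ⟨d, d.2, rfl⟩
  have hψinj : Function.Injective ((MulAut.conj a).toMonoidHom.comp D.subtype) :=
    fun x y h => Subtype.ext ((MulAut.conj a).injective h)
  have hV1c : Nat.card V1 = Nat.card V := by
    rw [hV1, card_map_of_injective hψinj]
    have hVr : V ≤ φ.range := hVK.trans hKeq.le
    conv_rhs => rw [← map_comap_eq_self hVr, card_map_of_injective hinj]
  have hcomap : Cfsg.IsElementaryAbelian 2 (V.comap φ) :=
    ⟨⟨⟨fun x y => Subtype.ext (hinj (by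
      rw [Subgroup.coe_mul, Subgroup.coe_mul, map_mul, map_mul]
      exact CfsgLib.Signalizer.elementary_commute hV x.2 y.2))⟩⟩,
      fun x hx => hinj (by rw [map_pow, hV.2 _ hx, map_one])⟩
  have hV1e : Cfsg.IsElementaryAbelian 2 V1 := by
    haveI := hcomap.1
    refine ⟨inferInstance, ?_⟩
    rintro _ ⟨d, hd, rfl⟩
    rw [← map_pow, hcomap.2 d hd, map_one]
  have hB0e : Cfsg.IsElementaryAbelian 2 B0 := CfsgLib.Signalizer.elementary_of_le hB inf_le_left
  have hB0Da : ∀ x ∈ B0, ∀ v ∈ Da, Commute x v := by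
    intro x hx v hv
    have hv' := mem_centralizer_iff.mp (hB0D hx) (a * v * a) (haD v hv)
    have hxa : a * x = x * a := hBcomm a haB x hx.1
    calc x * v = x * (a * (a * v * a) * a) := by rw [hconj2]
      _ = (x * a) * (a * v * a) * a := by group
      _ = (a * x) * (a * v * a) * a := by rw [hxa]
      _ = a * (x * (a * v * a)) * a := by group
      _ = a * ((a * v * a) * x) * a := by rw [hv']
      _ = a * (a * v * a) * (x * a) := by group
      _ = a * (a * v * a) * (a * x) := by rw [hxa]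
      _ = a * (a * v * a) * a * x := by group
      _ = v * x := by rw [hconj2]
  set B' := B0 ⊔ V1 with hB'
  have hB'C : B' ≤ centralizer (D : Set X) := sup_le hB0D (hV1Da.trans fun v hv =>
    mem_centralizer_iff.mpr fun d hd => hcommD d hd v hv)
  have hB'e : Cfsg.IsElementaryAbelian 2 B' := by
    have hcom : ∀ x ∈ B', ∀ y ∈ B', x * y = y * x := by
      have h1 : B' ≤ centralizer (B0 : Set X) := sup_le
        (fun x hx => mem_centralizer_iff.mpr fun y hy => hBcomm y hy.1 x hx.1)
        (fun v hv => mem_centralizer_iff.mpr fun y hy => hB0Da y hy v (hV1Da hv))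
      have h2 : B' ≤ centralizer (V1 : Set X) := sup_le
        (fun x hx => mem_centralizer_iff.mpr fun v hv => (hB0Da x hx v (hV1Da hv)).symm)
        (fun v hv => mem_centralizer_iff.mpr fun y hy =>
          CfsgLib.Signalizer.elementary_commute hV1e hy hv)
      intro x hx y hy
      have h3 : B' ≤ centralizer {x} := sup_le
        (fun u hu => mem_centralizer_singleton_iff.mpr (mem_centralizer_iff.mp (h1 hx) u hu))
        (fun u hu => mem_centralizer_singleton_iff.mpr (mem_centralizer_iff.mp (h2 hx) u hu))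
      exact (mem_centralizer_singleton_iff.mp (h3 hy)).symm
    refine ⟨⟨⟨fun x y => Subtype.ext (hcom x x.2 y y.2)⟩⟩, fun x hx => ?_⟩
    let Q : Subgroup X :=
      { carrier := {x | x ∈ B' ∧ x ^ 2 = 1}
        one_mem' := ⟨one_mem _, one_pow 2⟩
        mul_mem' := fun {u v} hu hv => ⟨mul_mem hu.1 hv.1, by
          rw [Commute.mul_pow (hcom u hu.1 v hv.1), hu.2, hv.2, one_mul]⟩
        inv_mem' := fun {u} hu => ⟨inv_mem hu.1, by rw [inv_pow, hu.2, inv_one]⟩ }
    have hle : B' ≤ Q := sup_le (fun u hu => ⟨mem_sup_left hu, hB0e.2 u hu⟩)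
      (fun u hu => ⟨mem_sup_right hu, hV1e.2 u hu⟩)
    exact (hle hx).2
  have hB'card : Nat.card B0 * Nat.card V1 ≤ Nat.card B' := by
    rw [← Nat.card_prod]
    refine Nat.card_le_card_of_injective
      (fun q : ↥B0 × ↥V1 => (⟨q.1 * q.2, mul_mem (mem_sup_left q.1.2) (mem_sup_right q.2.2)⟩ : ↥B'))
      fun q q' h => ?_
    have h' : (q.1 : X) * q.2 = q'.1 * q'.2 := congrArg Subtype.val h
    have hx0 : (q'.1 : X)⁻¹ * q.1 = (q'.2 : X) * (q.2 : X)⁻¹ := by
      rw [eq_mul_inv_iff_mul_eq, mul_assoc, h', inv_mul_cancel_left]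
    set x := (q'.1 : X)⁻¹ * q.1 with hxdef
    have hxB0 : x ∈ B0 := mul_mem (inv_mem q'.1.2) q.1.2
    have hxV : x ∈ V1 := by rw [hx0]; exact mul_mem q'.2.2 (inv_mem q.2.2)
    have hxfix : a * x * a = x := by
      rw [hBcomm a haB x hxB0.1, mul_assoc, haa, mul_one]
    have hxD : x ∈ D := hxfix ▸ haD x (hV1Da hxV)
    have hphi : φ ⟨x, hxD⟩ = φ 1 := by
      rw [map_one]
      show x * (a * x * a) = 1
      rw [hxfix, ← sq, hB0e.2 x hxB0]
    have hx1 : x = 1 := congrArg Subtype.val (hinj hphi)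
    rw [hxdef, inv_mul_eq_one] at hx1
    rw [← hx1, mul_right_inj] at h'
    exact Prod.ext (Subtype.ext hx1.symm) (Subtype.ext h')
  have hfin := hrank D hD hcardeq B' hB'C hB'e
  have hpos : 1 ≤ Nat.card B0 := Nat.card_pos
  rw [hV1c] at hB'card
  nlinarith
where
  commutatorElement_mem_of (H : Subgroup X) {x y : X} (hx : x ∈ H) (hy : y ∈ H) : ⁅x, y⁆ ∈ H :=
    mul_mem (mul_mem (mul_mem hx hy) (inv_mem hx)) (inv_mem hy)

end CfsgLib.InvolComponent
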