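import Cfsg.Agent.Lib.Components.SylowCentralizer
import Cfsg.Agent.Lib.Balance.LBal
import Cfsg.Agent.Lib.Signalizer.OmegaCentralizer
import Cfsg.Agent.Lib.Signalizer.Basic

/-!
L-balance for the prime 2, without hypotheses on the components.
-/

set_option autoImplicit false
set_option linter.style.haveILetI false
set_option linter.unusedVariables false
set_option linter.unusedSectionVars false

open Subgroup
open scoped commutatorElement

namespace CfsgLib.Components

open CfsgLib.Balance (coreP coreP_le coreP_coprime le_coreP le_normalizer_coreP)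

universe u

variable {H : Type u} [Group H] [Finite H]

/-- An element commuting with `S` modulo an odd `S`-invariant subgroup centralizes `S` up to it. -/
theorem exists_mul_mem_centralizer {S N : Subgroup H} (hS : IsPGroup 2 S)
    (hN : (Nat.card N).Coprime 2) (hSN : S ≤ normalizer (N : Set H)) {w : H}
    (hw : ∀ s ∈ S, ⁅w, s⁆ ∈ N) : ∃ n ∈ N, n⁻¹ * w ∈ centralizer (S : Set H) := by
  haveI : Fact (Nat.Prime 2) := ⟨Nat.prime_two⟩
  have hidx : ¬ 2 ∣ S.relIndex (S ⊔ N) := by
    have h1 : Nat.card S * S.relIndex (S ⊔ N) = Nat.card ↥(S ⊔ N) := by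
      rw [← relIndex_bot_left, ← relIndex_bot_left]
      exact relIndex_mul_relIndex _ _ _ bot_le le_sup_left
    have h2 := card_sup_dvd hSN
    rw [← h1] at h2
    exact fun hd => Nat.prime_two.ne_one (Nat.eq_one_of_dvd_coprimes hN
      (hd.trans (Nat.dvd_of_mul_dvd_mul_left Nat.card_pos h2)) dvd_rfl)
  have hconj : ∀ s ∈ S, w * s * w⁻¹ ∈ S ⊔ N := fun s hs => by
    rw [show w * s * w⁻¹ = ⁅w, s⁆ * s by simp [commutatorElement_def, mul_assoc]]
    exact mul_mem (mem_sup_right (hw s hs)) (mem_sup_left hs)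
  obtain ⟨m, hm, hmc⟩ := CfsgLib.AlperinGroup.exists_conj_mem (p := 2) (S ⊔ N) S
    (S.map (MulAut.conj w).toMonoidHom) hS (hS.map _) le_sup_left
    (by rintro _ ⟨s, hs, rfl⟩; exact hconj s hs) hidx
  rw [sup_comm] at hm
  obtain ⟨n, hn, t, ht, rfl⟩ := (CfsgLib.Solvable.mem_sup_of_le_normalizer hSN).1 hm
  refine ⟨n, hn, fun s hs => ?_⟩
  have h1 : n⁻¹ * (w * s * w⁻¹) * n ∈ S := by
    have h := hmc (w * s * w⁻¹) ⟨s, hs, rfl⟩
    have h' := S.mul_mem (S.mul_mem ht h) (S.inv_mem ht)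
    rwa [show t * ((n * t)⁻¹ * (w * s * w⁻¹) * (n * t)) * t⁻¹ = n⁻¹ * (w * s * w⁻¹) * n by group]
      at h'
  have h2 : n⁻¹ * (w * s * w⁻¹) * n * s⁻¹ ∈ N := by
    rw [show n⁻¹ * (w * s * w⁻¹) * n * s⁻¹ = n⁻¹ * ⁅w, s⁆ * (s * n * s⁻¹) by
      simp [commutatorElement_def, mul_assoc]]
    exact mul_mem (mul_mem (inv_mem hn) (hw s hs)) (le_normalizer_iff.mp hSN s hs n hn)
  obtain ⟨j, hj⟩ := twoElement_of_mem hS (mul_mem h1 (inv_mem hs))
  have h3 : n⁻¹ * (w * s * w⁻¹) * n * s⁻¹ = 1 := orderOf_eq_one_iff.mp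
    (Nat.eq_one_of_dvd_coprimes ((hN.symm.pow_left j)) (orderOf_dvd_of_pow_eq_one hj)
      (Subgroup.orderOf_dvd_natCard _ h2))
  rw [mul_inv_eq_one] at h3
  calc s * (n⁻¹ * w) = (n⁻¹ * (w * s * w⁻¹) * n) * (n⁻¹ * w) := by rw [h3]
    _ = n⁻¹ * w * s := by group

/-- The 2-elements of `A ⊔ O`, `O` odd, lie in `A`. -/
theorem pElements_sup_le {A O T : Subgroup H} (hAT : A ≤ T) (hT : T ≤ normalizer (A : Set H))
    (hOT : O ≤ T) (hO : (Nat.card O).Coprime 2) : pElements 2 (A ⊔ O) ≤ A := by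
  haveI : Fact (Nat.Prime 2) := ⟨Nat.prime_two⟩
  rw [pElements_le_iff]
  intro x hx k hk
  rw [sup_comm] at hx
  have hle : O ≤ normalizer (A : Set H) := hOT.trans hT
  rw [sup_comm] at hx
  obtain ⟨a, ha, o, ho, rfl⟩ := (CfsgLib.Solvable.mem_sup_of_le_normalizer hle).1 hx
  set N := normalizer (A : Set H) with hN
  haveI : (A.subgroupOf N).Normal := normal_subgroupOf_of_le_normalizer le_rfl
  set f := QuotientGroup.mk' (A.subgroupOf N) with hf
  set a' : N := ⟨a, le_normalizer ha⟩ with ha'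
  set o' : N := ⟨o, hle ho⟩ with ho'
  have h1 : f a' = 1 := (QuotientGroup.eq_one_iff a').mpr (mem_subgroupOf.mpr ha)
  have h2 : f o' = 1 := by
    refine orderOf_eq_one_iff.mp (Nat.eq_one_of_dvd_coprimes (hO.symm.pow_left k)
      (orderOf_dvd_of_pow_eq_one ?_) ?_)
    · rw [show f o' = f (a' * o') by rw [map_mul, h1, one_mul], ← map_pow,
        show (a' * o') ^ 2 ^ k = 1 from Subtype.ext hk, map_one]
    · refine (orderOf_map_dvd f o').trans ?_
      rw [ho', orderOf_mk]
      exact Subgroup.orderOf_dvd_natCard O ho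
  exact mul_mem ha (mem_subgroupOf.mp ((QuotientGroup.eq_one_iff o').mp h2))

/-- L-balance for `p = 2` in a group with trivial core. -/
theorem local_le_layer_two (hO : Cfsg.pPrimeCore 2 H = ⊥) {R K : Subgroup H} (hR : IsPGroup 2 R)
    (hKT : K ≤ centralizer (R : Set H))
    (hKs : (K.subgroupOf (centralizer (R : Set H))).IsSubnormal)
    (hKperf : ⁅K, K⁆ = K) (hKgen : pElements 2 K = K)
    (hKq : Cfsg.IsQuasisimple (↥K ⧸ Cfsg.pPrimeCore 2 ↥K)) : K ≤ Cfsg.layer H := by
  haveI : Fact (Nat.Prime 2) := ⟨Nat.prime_two⟩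
  set E := Cfsg.layer H with hE
  set T := centralizer (R : Set H) with hT
  set O := coreP 2 T with hOdef
  set V := E ⊓ T with hV
  have hTN : T ≤ normalizer (R : Set H) := centralizer_le_normalizer _
  have hKs' : (K.subgroupOf (normalizer (R : Set H))).IsSubnormal := by
    haveI : (T.subgroupOf (normalizer (R : Set H))).Normal := by
      refine normal_subgroupOf_of_le_normalizer (le_normalizer_iff.mpr fun n hn c hc r hr => ?_)
      have h := hc (n⁻¹ * r * n) ((mem_normalizer_iff''.mp hn r).mp hr)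
      calc r * (n * c * n⁻¹) = n * ((n⁻¹ * r * n) * c) * n⁻¹ := by group
        _ = n * (c * (n⁻¹ * r * n)) * n⁻¹ := by rw [h]
        _ = n * c * n⁻¹ * r := by group
    refine Subgroup.IsSubnormal.trans (K := T.subgroupOf (normalizer (R : Set H))) (comap_mono hKT)
      ?_ (Normal.isSubnormal inferInstance)
    exact hKs.comap (subgroupOfEquivOfLe hTN).toMonoidHom
  have hK2 : K ≤ centralizer (Cfsg.pCore 2 H : Set H) :=
    (CfsgLib.Balance.le_centralizer_R_pCore hR (hKT.trans hTN) hKs' hKperf hKq).trans inf_le_right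
  have hTV : T ≤ normalizer (V : Set H) := fun t ht => inf_normalizer_le_normalizer_inf
    ⟨by rw [normalizer_eq_top]; trivial, le_normalizer ht⟩
  have hTE : T ≤ normalizer (E : Set H) := by rw [normalizer_eq_top]; exact le_top
  rcases CfsgLib.Balance.le_sup_or_commutator_le (p := 2) hKT hKs hKq (inf_le_right : V ≤ T) hTV
    with h | h
  · rw [← hKgen]
    exact (pElements_mono h).trans ((pElements_sup_le inf_le_right hTV (coreP_le 2 T)
      (coreP_coprime 2 T)).trans inf_le_left)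
  -- `K` centralizes the layer
  have hOc : (Nat.card O).Coprime 2 := coreP_coprime 2 T
  have hTO : T ≤ normalizer (O : Set H) := le_normalizer_coreP 2 T
  set KO := K ⊔ O with hKO
  have hKOT : KO ≤ T := sup_le hKT (coreP_le 2 T)
  set M : Subgroup H :=
    { carrier := {u | u ∈ T ∧ ∀ v ∈ V, ⁅u, v⁆ ∈ O}
      one_mem' := ⟨one_mem _, fun v _ => by simp [commutatorElement_def]⟩
      mul_mem' := fun {a b} ha hb => ⟨mul_mem ha.1 hb.1, fun v hv => by
        rw [show ⁅a * b, v⁆ = a * ⁅b, v⁆ * a⁻¹ * ⁅a, v⁆ by simp [commutatorElement_def, mul_assoc]]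
        exact mul_mem (le_normalizer_iff.mp hTO a ha.1 _ (hb.2 v hv)) (ha.2 v hv)⟩
      inv_mem' := fun {a} ha => ⟨inv_mem ha.1, fun v hv => by
        rw [show ⁅a⁻¹, v⁆ = a⁻¹ * ⁅a, v⁆⁻¹ * a⁻¹⁻¹ by simp [commutatorElement_def, mul_assoc]]
        exact le_normalizer_iff.mp hTO _ (inv_mem ha.1) _ (inv_mem (ha.2 v hv))⟩ } with hM
  have hKOM : KO ≤ M := sup_le (fun k hk => ⟨hKT hk, fun v hv => h (commutator_mem_commutator hk hv)⟩)
    fun o ho => ⟨coreP_le 2 T ho, fun v hv =>
      CfsgLib.Solvable.commutator_le_of_normalizes ((inf_le_right : V ≤ T).trans hTO)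
        (commutator_mem_commutator ho hv)⟩
  -- the quotient by the core of `T`
  set π := QuotientGroup.mk' (Cfsg.pPrimeCore 2 T) with hπ
  set im := fun A : Subgroup H => (A.subgroupOf T).map π with him
  have him_le : ∀ A B : Subgroup H, A ≤ T → B ≤ T → (im A ≤ im B ↔ A ≤ B ⊔ O) := by
    intro A B hA hB
    constructor
    · intro h x hx
      obtain ⟨y, hy, hyx⟩ := h ⟨⟨x, hA hx⟩, hx, rfl⟩
      have hz : y⁻¹ * ⟨x, hA hx⟩ ∈ Cfsg.pPrimeCore 2 T := QuotientGroup.eq.1 hyx
      have : x = (y : H) * ((y⁻¹ * ⟨x, hA hx⟩ : T) : H) := by simp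
      rw [this]
      exact mul_mem_sup hy ⟨_, hz, rfl⟩
    · rintro h _ ⟨⟨x, hxT⟩, hx, rfl⟩
      rw [sup_comm] at h
      have hBO : B ≤ normalizer (O : Set H) := hB.trans hTO
      obtain ⟨o, ho, b, hb, hob⟩ := (CfsgLib.Solvable.mem_sup_of_le_normalizer hBO).1 (h hx)
      obtain ⟨o', ho', rfl⟩ := ho
      refine ⟨⟨b, hB hb⟩, hb, ?_⟩
      rw [show (⟨x, hxT⟩ : T) = o' * ⟨b, hB hb⟩ from Subtype.ext hob.symm, map_mul,
        show π o' = 1 from (QuotientGroup.eq_one_iff o').mpr ho', one_mul]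
  have him_comm : ∀ A B : Subgroup H, A ≤ T → B ≤ T → im ⁅A, B⁆ = ⁅im A, im B⁆ := by
    intro A B hA hB
    simp only [him]
    rw [← map_commutator]
    congr 1
    apply map_injective T.subtype_injective
    rw [map_commutator, map_subgroupOf_eq_of_le hA, map_subgroupOf_eq_of_le hB,
      map_subgroupOf_eq_of_le ((commutator_mono hA hB).trans (commutator_le_self T))]
  -- a Sylow 2-subgroup of `V`
  obtain ⟨P₀⟩ : Nonempty (Sylow 2 V) := inferInstance
  set S₀ := (P₀ : Subgroup V).map V.subtype with hS₀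
  have hS₀V : S₀ ≤ V := map_subtype_le _
  have hS₀max : ∀ c ∈ V, (∀ s ∈ S₀, s * c = c * s) → ∀ j : ℕ, c ^ 2 ^ j = 1 → c ∈ S₀ := by
    intro c hc hcomm j hj
    have hp : IsPGroup 2 ↥(S₀ ⊔ zpowers c) := IsPGroup.to_sup_of_normal_left' (P₀.isPGroup'.map _)
      (isPGroup_zpowers_of_pow hj) (zpowers_le.mpr (mem_normalizer_of_conj_le fun s hs => by
        rw [← hcomm s hs, mul_inv_cancel_right]; exact hs))
    have hle : S₀ ⊔ zpowers c ≤ V := sup_le hS₀V (zpowers_le.mpr hc)
    have h := P₀.3 (hp.of_equiv (subgroupOfEquivOfLe hle).symm) (fun x hx =>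
      mem_subgroupOf.mpr (mem_sup_left (mem_map_of_mem V.subtype hx)))
    refine ⟨⟨c, hc⟩, ?_, rfl⟩
    rw [SetLike.mem_coe, ← h]
    exact mem_subgroupOf.mpr (mem_sup_right (mem_zpowers c))
  set Good := fun S : Subgroup H => S ≤ E ∧ IsPGroup 2 S ∧ R ≤ normalizer (S : Set H) ∧ S₀ ≤ S ∧
    K ≤ (KO ⊓ centralizer (S : Set H)) ⊔ O with hGood
  have hstart : Good S₀ := by
    refine ⟨hS₀V.trans inf_le_left, P₀.isPGroup'.map _, fun r hr => mem_normalizer_of_conj_le
      fun s hs => ?_, le_rfl, fun k hk => ?_⟩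
    · rw [(hS₀V hs).2 r hr, mul_inv_cancel_right]; exact hs
    · obtain ⟨n, hn, hnk⟩ := exists_mul_mem_centralizer (P₀.isPGroup'.map V.subtype) hOc
        ((hS₀V.trans inf_le_right).trans hTO) (w := k)
        fun s hs => h (commutator_mem_commutator hk (hS₀V hs))
      rw [show k = n * (n⁻¹ * k) by group]
      exact mul_mem (mem_sup_right hn) (mem_sup_left
        ⟨KO.mul_mem (KO.inv_mem (mem_sup_right hn)) (mem_sup_left hk), hnk⟩)
  obtain ⟨S, hS, hSmax⟩ := (Set.toFinite {S | Good S}).exists_maximal ⟨S₀, hstart⟩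
  obtain ⟨hSE, hSp, hRS, hS₀S, hKS⟩ := hS
  -- a minimal covering subgroup centralizing `S`
  obtain ⟨W, hW, hWmin⟩ := (Set.toFinite
    {W : Subgroup H | W ≤ KO ⊓ centralizer (S : Set H) ∧ K ≤ W ⊔ O}).exists_minimal
      ⟨_, le_rfl, hKS⟩
  obtain ⟨hWle, hKW⟩ := hW
  have hWT : W ≤ T := (hWle.trans inf_le_left).trans hKOT
  have hKim : im K ≤ im W := (him_le K W hKT hWT).2 hKW
  have hWperf : ⁅W, W⁆ = W := by
    refine le_antisymm (commutator_le_self W) (hWmin ⟨(commutator_le_self W).trans hWle, ?_⟩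
      (commutator_le_self W))
    refine (him_le K _ hKT ((commutator_le_self W).trans hWT)).1 ?_
    rw [him_comm W W hWT hWT, ← hKperf, him_comm K K hKT hKT]
    exact commutator_mono hKim hKim
  have him_pel : ∀ A : Subgroup H, A ≤ T → im (pElements 2 A) = pElements 2 (im A) := by
    intro A hA
    simp only [him]
    rw [← map_pElements_eq]
    congr 1
    apply map_injective T.subtype_injective
    rw [map_pElements_of_injective _ T.subtype_injective, map_subgroupOf_eq_of_le hA,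
      map_subgroupOf_eq_of_le ((pElements_le A).trans hA)]
  have hWgen : pElements 2 W = W := by
    refine le_antisymm (pElements_le W) (hWmin ⟨(pElements_le W).trans hWle, ?_⟩ (pElements_le W))
    refine (him_le K _ hKT ((pElements_le W).trans hWT)).1 ?_
    rw [him_pel W hWT, ← hKgen, him_pel K hKT]
    exact pElements_mono hKim
  have hEO : Cfsg.pPrimeCore 2 E = ⊥ :=
    CfsgLib.Balance.pPrimeCore_subnormal_eq_bot hO (Normal.isSubnormal inferInstance)
  have hSidx : ¬ 2 ∣ S.relIndex E := by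
    intro hdvd
    -- a larger member
    set G₂ := E ⊔ R with hG₂
    have hSR : IsPGroup 2 ↥(S ⊔ R) := IsPGroup.to_sup_of_normal_left' hSp hR hRS
    obtain ⟨P₂, hP₂⟩ := (hSR.of_equiv
      (subgroupOfEquivOfLe (sup_le_sup_right hSE R : S ⊔ R ≤ G₂)).symm).exists_le_sylow
    set P₂' := (P₂ : Subgroup G₂).map G₂.subtype with hP₂'
    set SE := P₂' ⊓ E with hSEdef
    have hSP : S ⊔ R ≤ P₂' := fun x hx =>
      ⟨⟨x, sup_le_sup_right hSE R hx⟩, hP₂ (mem_subgroupOf.mpr hx), rfl⟩
    have hne : ¬ SE ≤ S := by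
      intro hle
      obtain ⟨U⟩ : Nonempty (Sylow 2 E) := inferInstance
      obtain ⟨m, hm, hmU⟩ := CfsgLib.AlperinGroup.exists_conj_mem (p := 2) G₂ P₂'
        ((U : Subgroup E).map E.subtype) (P₂.isPGroup'.map _) (U.isPGroup'.map _) (map_subtype_le _)
        ((map_subtype_le _).trans le_sup_left)
        (by rw [relIndex, subgroupOf, comap_map_eq_self_of_injective G₂.subtype_injective]
            exact Sylow.not_dvd_index P₂)
      have hcard : Nat.card U ≤ Nat.card S := by
        refine Nat.card_le_card_of_injective (fun u => ⟨m⁻¹ * ((u : E) : H) * m, hle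
          ⟨hmU _ ⟨u, u.2, rfl⟩, by
            simpa using (inferInstance : E.Normal).conj_mem _ (u : E).2 m⁻¹⟩⟩) fun a b hab => ?_
        exact Subtype.ext (Subtype.ext (mul_left_cancel (mul_right_cancel (congrArg Subtype.val hab))))
      have h1 : Nat.card S * S.relIndex E = Nat.card E := by
        rw [← relIndex_bot_left, ← relIndex_bot_left]
        exact relIndex_mul_relIndex _ _ _ bot_le hSE
      obtain ⟨i, hi⟩ := IsPGroup.iff_card.mp hSp
      have h2 : 2 ^ (i + 1) ∣ Nat.card E := by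
        rw [← h1, hi, pow_succ]
        exact Nat.mul_dvd_mul_left _ hdvd
      have h3 : 2 ^ (i + 1) ∣ Nat.card U := by
        rw [U.card_eq_multiplicity]
        exact pow_dvd_pow 2 ((Nat.prime_two.pow_dvd_iff_le_factorization Nat.card_pos.ne').mp h2)
      have h4 := (Nat.le_of_dvd Nat.card_pos h3).trans hcard
      rw [hi] at h4
      exact absurd h4 (not_le.mpr (Nat.pow_lt_pow_right one_lt_two (Nat.lt_succ_self i)))
    have hSEp : IsPGroup 2 SE := (P₂.isPGroup'.map _).to_le inf_le_left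
    have hgrow := CfsgLib.Signalizer.inf_lt_normalizer hSEp
      (le_inf (le_sup_left.trans hSP) hSE) (fun h => hne h.ge)
    have hRW : R ≤ normalizer ((normalizer (S : Set H) ⊓ SE : Subgroup H) : Set H) := fun r hr =>
      inf_normalizer_le_normalizer_inf ⟨le_normalizer (hRS hr), inf_normalizer_le_normalizer_inf
        ⟨le_normalizer (hSP (mem_sup_right hr)), by rw [normalizer_eq_top]; trivial⟩⟩
    obtain ⟨s, hs, hsS, hsR⟩ := CfsgLib.Signalizer.exists_fixed_coset hR (hSEp.to_le inf_le_right)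
      hRW inf_le_left hRS hgrow
    set S₁ := S ⊔ zpowers s with hS₁
    have hS₁SE : S₁ ≤ SE := sup_le (le_inf (le_sup_left.trans hSP) hSE) (zpowers_le.mpr hs.2)
    have hS₁N : S₁ ≤ normalizer (S : Set H) := sup_le le_normalizer (zpowers_le.mpr hs.1)
    set FS : Subgroup H :=
      { carrier := {a | a ∈ normalizer (S : Set H) ∧ ∀ r ∈ R, a⁻¹ * (r * a * r⁻¹) ∈ S}
        one_mem' := ⟨one_mem _, fun r _ => by simp⟩
        mul_mem' := fun {a b} ha hb => ⟨mul_mem ha.1 hb.1, fun r hr => by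
          rw [show (a * b)⁻¹ * (r * (a * b) * r⁻¹) =
            b⁻¹ * (a⁻¹ * (r * a * r⁻¹)) * b * (b⁻¹ * (r * b * r⁻¹)) by group]
          exact mul_mem ((mem_normalizer_iff''.mp hb.1 _).mp (ha.2 r hr)) (hb.2 r hr)⟩
        inv_mem' := fun {a} ha => ⟨inv_mem ha.1, fun r hr => by
          rw [show a⁻¹⁻¹ * (r * a⁻¹ * r⁻¹) = a * (a⁻¹ * (r * a * r⁻¹))⁻¹ * a⁻¹ by group]
          exact (mem_normalizer_iff.mp ha.1 _).mp (inv_mem (ha.2 r hr))⟩ } with hFS
    have hS₁F : S₁ ≤ FS := sup_le (fun t ht => ⟨le_normalizer ht, fun r hr =>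
      mul_mem (inv_mem ht) (le_normalizer_iff.mp hRS r hr t ht)⟩) (zpowers_le.mpr ⟨hs.1, hsR⟩)
    -- `[S₁, W] ≤ O`
    set C := V ⊓ centralizer (S : Set H) with hCdef
    have hmemC : ∀ a ∈ S₁, ∀ v ∈ W, ⁅a, v⁆ ∈ C := by
      intro a ha v hv
      have hvS := (hWle hv).2
      refine ⟨⟨?_, fun r hr => ?_⟩, fun t ht => ?_⟩
      · rw [show ⁅a, v⁆ = a * (v * a⁻¹ * v⁻¹) by simp [commutatorElement_def, mul_assoc]]
        exact E.mul_mem (hS₁SE ha).2
          ((inferInstance : E.Normal).conj_mem _ (E.inv_mem (hS₁SE ha).2) v)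
      · set b := a⁻¹ * (r * a * r⁻¹) with hb
        have hbS : b ∈ S := (hS₁F ha).2 r hr
        have hrv : r * v * r⁻¹ = v := by rw [(hWT hv) r hr, mul_inv_cancel_right]
        have hvb : b * v * b⁻¹ = v := by rw [hvS b hbS, mul_inv_cancel_right]
        rw [← mul_inv_eq_iff_eq_mul]
        calc r * ⁅a, v⁆ * r⁻¹ = (r * a * r⁻¹) * (r * v * r⁻¹) * (r * a * r⁻¹)⁻¹ * (r * v * r⁻¹)⁻¹ := by
              simp [commutatorElement_def, mul_assoc]
          _ = a * (b * v * b⁻¹) * a⁻¹ * v⁻¹ := by rw [hrv, hb]; group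
          _ = ⁅a, v⁆ := by rw [hvb, commutatorElement_def]
      · have h1 : Commute t (a * v * a⁻¹) := by
          have h := hvS (a⁻¹ * t * a) ((mem_normalizer_iff''.mp (hS₁N ha) t).mp ht)
          show t * (a * v * a⁻¹) = a * v * a⁻¹ * t
          calc t * (a * v * a⁻¹) = a * ((a⁻¹ * t * a) * v) * a⁻¹ := by group
            _ = a * (v * (a⁻¹ * t * a)) * a⁻¹ := by rw [h]
            _ = _ := by group
        exact (h1.mul_right (show Commute t v from hvS t ht).inv_right).eq
    have hSW : ⁅S₁, W⁆ ≤ O := by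
      rw [commutator_le]
      intro a ha v hv
      let ψ : W →* (↥T ⧸ Cfsg.pPrimeCore 2 T) := MonoidHom.mk'
        (fun v => π ⟨⁅a, (v : H)⁆, (hmemC a ha v v.2).1.2⟩) fun v₁ v₂ => by
          rw [← map_mul]
          refine QuotientGroup.eq.mpr ?_
          have hc2 := (hmemC a ha v₂ v₂.2).1
          have hkey : ⁅(v₁ : H), ⁅a, (v₂ : H)⁆⁆ ∈ O :=
            (hKOM ((hWle v₁.2).1)).2 _ hc2
          obtain ⟨o, ho, hoe⟩ := hkey
          have h5 : (⟨⁅a, ((v₁ * v₂ : W) : H)⁆, (hmemC a ha _ (v₁ * v₂).2).1.2⟩ : T) =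
              ⟨⁅a, (v₁ : H)⁆, (hmemC a ha v₁ v₁.2).1.2⟩ * o * ⟨⁅a, (v₂ : H)⁆, hc2.2⟩ := by
            refine Subtype.ext ?_
            simp only [Subgroup.coe_mul]
            rw [show ((o : T) : H) = ⁅(v₁ : H), ⁅a, (v₂ : H)⁆⁆ from hoe]
            simp [commutatorElement_def, mul_assoc]
          rw [h5]
          have hn := (inferInstance : (Cfsg.pPrimeCore 2 T).Normal).conj_mem _ (inv_mem ho)
            (⟨⁅a, (v₂ : H)⁆, hc2.2⟩⁻¹ : T)
          have key : ∀ A o B : T, B⁻¹ * o⁻¹ * B⁻¹⁻¹ = (A * o * B)⁻¹ * (A * B) := fun A o B => by group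
          exact (key ⟨⁅a, (v₁ : H)⁆, (hmemC a ha v₁ v₁.2).1.2⟩ o _) ▸ hn
      set Z := (S₀ ⊓ centralizer (S : Set H)).subgroupOf T with hZ
      have hrange : ψ.range ≤ Z.map π := by
        rw [MonoidHom.range_eq_map, map_le_iff_le_comap]
        have htop : (⊤ : Subgroup W) = pElements 2 ⊤ := by
          apply map_injective W.subtype_injective
          rw [map_pElements_of_injective _ W.subtype_injective, ← MonoidHom.range_eq_map,
            range_subtype, hWgen]
        rw [htop, pElements_le_iff]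
        intro v _ k hk
        have h1 : ψ v ∈ pElements 2 ((C.subgroupOf T).map π) :=
          mem_pElements ⟨⟨⁅a, (v : H)⁆, (hmemC a ha v v.2).1.2⟩, hmemC a ha v v.2, rfl⟩ (k := k)
            (by rw [← map_pow, hk, map_one])
        rw [← map_pElements_eq] at h1
        refine map_mono ?_ h1
        rw [pElements_le_iff]
        intro c hc i hi
        have hc' : (c : H) ∈ V ∧ (c : H) ∈ centralizer (S : Set H) := hc
        exact mem_subgroupOf.mpr ⟨hS₀max c hc'.1 (fun t ht => hc'.2 t (hS₀S ht)) i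
          (by simpa using congrArg Subtype.val hi), hc'.2⟩
      have hker : (⊤ : Subgroup W) ≤ ψ.ker := by
        haveI : Group.IsPerfect ↥W := Subgroup.isPerfect_iff.2 hWperf
        rw [← Group.IsPerfect.commutator_eq_top (G := W), _root_.commutator_def, commutator_le]
        intro x _ y _
        rw [MonoidHom.mem_ker, map_commutatorElement, commutatorElement_eq_one_iff_mul_comm]
        obtain ⟨x', hx', hxe⟩ := hrange ⟨x, rfl⟩
        obtain ⟨y', hy', hye⟩ := hrange ⟨y, rfl⟩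
        rw [← hxe, ← hye, ← map_mul, ← map_mul]
        congr 1
        exact Subtype.ext ((hy'.2 (x' : H) (hS₀S hx'.1)))
      exact ⟨_, (QuotientGroup.eq_one_iff _).mp (hker (mem_top (⟨v, hv⟩ : W))), rfl⟩
    have hS₁p : IsPGroup 2 S₁ := hSEp.to_le hS₁SE
    have hGood₁ : Good S₁ := by
      refine ⟨hS₁SE.trans inf_le_right, hS₁p, fun r hr => mem_normalizer_of_conj_le fun t ht => ?_,
        hS₀S.trans le_sup_left, ?_⟩
      · have h1 := (hS₁F ht).2 r hr
        have h2 := S₁.mul_mem ht (mem_sup_left h1)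
        rwa [mul_inv_cancel_left] at h2
      · refine hKW.trans (sup_le (fun v hv => ?_) le_sup_right)
        have hN₀S : ⁅S₁, W⁆ ≤ centralizer (S : Set H) := by
          rw [commutator_le]; exact fun a ha v hv => (hmemC a ha v hv).2
        obtain ⟨n, hn, hnv⟩ := exists_mul_mem_centralizer (N := ⁅S₁, W⁆) hS₁p
          (hOc.coprime_dvd_left (card_dvd_of_le hSW))
          (CfsgLib.Solvable.le_normalizer_commutator_left _ _) (w := v) fun t ht => by
            rw [← commutatorElement_inv]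
            exact inv_mem (commutator_mem_commutator ht hv)
        rw [show v = n * (n⁻¹ * v) by group]
        exact mul_mem (mem_sup_right (hSW hn)) (mem_sup_left
          ⟨KO.mul_mem (KO.inv_mem (mem_sup_right (hSW hn))) (hWle hv).1, hnv⟩)
    exact hsS (hSmax hGood₁ le_sup_left (mem_sup_right (mem_zpowers s)))
  have hWC := le_centralizer_of_sylow_centralized E hEO hSE hSp hSidx (hWle.trans inf_le_right)
    hWperf hWgen
  have hKE : K ≤ centralizer (E : Set H) := by
    have h1 : K ≤ (centralizer (E : Set H) ⊓ T) ⊔ O :=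
      hKW.trans (sup_le_sup_right (le_inf hWC hWT) _)
    rw [← hKgen]
    refine (pElements_mono h1).trans ((pElements_sup_le inf_le_right ?_ (coreP_le 2 T) hOc).trans
      inf_le_left)
    exact fun t ht => inf_normalizer_le_normalizer_inf
      ⟨by rw [normalizer_eq_top]; trivial, le_normalizer ht⟩
  have hKF : K ≤ centralizer (Cfsg.generalizedFittingSubgroup H : Set H) := by
    rw [le_centralizer_iff]
    refine sup_le (le_centralizer_iff.mp hKE) ?_
    exact (CfsgLib.Balance.fitting_le_pCore hO).trans (le_centralizer_iff.mp hK2)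
  have hKP : K ≤ Cfsg.pCore 2 H := fun k hk =>
    CfsgLib.Balance.center_le_pCore hO (Normal.isSubnormal inferInstance)
      ⟨centralizer_genFitting_le (hKF hk), hKF hk⟩
  haveI : Group.IsPerfect ↥K := Subgroup.isPerfect_iff.2 hKperf
  haveI : Group.IsNilpotent ↥K := ((isPGroup_pCore 2).to_le hKP).isNilpotent
  haveI := CfsgLib.Balance.subsingleton_of_perfect_solvable ↥K
  rw [eq_bot_of_subsingleton K]
  exact bot_le


/-- Lifting L-balance from `G / O(G)`. -/
theorem pLayer_map_le_of_local {p : ℕ} [hp : Fact p.Prime] (N : Subgroup H)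
    (N' : Subgroup (H ⧸ Cfsg.pPrimeCore p H))
    (hN : N.map (QuotientGroup.mk' (Cfsg.pPrimeCore p H)) = N')
    (hloc : ∀ K : Subgroup (H ⧸ Cfsg.pPrimeCore p H), K ≤ N' → (K.subgroupOf N').IsSubnormal →
      ⁅K, K⁆ = K → pElements p K = K → Cfsg.IsQuasisimple (↥K ⧸ Cfsg.pPrimeCore p ↥K) →
      K ≤ Cfsg.layer (H ⧸ Cfsg.pPrimeCore p H)) :
    (Cfsg.pLayer p ↥N).map N.subtype ≤ Cfsg.pLayer p H := by
  rw [Cfsg.pLayer, map_le_iff_le_comap]
  refine sSup_le fun K (hK : Cfsg.IsPComponent p K) => ?_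
  rw [← map_le_iff_le_comap]
  set f := QuotientGroup.mk' (Cfsg.pPrimeCore p H)
  have hfs : Function.Surjective f := QuotientGroup.mk'_surjective _
  have hker : (Nat.card f.ker).Coprime p := by rw [QuotientGroup.ker_mk']; exact coprime_card_pPrimeCore p
  set g : ↥N →* ↥N' :=
    (f.comp N.subtype).codRestrict _ fun x => by
      rw [← hN]; exact ⟨x, x.2, rfl⟩
  have hgs : Function.Surjective g := by
    rintro ⟨y, hy⟩
    rw [← hN] at hy
    obtain ⟨x, hx, rfl⟩ := hy
    exact ⟨⟨x, hx⟩, rfl⟩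
  set K1 := K.map N.subtype with hK1
  set K2 := (K.map g).map N'.subtype with hK2
  have hK2' : K2 = K1.map f := by rw [hK2, hK1, Subgroup.map_map, Subgroup.map_map]; rfl
  have hK2sub : K2.subgroupOf N' = K.map g :=
    comap_map_eq_self_of_injective (Subgroup.subtype_injective _) _
  have hperf : ⁅K1, K1⁆ = K1 := by rw [hK1, ← map_commutator, pComponent_commutator_self hK]
  have hgen : pElements p K1 = K1 := by
    rw [hK1, ← map_pElements_of_injective _ (Subgroup.subtype_injective _), pElements_pComponent hK]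
  have hgen2 : pElements p K2 = K2 := by rw [hK2', ← map_pElements_eq, hgen]
  let φ : ↥K →* ↥K2 := (f.comp (N.subtype.comp K.subtype)).codRestrict K2
    fun x => hK2' ▸ ⟨(x : H), ⟨x, x.2, rfl⟩, rfl⟩
  have hφ : Function.Surjective φ := by
    rintro ⟨y, hy⟩
    rw [hK2'] at hy
    obtain ⟨_, ⟨x, hx, rfl⟩, rfl⟩ := hy
    exact ⟨⟨x, hx⟩, rfl⟩
  have hq : Cfsg.IsQuasisimple (↥K2 ⧸ Cfsg.pPrimeCore p ↥K2) := by
    let ψ : ↥K →* ↥K2 ⧸ Cfsg.pPrimeCore p ↥K2 := (QuotientGroup.mk' _).comp φ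
    have hψ : Function.Surjective ψ := (QuotientGroup.mk'_surjective _).comp hφ
    have hle : Cfsg.pPrimeCore p ↥K ≤ ψ.ker := by
      intro x hx
      have : φ x ∈ Cfsg.pPrimeCore p ↥K2 :=
        le_pPrimeCore_of_normal (Normal.map (Cfsg.pPrimeCore_normal p ↥K) φ hφ)
          ((coprime_card_pPrimeCore p).coprime_dvd_left (card_map_dvd _ _)) ⟨x, hx, rfl⟩
      exact (QuotientGroup.eq_one_iff _).2 this
    haveI : Nontrivial (↥K2 ⧸ Cfsg.pPrimeCore p ↥K2) := by
      refine QuotientGroup.nontrivial_iff.2 fun htop => ?_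
      have hc : (Nat.card ↥K2).Coprime p := by
        have := coprime_card_pPrimeCore (G := ↥K2) p
        rwa [htop, card_top] at this
      have hbot : K2 = ⊥ := by
        rw [← hgen2, eq_bot_iff, pElements_le_iff]
        intro x hx k hk
        exact orderOf_eq_one_iff.1 (Nat.eq_one_of_dvd_coprimes (Nat.Coprime.pow_right k hc)
          (Subgroup.orderOf_dvd_natCard _ hx) (orderOf_dvd_of_pow_eq_one hk))
      rw [hK2', Subgroup.map_eq_bot_iff, QuotientGroup.ker_mk'] at hbot
      have h0 : K1 = ⊥ := by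
        rw [← hgen, eq_bot_iff, pElements_le_iff]
        intro x hx k hk
        exact orderOf_eq_one_iff.1 (Nat.eq_one_of_dvd_coprimes (Nat.Coprime.pow_right k (coprime_card_pPrimeCore p))
          (Subgroup.orderOf_dvd_natCard _ (hbot hx)) (orderOf_dvd_of_pow_eq_one hk))
      rw [hK1, map_eq_bot_iff_of_injective _ N.subtype_injective] at h0
      exact pComponent_not_le_core hK (h0.le.trans bot_le)
    exact quasisimple_of_surjective (pComponent_quotient_quasisimple hK)
      (f := QuotientGroup.lift _ ψ hle) (QuotientGroup.lift_surjective_of_surjective _ _ hψ _)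
  have hlayer : K1.map f ≤ Cfsg.layer (H ⧸ Cfsg.pPrimeCore p H) := by
    rw [← hK2']
    refine hloc K2 (map_subtype_le _) ?_ ?_ hgen2 hq
    · rw [hK2sub]; exact hK.1.map hgs
    · rw [hK2', ← map_commutator, hperf]
  have hle2 : K1 ≤ Cfsg.pLayer p H ⊔ Cfsg.pPrimeCore p H := by
    rw [← pLayer_comap_mk]; exact map_le_iff_le_comap.1 hlayer
  rw [← hgen]
  refine le_trans (pElements_mono hle2) (pElements_le_of_isSubnormal (Normal.isSubnormal inferInstance) ?_)
  rw [sup_comm, relIndex_sup_right]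
  exact (coprime_card_pPrimeCore p).coprime_dvd_left (relIndex_dvd_card _ _)


/-- L-balance for `p = 2`. -/
theorem pLayer_centralizer_two_le {R : Subgroup H} (hR : IsPGroup 2 R) :
    (Cfsg.pLayer 2 ↥(centralizer (R : Set H))).map (centralizer (R : Set H)).subtype ≤
      Cfsg.pLayer 2 H := by
  haveI : Fact (Nat.Prime 2) := ⟨Nat.prime_two⟩
  refine pLayer_map_le_of_local _ (centralizer
    ((R.map (QuotientGroup.mk' (Cfsg.pPrimeCore 2 H)) : Subgroup _) : Set _)) ?_
    fun K h1 h2 h3 h4 h5 => local_le_layer_two pPrimeCore_quotient_self (hR.map _) h1 h2 h3 h4 h5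
  exact (CfsgLib.PLoc.centralizer_map_eq (QuotientGroup.mk'_surjective _)
    (by rw [QuotientGroup.ker_mk']; exact coprime_card_pPrimeCore 2) hR).symm

/-- L-balance for `p = 2`, normalizer form. -/
theorem pLayer_normalizer_two_le {R : Subgroup H} (hR : IsPGroup 2 R) :
    (Cfsg.pLayer 2 ↥(normalizer (R : Set H))).map (normalizer (R : Set H)).subtype ≤
      Cfsg.pLayer 2 H := by
  haveI : Fact (Nat.Prime 2) := ⟨Nat.prime_two⟩
  refine pLayer_map_le_of_local _ (normalizer
    ((R.map (QuotientGroup.mk' (Cfsg.pPrimeCore 2 H)) : Subgroup _) : Set _)) ?_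
    fun K h1 h2 h3 h4 h5 => ?_
  · exact (CfsgLib.PLoc.normalizer_map_eq (QuotientGroup.mk'_surjective _)
      (by rw [QuotientGroup.ker_mk']; exact coprime_card_pPrimeCore 2) hR).symm
  · have hKC := (CfsgLib.Balance.le_centralizer_R_pCore (hR.map _) h1 h2 h3 h5).trans inf_le_left
    refine local_le_layer_two pPrimeCore_quotient_self (hR.map _) hKC ?_ h3 h4 h5
    exact h2.comap (inclusion (centralizer_le_normalizer _))

end CfsgLib.Components
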