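import Cfsg.Agent.Lib.Components.CentralizerTrichotomy
import Cfsg.Agent.Lib.Balance.Orbit

/-!
Standard subgroups of groups with trivial odd core.  The solvability of the groups of odd order
enters as a hypothesis.
-/

set_option autoImplicit false
set_option linter.style.haveILetI false
set_option linter.unusedVariables false
set_option linter.unusedSectionVars false

open scoped commutatorElement
open Subgroup CfsgLib.Components

universe u

namespace CfsgLib.StandardCoreFree

variable {G : Type u} [Group G] [Finite G]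

theorem trichotomy (hFT : ∀ H : Subgroup G, Odd (Nat.card H) → Group.IsSolvable H)
    (A : Subgroup G) (hA : Cfsg.IsStandardSubgroup A) (hO : Cfsg.oddCore G = ⊥) (t : G)
    (ht : orderOf t = 2) (htA : t ∈ Subgroup.centralizer (A : Set G)) :
    A.Normal ∨ (∃ X : Subgroup G, IsSimpleGroup ↥X ∧ ¬ IsMulCommutative ↥X ∧ Nonempty (↥X ≃* ↥A) ∧
      (∀ a ∈ X, ∀ b ∈ X.map (MulAut.conj t).toMonoidHom, a * b = b * a) ∧
      X ⊓ X.map (MulAut.conj t).toMonoidHom = ⊥ ∧
      X ⊔ X.map (MulAut.conj t).toMonoidHom = Cfsg.layer G ∧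
      Subgroup.centralizer (A : Set G) = Subgroup.zpowers t) ∨
    (A ≤ Cfsg.layer G ∧ IsSimpleGroup ↥(Cfsg.layer G) ∧ ¬ IsMulCommutative ↥(Cfsg.layer G)) := by
  haveI : Fact (Nat.Prime 2) := ⟨Nat.prime_two⟩
  obtain ⟨hAq, ⟨-, htight⟩, hnc, hnorm⟩ := hA
  set K := centralizer (A : Set G) with hK
  have hO' : Cfsg.pPrimeCore 2 G = ⊥ := hO
  have ht1 : t ≠ 1 := fun h => by simp [h] at ht
  have htt : t * t = 1 := by rw [← sq, ← ht, pow_orderOf_eq_one]
  have hti : t⁻¹ = t := inv_eq_of_mul_eq_one_right htt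
  -- tight embedding
  have key : ∀ g u : G, orderOf u = 2 → u ∈ K → g * u = u * g → g ∈ normalizer (A : Set G) := by
    intro g u hu huK hgu
    by_contra hg
    rw [hnorm] at hg
    have hodd := htight g hg
    have hmem : u ∈ K ⊓ K.map (MulAut.conj g).toMonoidHom :=
      ⟨huK, ⟨u, huK, show g * u * g⁻¹ = u by rw [hgu, mul_inv_cancel_right]⟩⟩
    have h2 := Subgroup.orderOf_dvd_natCard _ hmem
    rw [hu] at h2
    exact (Nat.not_even_iff_odd.mpr hodd) (even_iff_two_dvd.mpr h2)
  set Ct := centralizer ({t} : Set G) with hCt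
  have hAt : A ≤ Ct := fun a ha => mem_centralizer_singleton_iff.mpr (htA a ha)
  have hCN : Ct ≤ normalizer (A : Set G) :=
    fun g hg => key g t ht htA (mem_centralizer_singleton_iff.mp hg)
  have hAcomp : Cfsg.IsComponent (A.subgroupOf Ct) :=
    ⟨((normal_subgroupOf_iff_le_normalizer hAt).mpr hCN).isSubnormal,
      (quasisimple_congr (subgroupOfEquivOfLe hAt)).mpr hAq⟩
  obtain ⟨D, hD, hcases⟩ := CfsgLib.CentralizerTrichotomy.trichotomy hFT
    (pLayer_eq_layer_of_core_eq_bot hO') t ht A hAt hAcomp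
  have hAperf : ⁅A, A⁆ = A := by
    have h1 := congrArg (Subgroup.map Ct.subtype) (component_commutator_self hAcomp)
    rwa [map_commutator, map_subgroupOf_eq_of_le hAt] at h1
  have hAnab : ¬ A ≤ centralizer (A : Set G) := fun h =>
    quasisimple_not_isMulCommutative hAq ⟨⟨fun x y => Subtype.ext (h y.2 (x : G) x.2)⟩⟩
  have hDperf := component_commutator_self hD
  rcases hcases with rfl | hrest
  · -- `A` is a component of `G`
    left
    refine normal_of_map_conj_le fun g => ?_
    by_contra hle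
    have hne : A.map (MulAut.conj g).toMonoidHom ≠ A := fun h => hle h.le
    exact hnc g hne (component_commutator_of_ne hD (component_map_conj hD g) hne.symm)
  right
  set D' := D.map (MulAut.conj t).toMonoidHom with hD'
  have hD'C : Cfsg.IsComponent D' := component_map_conj hD t
  -- `A` lies in `D ⊔ D'`
  have hAM : A ≤ D ⊔ D' := by
    rcases hrest with ⟨hlt, -⟩ | ⟨-, hAeq⟩
    · exact hlt.le.trans le_sup_left
    · rw [hAeq]; exact (map_subtype_le _).trans inf_le_left
  -- `D` does not normalize `A`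
  have hDN : ¬ D ≤ normalizer (A : Set G) := by
    intro hle
    rcases hrest with ⟨hlt, -⟩ | ⟨hne, hAeq⟩
    · haveI : (A.subgroupOf D).Normal := (normal_subgroupOf_iff_le_normalizer hlt.le).mpr hle
      rcases quasisimple_normal_top_or_central hD.2 (inferInstance : (A.subgroupOf D).Normal) with
        htop | hcen
      · exact hlt.not_ge (subgroupOf_eq_top.mp htop)
      · refine hAnab fun a ha b hb => ?_
        exact congrArg Subtype.val (mem_center_iff.mp
          (hcen (show (⟨a, hlt.le ha⟩ : ↥D) ∈ A.subgroupOf D from ha)) ⟨b, hlt.le hb⟩)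
    · have hDD' : D' ≤ centralizer (D : Set G) :=
        le_centralizer_of_commutator_eq_bot (component_commutator_of_ne hD'C hD hne)
      have hDD'' : D ≤ centralizer (D' : Set G) := le_centralizer_iff.mp hDD'
      have hAN : A ≤ normalizer (D : Set G) := hAM.trans (sup_le le_normalizer
        (hDD'.trans (centralizer_le_normalizer _)))
      have hAt' : ∀ a ∈ A, t * a * t⁻¹ = a := fun a ha => by
        rw [← htA a ha, mul_inv_cancel_right]
      have hsub : ⁅A, D⁆ ≤ D ⊓ centralizer (D : Set G) := by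
        have h1 : ⁅A, D⁆ ≤ D := by
          rw [commutator_comm]; exact CfsgLib.Solvable.commutator_le_of_normalizes hAN
        have h2 : ⁅A, D⁆ ≤ A := CfsgLib.Solvable.commutator_le_of_normalizes hle
        intro x hx
        refine ⟨h1 hx, hDD' ?_⟩
        rw [← hAt' x (h2 hx)]
        exact mem_map_of_mem (MulAut.conj t).toMonoidHom (h1 hx)
      have hAC : A ≤ centralizer (D : Set G) := fun a ha =>
        CfsgLib.Signalizer.CoreSep.mem_centralizer_of_perfect hDperf
          (N := D ⊓ centralizer (D : Set G)) (by rw [le_centralizer_iff]; exact inf_le_right)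
          (hAN ha) fun d hd => hsub (commutator_mem_commutator ha hd)
      have hAC' : A ≤ centralizer (D' : Set G) := fun a ha y hy => by
        obtain ⟨d, hd, rfl⟩ := hy
        show t * d * t⁻¹ * a = a * (t * d * t⁻¹)
        have h := congrArg (fun z => t * z * t⁻¹) (hAC ha d hd)
        simp only [← conj_mul, hAt' a ha] at h
        exact h
      refine hAnab (le_centralizer_iff.mp (hAM.trans (sup_le ?_ ?_)))
      · exact le_centralizer_iff.mp hAC
      · exact le_centralizer_iff.mp hAC'
  -- nothing of even order centralizes `A` and `D`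
  have hno : ∀ u : G, orderOf u = 2 → u ∈ K → u ∈ centralizer (D : Set G) → False :=
    fun u hu huK huD => hDN fun g hg => key g u hu huK (huD g hg)
  have hsimple : ∀ z ∈ D, z ∈ centralizer (D : Set G) → z ∈ centralizer (D' : Set G) → z = 1 := by
    intro z hzD hzC hzC'
    have hz2 : z ∈ Cfsg.pCore 2 G := CfsgLib.Balance.center_le_pCore hO' hD.1 ⟨hzD, hzC⟩
    obtain ⟨k, hk⟩ := isPGroup_pCore (G := G) 2 ⟨z, hz2⟩
    by_contra hz1
    have hz' : z ^ 2 ^ k = 1 := congrArg Subtype.val hk
    have hdvd : 2 ∣ orderOf z := by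
      obtain ⟨j, -, hj⟩ := (Nat.dvd_prime_pow Nat.prime_two).mp (orderOf_dvd_of_pow_eq_one hz')
      rcases Nat.eq_zero_or_pos j with rfl | hpos
      · exact absurd (orderOf_eq_one_iff.mp (by simpa using hj)) hz1
      · exact hj ▸ dvd_pow_self 2 hpos.ne'
    set u := z ^ (orderOf z / 2) with hu
    have huo : orderOf u = 2 := orderOf_pow_orderOf_div (orderOf_pos z).ne' hdvd
    have hzK : z ∈ K := fun a ha => by
      have hMz : D ⊔ D' ≤ centralizer ({z} : Set G) := sup_le
        (fun x hx => mem_centralizer_singleton_iff.mpr (hzC x hx))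
        (fun x hx => mem_centralizer_singleton_iff.mpr (hzC' x hx))
      exact mem_centralizer_singleton_iff.mp (hMz (hAM ha))
    exact hno u huo (pow_mem hzK _) (pow_mem hzC _)
  -- every component is `D` or `D'`
  have hlayer : Cfsg.layer G = D ⊔ D' := by
    refine le_antisymm (sSup_le fun E hE => ?_)
      (sup_le (component_le_layer hD) (component_le_layer hD'C))
    by_cases e1 : E = D
    · exact e1 ▸ le_sup_left
    by_cases e2 : E = D'
    · exact e2 ▸ le_sup_right
    exfalso
    have hED : E ≤ centralizer (D : Set G) :=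
      le_centralizer_of_commutator_eq_bot (component_commutator_of_ne hE hD e1)
    have hED' : E ≤ centralizer (D' : Set G) :=
      le_centralizer_of_commutator_eq_bot (component_commutator_of_ne hE hD'C e2)
    obtain ⟨⟨u, huE⟩, hu⟩ := exists_prime_orderOf_dvd_card' (G := ↥E) 2
      (dvd_card_of_component_of_core_eq_bot hO' hE)
    rw [orderOf_mk] at hu
    refine hno u hu (fun a ha => ?_) (hED huE)
    have hMu : D ⊔ D' ≤ centralizer ({u} : Set G) := sup_le
      (fun x hx => mem_centralizer_singleton_iff.mpr (hED huE x hx))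
      (fun x hx => mem_centralizer_singleton_iff.mpr (hED' huE x hx))
    exact mem_centralizer_singleton_iff.mp (hMu (hAM ha))
  have hDnab : ¬ IsMulCommutative ↥D := quasisimple_not_isMulCommutative hD.2
  by_cases hfix : D' = D
  · -- `D` is the layer
    right
    have hle : Cfsg.layer G = D := by rw [hlayer, hfix, sup_idem]
    refine ⟨?_, ?_, ?_⟩
    · exact (hAM.trans_eq hlayer.symm)
    · rw [hle]
      have hbot : center ↥D = ⊥ := by
        rw [eq_bot_iff]
        intro z hz
        refine mem_bot.mpr (Subtype.ext ?_)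
        have hzC : (z : G) ∈ centralizer (D : Set G) := fun y hy =>
          congrArg Subtype.val (mem_center_iff.mp hz ⟨y, hy⟩)
        exact hsimple _ z.2 hzC (by rw [hfix]; exact hzC)
      haveI := hD.2.2
      haveI : Nontrivial ↥D := quasisimple_nontrivial hD.2
      exact IsSimpleGroup.isSimpleGroup_of_surjective (G := ↥D ⧸ center ↥D)
        ((QuotientGroup.quotientMulEquivOfEq hbot).trans QuotientGroup.quotientBot).toMonoidHom
        ((QuotientGroup.quotientMulEquivOfEq hbot).trans QuotientGroup.quotientBot).surjective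
    · rw [hle]; exact hDnab
  left
  have hDD' : D' ≤ centralizer (D : Set G) :=
    le_centralizer_of_commutator_eq_bot (component_commutator_of_ne hD'C hD hfix)
  have hcm : ∀ a ∈ D, ∀ b ∈ D', Commute a b := fun a ha b hb => hDD' hb a ha
  have hinf : D ⊓ D' = ⊥ := by
    rw [eq_bot_iff]
    rintro z ⟨hzD, hzD'⟩
    exact mem_bot.mpr (hsimple z hzD (hDD' hzD') ((le_centralizer_iff.mp hDD') hzD))
  have hbot : center ↥D = ⊥ := by
    rw [eq_bot_iff]
    intro z hz
    refine mem_bot.mpr (Subtype.ext ?_)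
    exact hsimple _ z.2 (fun y hy => congrArg Subtype.val (mem_center_iff.mp hz ⟨y, hy⟩))
      ((le_centralizer_iff.mp hDD') z.2)
  have hDsimple : IsSimpleGroup ↥D := by
    haveI := hD.2.2
    haveI : Nontrivial ↥D := quasisimple_nontrivial hD.2
    exact IsSimpleGroup.isSimpleGroup_of_surjective (G := ↥D ⧸ center ↥D)
      ((QuotientGroup.quotientMulEquivOfEq hbot).trans QuotientGroup.quotientBot).toMonoidHom
      ((QuotientGroup.quotientMulEquivOfEq hbot).trans QuotientGroup.quotientBot).surjective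
  -- the diagonal
  obtain ⟨-, hAeq⟩ : D' ≠ D ∧ A = _ := by
    rcases hrest with ⟨hlt, heq⟩ | h
    · exfalso
      apply hfix
      have htN : zpowers t ≤ normalizer (D : Set G) := by
        rw [heq]; exact CfsgLib.Solvable.le_normalizer_commutator_right D _
      exact mem_normalizer_iff_map_conj_eq.mp (htN (mem_zpowers t))
    · exact h
  have hmem' : ∀ a ∈ D, t * a * t⁻¹ ∈ D' := fun a ha => ⟨a, ha, rfl⟩
  let φ : ↥D →* G :=
    { toFun := fun d => (d : G) * (t * d * t⁻¹)
      map_one' := by simp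
      map_mul' := fun a b => by
        show (a : G) * b * (t * (a * b) * t⁻¹) = (a : G) * (t * a * t⁻¹) * (b * (t * b * t⁻¹))
        have k := (hcm b b.2 _ (hmem' a a.2)).eq
        calc (a : G) * b * (t * (a * b) * t⁻¹)
            = a * ((b : G) * (t * a * t⁻¹)) * (t * b * t⁻¹) := by group
          _ = (a : G) * (t * a * t⁻¹) * (b * (t * b * t⁻¹)) := by rw [k]; group }
  have huniq : ∀ x ∈ D, ∀ y ∈ D', ∀ x' ∈ D, ∀ y' ∈ D', x * y = x' * y' → x = x' := by
    intro x hx y hy x' hx' y' hy' h
    have e : x'⁻¹ * x = y' * y⁻¹ := by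
      rw [eq_mul_inv_iff_mul_eq, mul_assoc, h, inv_mul_cancel_left]
    have hm : x'⁻¹ * x ∈ D ⊓ D' :=
      ⟨D.mul_mem (D.inv_mem hx') hx, e ▸ D'.mul_mem hy' (D'.inv_mem hy)⟩
    rw [hinf, mem_bot, inv_mul_eq_one] at hm
    exact hm.symm
  have hfixmem : ∀ d : ↥D, φ d ∈ (D ⊔ D') ⊓ Ct := fun d => by
    refine ⟨mul_mem (mem_sup_left d.2) (mem_sup_right (hmem' d d.2)),
      mem_centralizer_singleton_iff.mpr ?_⟩
    show (d : G) * (t * d * t⁻¹) * t = t * ((d : G) * (t * d * t⁻¹))
    have k := (hcm d d.2 _ (hmem' d d.2)).eq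
    have e1 : (d : G) * (t * d * t⁻¹) * t = d * t * d := by group
    have e2 : t * ((t * (d : G) * t⁻¹) * d) = d * t * d := by
      rw [← mul_assoc, ← mul_assoc, ← mul_assoc, htt, one_mul, hti]
    rw [e1, k, e2]
  have hdiag : ∀ m ∈ (D ⊔ D') ⊓ Ct, ∃ d : ↥D, φ d = m := by
    intro m hm
    obtain ⟨d', hd', d, hd, rfl⟩ := (CfsgLib.Solvable.mem_sup_of_le_normalizer
      (show D ≤ normalizer (D' : Set G) from
        (le_centralizer_iff.mp hDD').trans (centralizer_le_normalizer _))).mp (sup_comm D D' ▸ hm.1)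
    refine ⟨⟨d, hd⟩, ?_⟩
    have hfx : t * (d' * d) * t⁻¹ = d' * d := by
      rw [← mem_centralizer_singleton_iff.mp hm.2, mul_inv_cancel_right]
    have hd'' : t * d' * t⁻¹ ∈ D := by
      obtain ⟨e, he, rfl⟩ := hd'
      rw [show t * (MulAut.conj t).toMonoidHom e * t⁻¹ = (t * t) * e * (t * t)⁻¹ by
        show t * (t * e * t⁻¹) * t⁻¹ = _; group, htt, one_mul, inv_one, mul_one]
      exact he
    have h1 : t * d' * t⁻¹ = d := huniq _ hd'' (t * d * t⁻¹) (hmem' d hd) d hd d' hd' (by
      calc t * d' * t⁻¹ * (t * d * t⁻¹) = t * (d' * d) * t⁻¹ := by group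
        _ = d' * d := hfx
        _ = d * d' := (hcm d hd d' hd').eq.symm)
    have h2 : t * d * t⁻¹ = d' := by
      rw [← h1]
      calc t * (t * d' * t⁻¹) * t⁻¹ = (t * t) * d' * (t * t)⁻¹ := by group
        _ = d' := by rw [htt, one_mul, inv_one, mul_one]
    show d * (t * d * t⁻¹) = d' * d
    rw [h2]
    exact (hcm d hd d' hd').eq
  have hAimg : A = φ.range := by
    have hC : (D ⊔ D') ⊓ Ct = φ.range :=
      le_antisymm (fun m hm => MonoidHom.mem_range.mpr (hdiag m hm))
        (fun m ⟨d, hd⟩ => hd ▸ hfixmem d)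
    have hle : A ≤ φ.range := hC ▸ le_inf hAM hAt
    refine le_antisymm hle ?_
    have hperf : ⁅φ.range, φ.range⁆ = φ.range := by
      rw [MonoidHom.range_eq_map, ← map_commutator, ← _root_.commutator_def,
        (quasisimple_isPerfect hD.2).commutator_eq_top]
    have hr : Cfsg.IsComponent (φ.range.subgroupOf ((D ⊔ D') ⊓ Ct)) := by
      rw [hC, subgroupOf_self]
      refine ⟨IsSubnormal.top, (quasisimple_congr topEquiv).mpr ?_⟩
      haveI : Nontrivial ↥D := quasisimple_nontrivial hD.2
      haveI : Nontrivial ↥φ.range := by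
        obtain ⟨a, b, hab⟩ := exists_pair_ne ↥D
        refine ⟨φ.rangeRestrict a, φ.rangeRestrict b, fun h => hab (Subtype.ext ?_)⟩
        exact huniq _ a.2 _ (hmem' a a.2) _ b.2 _ (hmem' b b.2) (congrArg Subtype.val h)
      exact quasisimple_of_surjective hD.2 φ.rangeRestrict_surjective
    have h1 : (φ.range.subgroupOf ((D ⊔ D') ⊓ Ct)).map ((D ⊔ D') ⊓ Ct).subtype ≤
        (Cfsg.layer ↥((D ⊔ D') ⊓ Ct)).map ((D ⊔ D') ⊓ Ct).subtype := map_mono (component_le_layer hr)
    rw [map_subgroupOf_eq_of_le hC.ge, ← hAeq] at h1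
    exact h1
  have hφinj : Function.Injective φ := fun a b h =>
    Subtype.ext (huniq _ a.2 _ (hmem' a a.2) _ b.2 _ (hmem' b b.2) h)
  have hcent : centralizer (Cfsg.layer G : Set G) = ⊥ := by
    haveI : (centralizer (Cfsg.layer G : Set G)).Normal := Subgroup.normal_centralizer
    refine le_bot_iff.mp (hO' ▸ le_pPrimeCore_of_normal inferInstance ?_)
    by_contra hd
    have hd2 : 2 ∣ Nat.card ↥(centralizer (Cfsg.layer G : Set G)) := by
      by_contra h2
      exact hd ((Nat.Prime.coprime_iff_not_dvd Nat.prime_two).mpr h2).symm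
    obtain ⟨⟨u, huC⟩, hu⟩ := exists_prime_orderOf_dvd_card' 2 hd2
    rw [orderOf_mk] at hu
    rw [hlayer] at huC
    exact hno u hu (fun a ha => huC a (hAM ha))
      (fun d hd => huC d (mem_sup_left hd))
  refine ⟨D, hDsimple, hDnab, ⟨(MonoidHom.ofInjective hφinj).trans
      (MulEquiv.subgroupCongr hAimg.symm)⟩, fun a ha b hb => (hcm a ha b hb).eq, hinf, hlayer.symm,
    le_antisymm ?_ (zpowers_le.mpr htA)⟩
  have hfixk : ∀ k ∈ K, k ∈ normalizer (D : Set G) → k = 1 := by
    intro k hk hkN
    rw [← mem_bot, ← hcent, hlayer]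
    have hφk : ∀ d : ↥D, k * φ d * k⁻¹ = φ d := fun d => by
      rw [← hk (φ d) (hAimg ▸ ⟨d, rfl⟩), mul_inv_cancel_right]
    have hkD' : k ∈ normalizer (D' : Set G) := by
      have himg : Cfsg.IsComponent (D'.map (MulAut.conj k).toMonoidHom) := component_map_conj hD'C k
      have hS : ∀ E ∈ ({D, D'} : Set (Subgroup G)), Cfsg.IsComponent E := by
        rintro E (rfl | rfl)
        · exact hD
        · exact hD'C
      rcases component_mem_of_le_sSup himg hS (by
        rw [sSup_pair, ← hlayer]; exact component_le_layer himg) with h | h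
      · exfalso
        apply hfix
        have hD1 : D.map (MulAut.conj k).toMonoidHom = D := mem_normalizer_iff_map_conj_eq.mp hkN
        exact map_injective (MulAut.conj k).injective (h.trans hD1.symm)
      · exact mem_normalizer_iff_map_conj_eq.mpr h
    have hd : ∀ d ∈ D, k * d * k⁻¹ = d := fun d hd => by
      have e := hφk ⟨d, hd⟩
      refine huniq _ ((mem_normalizer_iff.mp hkN d).mp hd) _
        ((mem_normalizer_iff.mp hkD' _).mp (hmem' d hd)) d hd _ (hmem' d hd) ?_
      refine Eq.trans ?_ e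
      show k * d * k⁻¹ * (k * (t * d * t⁻¹) * k⁻¹) = k * (d * (t * d * t⁻¹)) * k⁻¹
      group
    have hd' : ∀ d ∈ D, k * (t * d * t⁻¹) * k⁻¹ = t * d * t⁻¹ := fun d hd0 => by
      have e := hφk ⟨d, hd0⟩
      change k * (d * (t * d * t⁻¹)) * k⁻¹ = d * (t * d * t⁻¹) at e
      rw [← conj_mul, hd d hd0] at e
      exact mul_left_cancel e
    have hMk : D ⊔ D' ≤ centralizer ({k} : Set G) := sup_le
      (fun x hx => mem_centralizer_singleton_iff.mpr (mul_inv_eq_iff_eq_mul.mp (hd x hx)).symm)
      (by
        rintro _ ⟨x, hx, rfl⟩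
        exact mem_centralizer_singleton_iff.mpr (mul_inv_eq_iff_eq_mul.mp (hd' x hx)).symm)
    intro x hx
    exact mem_centralizer_singleton_iff.mp (hMk hx)
  intro k hk
  have hS : ∀ E ∈ ({D, D'} : Set (Subgroup G)), Cfsg.IsComponent E := by
    rintro E (rfl | rfl)
    · exact hD
    · exact hD'C
  rcases component_mem_of_le_sSup (component_map_conj hD k) hS (by
    rw [sSup_pair, ← hlayer]; exact component_le_layer (component_map_conj hD k)) with h | h
  · rw [hfixk k hk (mem_normalizer_iff_map_conj_eq.mpr h)]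
    exact one_mem _
  · have hk' : t * k ∈ normalizer (D : Set G) := by
      rw [mem_normalizer_iff_map_conj_eq]
      show D.map (MulAut.conj (t * k)).toMonoidHom = D
      rw [← CfsgLib.Balance.map_conj_conj, h, hD', CfsgLib.Balance.map_conj_conj, htt,
        CfsgLib.Balance.map_conj_one]
    have e := hfixk (t * k) (mul_mem htA hk) hk'
    rw [mul_eq_one_iff_eq_inv] at e
    rw [show k = t⁻¹ by rw [e, inv_inv]]
    exact inv_mem (mem_zpowers t)

end CfsgLib.StandardCoreFree
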