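import Cfsg.Agent.Lib.Components.WeaklyClosed
import Cfsg.Agent.Lib.Components.PLayer

/-!
The centralizer of a Sylow 2-subgroup of a normal subgroup with trivial core.
-/

set_option autoImplicit false
set_option linter.style.haveILetI false
set_option linter.unusedVariables false
set_option linter.unusedSectionVars false

open Subgroup
open scoped commutatorElement

namespace CfsgLib.Components

universe u

variable {H : Type u} [Group H] [Finite H]

/-- The commutator of two elements centralizing `S` acts trivially, modulo odd order, on the local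
data of `E` at a subgroup `S₀ ≤ S`. -/
theorem exists_odd_pow_eq_one (E : Subgroup H) [E.Normal] {S₀ : Subgroup H} {x q : H}
    (hx : x ∈ centralizer (S₀ : Set H)) (hq : q ∈ centralizer (S₀ : Set H))
    (hS₀ : ∀ c ∈ E, c ∈ centralizer (S₀ : Set H) → ∀ j : ℕ, c ^ 2 ^ j = 1 → c ∈ S₀)
    {g : H} (hgE : g ∈ E) (hgS : g ∈ normalizer (S₀ : Set H)) :
    ∃ k, Odd k ∧ (g⁻¹ * (q * x * q⁻¹ * x⁻¹) * g * (q * x * q⁻¹ * x⁻¹)⁻¹) ^ k = 1 := by
  set C := E ⊓ centralizer (S₀ : Set H) with hC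
  obtain ⟨k, hk, h2, hmul⟩ := exists_odd_powHom (C := C) fun c hc j hj d hd =>
    (hd.2 c (hS₀ c hc.1 hc.2 j hj)).symm
  refine ⟨k, hk, ?_⟩
  have hdC : ∀ u ∈ centralizer (S₀ : Set H), g⁻¹ * u * g * u⁻¹ ∈ C := by
    intro u hu
    refine ⟨?_, fun s hs => ?_⟩
    · rw [show g⁻¹ * u * g * u⁻¹ = g⁻¹ * (u * g * u⁻¹) by group]
      exact E.mul_mem (E.inv_mem hgE) ((inferInstance : E.Normal).conj_mem g hgE u)
    · have h1 : Commute s (g⁻¹ * u * g) := by
        have h := hu (g * s * g⁻¹) ((mem_normalizer_iff.mp hgS s).mp hs)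
        show s * (g⁻¹ * u * g) = g⁻¹ * u * g * s
        calc s * (g⁻¹ * u * g) = g⁻¹ * ((g * s * g⁻¹) * u) * g := by group
          _ = g⁻¹ * (u * (g * s * g⁻¹)) * g := by rw [h]
          _ = _ := by group
      exact (h1.mul_right (show Commute s u from hu s hs).inv_right).eq
  have hfixed : ∀ u ∈ centralizer (S₀ : Set H), ∀ a ∈ C, u * a ^ k * u⁻¹ = a ^ k := by
    intro u hu a ha
    obtain ⟨j, hj⟩ := h2 a ha
    have hs : a ^ k ∈ S₀ := hS₀ _ (pow_mem ha.1 k) (pow_mem ha.2 k) j hj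
    rw [mul_inv_eq_iff_eq_mul]
    exact (hu _ hs).symm
  have hcen : ∀ a ∈ C, ∀ b ∈ C, a * b ^ k * a⁻¹ = b ^ k := fun a ha b hb =>
    hfixed a ha.2 b hb
  set x' := q * x * q⁻¹ with hx'
  set d := g⁻¹ * x * g * x⁻¹ with hd
  set d' := g⁻¹ * x' * g * x'⁻¹ with hd'
  have hdm : d ∈ C := hdC x hx
  have hdm' : d' ∈ C := hdC x' (mul_mem (mul_mem hq hx) (inv_mem hq))
  set c := g⁻¹ * q⁻¹ * g * q with hc
  have hcm : c ∈ C := by
    have := hdC q⁻¹ (inv_mem hq)
    rwa [inv_inv] at this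
  have hxC : ∀ a ∈ C, x * a * x⁻¹ ∈ C := fun a ha =>
    ⟨(inferInstance : E.Normal).conj_mem a ha.1 x, (centralizer (S₀ : Set H)).mul_mem
      ((centralizer (S₀ : Set H)).mul_mem hx ha.2) ((centralizer (S₀ : Set H)).inv_mem hx)⟩
  -- the two cocycles agree
  have hkey : d' ^ k = d ^ k := by
    have h1 : d' = q * (c⁻¹ * d * (x * c * x⁻¹)) * q⁻¹ := by
      rw [hd', hx', hd, hc]; group
    have hin : c⁻¹ * d * (x * c * x⁻¹) ∈ C := mul_mem (mul_mem (inv_mem hcm) hdm) (hxC c hcm)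
    calc d' ^ k = q * (c⁻¹ * d * (x * c * x⁻¹)) ^ k * q⁻¹ := by rw [h1, conj_pow]
      _ = (c⁻¹ * d * (x * c * x⁻¹)) ^ k := hfixed q hq _ hin
      _ = (c ^ k)⁻¹ * d ^ k * (x * c ^ k * x⁻¹) := by
        rw [hmul _ (mul_mem (inv_mem hcm) hdm) _ (hxC c hcm), hmul _ (inv_mem hcm) _ hdm, inv_pow,
          conj_pow]
      _ = (c ^ k)⁻¹ * (d ^ k * c ^ k * (d ^ k)⁻¹) * d ^ k := by rw [hfixed x hx c hcm]; group
      _ = d ^ k := by rw [hcen _ (pow_mem hdm k) c hcm]; group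
  set y := q * x * q⁻¹ * x⁻¹ with hy
  have hyC : y ∈ centralizer (S₀ : Set H) :=
    mul_mem (mul_mem (mul_mem hq hx) (inv_mem hq)) (inv_mem hx)
  have hfin : g⁻¹ * y * g * y⁻¹ = d' * (y * d⁻¹ * y⁻¹) := by
    rw [hd', hd, hy, hx']; group
  have hin' : y * d⁻¹ * y⁻¹ ∈ C := ⟨(inferInstance : E.Normal).conj_mem _ (inv_mem hdm.1) y,
    (centralizer (S₀ : Set H)).mul_mem ((centralizer (S₀ : Set H)).mul_mem hyC
      ((centralizer (S₀ : Set H)).inv_mem hdm.2)) ((centralizer (S₀ : Set H)).inv_mem hyC)⟩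
  rw [hfin, hmul _ hdm' _ hin', conj_pow, hfixed y hyC _ (inv_mem hdm), hkey, inv_pow, mul_inv_cancel]

/-- A commutator of two elements centralizing a Sylow 2-subgroup of `E` that is a 2-element
centralizes `E`, when `O_{2'}(E) = 1`. -/
theorem commutator_mem_centralizer (E : Subgroup H) [E.Normal]
    (hEO : Cfsg.pPrimeCore 2 E = ⊥) {S : Subgroup H} (hSE : S ≤ E) (hS : IsPGroup 2 S)
    (hidx : ¬ 2 ∣ S.relIndex E) {x q : H} (hx : x ∈ centralizer (S : Set H))
    (hq : q ∈ centralizer (S : Set H)) {j : ℕ} (hj : (q * x * q⁻¹ * x⁻¹) ^ 2 ^ j = 1) :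
    q * x * q⁻¹ * x⁻¹ ∈ centralizer (E : Set H) := by
  haveI : Fact (Nat.Prime 2) := ⟨Nat.prime_two⟩
  set y := q * x * q⁻¹ * x⁻¹ with hy
  have hyS : y ∈ centralizer (S : Set H) :=
    mul_mem (mul_mem (mul_mem hq hx) (inv_mem hq)) (inv_mem hx)
  set G₁ := E ⊔ zpowers y with hG₁
  set E₁ := E.subgroupOf G₁ with hE₁
  haveI : E₁.Normal := Normal.subgroupOf inferInstance G₁
  set y₁ : G₁ := ⟨y, mem_sup_right (mem_zpowers y)⟩ with hy₁
  have hY : zpowers y ≤ normalizer (E : Set H) := by rw [normalizer_eq_top]; exact le_top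
  -- a Sylow subgroup containing `S` and `y`
  have hSY : IsPGroup 2 ↥(S ⊔ zpowers y) := IsPGroup.to_sup_of_normal_left' hS
    (isPGroup_zpowers_of_pow hj) (zpowers_le.mpr (mem_normalizer_of_conj_le fun s hs => by
      rw [← hyS s hs, mul_inv_cancel_right]; exact hs))
  have hle : S ⊔ zpowers y ≤ G₁ := sup_le_sup_right hSE _
  obtain ⟨T, hT⟩ := (hSY.of_equiv (subgroupOfEquivOfLe hle).symm).exists_le_sylow
  have hyT : y₁ ∈ (T : Subgroup G₁) :=
    hT (mem_subgroupOf.mpr (mem_sup_right (mem_zpowers y)))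
  have hTS : ∀ t ∈ (T : Subgroup G₁), (t : H) ∈ E → (t : H) ∈ S := by
    set V := (T : Subgroup G₁).map G₁.subtype ⊓ E with hV
    have hSV : S ≤ V := le_inf (fun s hs =>
      ⟨⟨s, hle (mem_sup_left hs)⟩, hT (mem_subgroupOf.mpr (mem_sup_left hs)), rfl⟩) hSE
    obtain ⟨i, hi⟩ := IsPGroup.iff_card.mp
      ((T.isPGroup'.map G₁.subtype).to_le (inf_le_left : V ≤ _))
    have h1 : S.relIndex V = 1 := by
      have hd1 : S.relIndex V ∣ 2 ^ i := hi ▸ relIndex_dvd_card S V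
      have hd2 : S.relIndex V ∣ S.relIndex E :=
        Dvd.intro _ (relIndex_mul_relIndex S V E hSV inf_le_right)
      obtain ⟨l, -, hl⟩ := (Nat.dvd_prime_pow Nat.prime_two).mp hd1
      cases l with
      | zero => simpa using hl
      | succ l => exact absurd ((Dvd.intro_left _ (pow_succ 2 l).symm : 2 ∣ 2 ^ (l + 1)).trans
          (hl ▸ hd2)) hidx
    intro t ht htE
    exact relIndex_eq_one.mp h1 ⟨⟨t, ht, rfl⟩, htE⟩
  have hsplit : ∀ g : G₁, ∃ e ∈ E₁, ∃ w ∈ zpowers y₁, e * w = g := by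
    intro g
    obtain ⟨e, he, w, hw, hew⟩ := (CfsgLib.Solvable.mem_sup_of_le_normalizer hY).1 g.2
    obtain ⟨l, hl⟩ := hw
    refine ⟨⟨e, mem_sup_left he⟩, he, y₁ ^ l, ⟨l, rfl⟩, Subtype.ext ?_⟩
    simp only [Subgroup.coe_mul, SubgroupClass.coe_zpow]
    rw [← hew, ← hl]
  have hcyT : ∀ t ∈ (T : Subgroup G₁), t * y₁ = y₁ * t := by
    intro t ht
    obtain ⟨e, he, w, hw, rfl⟩ := hsplit t
    have hw' : w ∈ (T : Subgroup G₁) := zpowers_le.mpr hyT hw
    have heT : e ∈ (T : Subgroup G₁) := by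
      have := (T : Subgroup G₁).mul_mem ht ((T : Subgroup G₁).inv_mem hw')
      rwa [mul_inv_cancel_right] at this
    have h1 : Commute e y₁ := Subtype.ext (hyS _ (hTS e heT he))
    have h2 : Commute w y₁ := by
      obtain ⟨l, rfl⟩ := hw
      exact (Commute.refl y₁).zpow_left l
    exact (h1.mul_left h2).eq
  have hd : ∀ S₀ : Subgroup G₁, S₀ ≤ (T : Subgroup G₁) ⊓ E₁ →
      (∀ c ∈ E₁, c ∈ centralizer (S₀ : Set G₁) → ∀ i : ℕ, c ^ 2 ^ i = 1 → c ∈ S₀) →
      ∀ e ∈ E₁, e ∈ normalizer (S₀ : Set G₁) →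
        ∃ k, Odd k ∧ (e⁻¹ * y₁ * e * y₁⁻¹) ^ k = 1 := by
    intro S₀ hS₀ hc e he hen
    have hS₀S : S₀.map G₁.subtype ≤ S := by
      rintro _ ⟨s, hs, rfl⟩
      exact hTS s (hS₀ hs).1 (hS₀ hs).2
    obtain ⟨k, hk, h⟩ := exists_odd_pow_eq_one E (S₀ := S₀.map G₁.subtype)
      (centralizer_le hS₀S hx) (centralizer_le hS₀S hq)
      (fun c hcE hcS i hi => by
        have hcS' : (⟨c, mem_sup_left hcE⟩ : G₁) ∈ centralizer (S₀ : Set G₁) := fun s hs =>
          Subtype.ext (hcS _ ⟨s, hs, rfl⟩)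
        exact ⟨_, hc ⟨c, mem_sup_left hcE⟩ hcE hcS' i (Subtype.ext (by simpa using hi)), rfl⟩)
      (he : (e : H) ∈ E) (le_normalizer_map G₁.subtype ⟨e, hen, rfl⟩)
    refine ⟨k, hk, Subtype.ext ?_⟩
    simp only [SubmonoidClass.coe_pow, Subgroup.coe_mul, InvMemClass.coe_inv, OneMemClass.coe_one]
    exact h
  have hsup : E₁ ⊔ zpowers y₁ = ⊤ := by
    rw [eq_top_iff]
    intro g _
    obtain ⟨e, he, w, hw, rfl⟩ := hsplit g
    exact mul_mem_sup he hw
  have hTle : (T : Subgroup G₁) ≤ ((T : Subgroup G₁) ⊓ E₁) ⊔ zpowers y₁ := by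
    intro t ht
    obtain ⟨e, he, w, hw, rfl⟩ := hsplit t
    refine mul_mem_sup ⟨?_, he⟩ hw
    have := (T : Subgroup G₁).mul_mem ht ((T : Subgroup G₁).inv_mem (zpowers_le.mpr hyT hw))
    rwa [mul_inv_cancel_right] at this
  have hzs := weaklyClosed_central_mod_core (orderOf y₁) G₁ T y₁ rfl hyT
    (fun g hg => weaklyClosed_of_local E₁ T hyT hcyT hTle hsup hd g hg)
  -- the commutators lie in the core of `E`
  intro e he
  set O' := (Cfsg.pPrimeCore 2 G₁).map G₁.subtype ⊓ E with hO'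
  have hO'n : (O'.subgroupOf E).Normal := normal_subgroupOf_of_le_normalizer fun e he =>
    inf_normalizer_le_normalizer_inf ⟨le_normalizer_map G₁.subtype
      ⟨⟨e, mem_sup_left he⟩, by rw [normalizer_eq_top]; trivial, rfl⟩,
      le_normalizer he⟩
  have hO'c : (Nat.card ↥(O'.subgroupOf E)).Coprime 2 := by
    rw [Nat.card_congr (subgroupOfEquivOfLe (inf_le_right : O' ≤ E)).toEquiv]
    refine (coprime_card_pPrimeCore (G := G₁) 2).coprime_dvd_left ?_
    rw [← card_map_of_injective G₁.subtype_injective]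
    exact card_dvd_of_le inf_le_left
  have hbot : O'.subgroupOf E = ⊥ :=
    le_bot_iff.mp ((le_pPrimeCore_of_normal hO'n hO'c).trans hEO.le)
  have hmem : y * e * y⁻¹ * e⁻¹ ∈ O' :=
    ⟨⟨_, hzs ⟨e, mem_sup_left he⟩, rfl⟩,
      E.mul_mem ((inferInstance : E.Normal).conj_mem e he y) (E.inv_mem he)⟩
  have h1 : y * e * y⁻¹ * e⁻¹ = 1 := by
    have h := (eq_bot_iff_forall _).mp hbot ⟨_, hmem.2⟩ (mem_subgroupOf.mpr hmem)
    exact congrArg Subtype.val h
  rw [mul_inv_eq_one, mul_inv_eq_iff_eq_mul] at h1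
  exact h1.symm

/-- A perfect subgroup generated by 2-elements centralizing a Sylow 2-subgroup of `E` centralizes
`E`, when `O_{2'}(E) = 1`. -/
theorem le_centralizer_of_sylow_centralized (E : Subgroup H) [E.Normal]
    (hEO : Cfsg.pPrimeCore 2 E = ⊥) {S : Subgroup H} (hSE : S ≤ E) (hS : IsPGroup 2 S)
    (hidx : ¬ 2 ∣ S.relIndex E) {W : Subgroup H} (hW : W ≤ centralizer (S : Set H))
    (hperf : ⁅W, W⁆ = W) (hgen : pElements 2 W = W) : W ≤ centralizer (E : Set H) := by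
  haveI : Fact (Nat.Prime 2) := ⟨Nat.prime_two⟩
  set C := (centralizer (E : Set H)).subgroupOf W with hC
  haveI hCn : C.Normal := normal_subgroupOf_of_le_normalizer (le_top.trans (le_of_eq
    (normalizer_eq_top (H := centralizer (E : Set H))).symm))
  set f := QuotientGroup.mk' C with hf
  have hfs : Function.Surjective f := QuotientGroup.mk'_surjective C
  haveI : Group.IsPerfect ↥W := Subgroup.isPerfect_iff.2 hperf
  haveI : Group.IsPerfect (↥W ⧸ C) := Group.IsPerfect.ofSurjective hfs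
  obtain ⟨Q⟩ : Nonempty (Sylow 2 W) := inferInstance
  set P := Q.mapSurjective hfs with hP
  have hPeq : (P : Subgroup (↥W ⧸ C)) = (Q : Subgroup W).map f := Sylow.coe_mapSurjective _ _
  -- a commutator with an element of `Q` that is a 2-element is trivial modulo `C`
  have hkill : ∀ (n x : W) (j : ℕ), ((n * x * n⁻¹ * x⁻¹ : W) : H) ^ 2 ^ j = 1 →
      f (n * x * n⁻¹ * x⁻¹) = 1 := fun n x j hj =>
    (QuotientGroup.eq_one_iff _).mpr (mem_subgroupOf.mpr
      (by simpa using commutator_mem_centralizer E hEO hSE hS hidx (hW x.2) (hW n.2) (by simpa using hj)))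
  have hcomm : ∀ n : W, n ∈ normalizer ((Q : Subgroup W) : Set W) → ∀ x ∈ (Q : Subgroup W),
      f n * f x = f x * f n := by
    intro n hn x hx
    obtain ⟨j, hj⟩ := twoElement_of_mem Q.isPGroup'
      (mul_mem ((mem_normalizer_iff.mp hn x).mp hx) (inv_mem hx))
    have h := hkill n x j (by simpa using congrArg Subtype.val hj)
    rwa [map_mul, map_mul, map_mul, map_inv, map_inv, mul_inv_eq_one, mul_inv_eq_iff_eq_mul] at h
  have habel : ∀ a ∈ (P : Subgroup (↥W ⧸ C)), ∀ b ∈ (P : Subgroup (↥W ⧸ C)), a * b = b * a := by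
    rw [hPeq]
    rintro _ ⟨a, ha, rfl⟩ _ ⟨b, hb, rfl⟩
    exact hcomm a (le_normalizer ha) b hb
  haveI : IsMulCommutative ↥(P : Subgroup (↥W ⧸ C)) :=
    ⟨⟨fun a b => Subtype.ext (habel a a.2 b b.2)⟩⟩
  have hcen : normalizer ((P : Subgroup (↥W ⧸ C)) : Set (↥W ⧸ C)) ≤
      centralizer ((P : Subgroup (↥W ⧸ C)) : Set (↥W ⧸ C)) := by
    intro nb hnb
    obtain ⟨n, rfl⟩ := hfs nb
    have hPN : (Q : Subgroup W) ≤ normalizer (C : Set W) := by rw [normalizer_eq_top]; exact le_top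
    obtain ⟨w, hw, hwc⟩ := CfsgLib.AlperinGroup.exists_conj_mem (p := 2) ((Q : Subgroup W) ⊔ C)
      (Q : Subgroup W) ((Q : Subgroup W).map (MulAut.conj n).toMonoidHom) Q.isPGroup'
      (Q.isPGroup'.map _) le_sup_left
      (by
        rintro _ ⟨r, hr, rfl⟩
        obtain ⟨r', hr', he⟩ : f (n * r * n⁻¹) ∈ (Q : Subgroup W).map f := by
          rw [← hPeq, map_mul, map_mul, map_inv]
          exact (mem_normalizer_iff.mp hnb _).mp (hPeq ▸ mem_map_of_mem f hr)
        have := mul_mem_sup hr' (QuotientGroup.eq.mp he : r'⁻¹ * (n * r * n⁻¹) ∈ C)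
        rwa [mul_inv_cancel_left] at this)
      (fun h => Sylow.not_dvd_index Q (h.trans (relIndex_dvd_index_of_le le_sup_left)))
    have hn' : w⁻¹ * n ∈ normalizer ((Q : Subgroup W) : Set W) :=
      mem_normalizer_of_conj_le fun r hr => by
        have := hwc (n * r * n⁻¹) ⟨r, hr, rfl⟩
        simpa [mul_assoc] using this
    rw [sup_comm] at hw
    obtain ⟨c, hc, r, hr, rfl⟩ := (CfsgLib.Solvable.mem_sup_of_le_normalizer hPN).1 hw
    intro a ha
    rw [hPeq] at ha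
    obtain ⟨x, hx, rfl⟩ := ha
    have h1 : f c = 1 := (QuotientGroup.eq_one_iff c).mpr hc
    have h2 : f n = f r * f ((c * r)⁻¹ * n) := by
      rw [← map_mul, show r * ((c * r)⁻¹ * n) = c⁻¹ * n by group, map_mul, map_inv, h1, inv_one,
        one_mul]
    rw [h2]
    exact ((Commute.mul_left (show Commute (f r) (f x) from hcomm r (le_normalizer hr) x hx)
      (show Commute (f ((c * r)⁻¹ * n)) (f x) from hcomm _ hn' x hx)).eq).symm
  have hker : (MonoidHom.transferSylow P hcen).ker = ⊤ := by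
    rw [eq_top_iff, ← Group.IsPerfect.commutator_eq_top (G := ↥W ⧸ C), _root_.commutator_def,
      commutator_le]
    intro a _ b _
    rw [MonoidHom.mem_ker, map_commutatorElement]
    exact commutatorElement_eq_one_iff_mul_comm.mpr (IsMulCommutative.is_comm.comm _ _)
  have hbot : (P : Subgroup (↥W ⧸ C)) = ⊥ := by
    have := (MonoidHom.ker_transferSylow_isComplement' P hcen).disjoint
    rw [hker] at this
    exact top_disjoint.mp this
  have hodd : ¬ 2 ∣ Nat.card (↥W ⧸ C) := fun hd => P.ne_bot_of_dvd_card hd hbot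
  rw [← hgen, pElements_le_iff]
  intro x hx k hk
  have h1 : f ⟨x, hx⟩ = 1 := by
    refine orderOf_eq_one_iff.mp (Nat.eq_one_of_dvd_coprimes
      ((Nat.prime_two.coprime_iff_not_dvd.mpr hodd).pow_left k) ?_ (_root_.orderOf_dvd_natCard _))
    refine orderOf_dvd_of_pow_eq_one ?_
    rw [← map_pow, show (⟨x, hx⟩ : W) ^ 2 ^ k = 1 from Subtype.ext hk, map_one]
  exact mem_subgroupOf.mp ((QuotientGroup.eq_one_iff _).mp h1)

end CfsgLib.Components
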