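import Cfsg.Prelude.Def_Local
import Cfsg.Agent.Lib.Components.SylowCentralizer
import Cfsg.Agent.Lib.Components.GenFitting
import Cfsg.Agent.Lib.Components.Local
import Cfsg.Agent.Lib.StdForm.Basic
import Cfsg.Agent.Lib.Case.TwoNilpotent

/-!
Standard subgroups whose centralizer has cyclic Sylow 2-subgroups: when some involution of the
centralizer moves a 2-subgroup of the normal closure `X` into `A`, then `X` is semisimple.

The method: with `a` a noncentral involution of `A` such that `a * t` is conjugate to `t` by `r`, the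
four-group generated by `t` and `a` forces `A` to centralize the odd core and a Sylow 2-subgroup of
the layer, so that Glauberman's commutator lemma applies.
-/

set_option autoImplicit false
set_option linter.unusedVariables false
set_option linter.unusedSectionVars false
set_option linter.style.haveILetI false

open Subgroup
open scoped commutatorElement Pointwise

namespace CfsgLib.StandardSemisimple

open CfsgLib.Components

universe u

variable {G : Type u} [Group G] [Finite G]

/-- An element of order dividing two fixes some Sylow 2-subgroup of each subgroup it normalizes. -/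
theorem exists_invariant_sylow_two {K : Subgroup G} {t : G} (ht : t * t = 1)
    (htK : t ∈ normalizer (K : Set G)) :
    ∃ P : Sylow 2 ↥K, t ∈ normalizer (((P : Subgroup ↥K).map K.subtype : Subgroup G) : Set G) := by
  classical
  haveI : Fact (Nat.Prime 2) := ⟨Nat.prime_two⟩
  have hti : t⁻¹ = t := inv_eq_of_mul_eq_one_right ht
  have hmem : ∀ x ∈ K, t * x * t⁻¹ ∈ K := fun x hx => (mem_normalizer_iff.mp htK x).mp hx
  have hinv : ∀ x : G, t * (t * x * t⁻¹) * t⁻¹ = x := fun x => by
    rw [show t * (t * x * t⁻¹) * t⁻¹ = (t * t) * x * (t * t)⁻¹ by group, ht]; simp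
  let φ : MulAut ↥K :=
    { toFun := fun x => ⟨t * x * t⁻¹, hmem x x.2⟩
      invFun := fun x => ⟨t * x * t⁻¹, hmem x x.2⟩
      left_inv := fun x => Subtype.ext (hinv x)
      right_inv := fun x => Subtype.ext (hinv x)
      map_mul' := fun x y => Subtype.ext (by simp [mul_assoc]) }
  have hφ : φ * φ = 1 := by ext x; exact hinv x
  haveI : Fintype (Sylow 2 ↥K) := Fintype.ofFinite _
  obtain ⟨P, hP⟩ := Equiv.Perm.exists_fixed_point_of_prime (p := 2) (n := 1)
    (α := Sylow 2 ↥K) (σ := MulAction.toPermHom (MulAut ↥K) (Sylow 2 ↥K) φ)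
    (by rw [← Nat.card_eq_fintype_card]; exact not_dvd_card_sylow 2 ↥K)
    (by rw [pow_one, ← map_pow, pow_two, hφ, map_one])
  refine ⟨P, StdForm.mem_normalizer_of_conj_mem ?_⟩
  rintro _ ⟨x, hx, rfl⟩
  have h1 : φ x ∈ ((φ • P : Sylow 2 ↥K) : Subgroup ↥K) := by
    show φ x ∈ φ • (P : Subgroup ↥K)
    exact Subgroup.smul_mem_pointwise_smul x φ _ hx
  have hP' : φ • P = P := hP
  rw [hP'] at h1
  exact ⟨φ x, h1, rfl⟩

/-- A subgroup normal in a quasisimple subgroup `A` and containing a noncentral element is `A`. -/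
theorem le_centralizer_of_mem {A S : Subgroup G} (hA : Cfsg.IsQuasisimple ↥A)
    (hAS : A ≤ normalizer (S : Set G)) {a : G} (ha : a ∈ A) (hnc : a ∉ centralizer (A : Set G))
    (haS : a ∈ centralizer (S : Set G)) : A ≤ centralizer (S : Set G) := by
  have hn : ((centralizer (S : Set G)).subgroupOf A).Normal := by
    refine ⟨fun x hx g => ?_⟩
    rw [mem_subgroupOf] at hx ⊢
    intro s hs
    have h1 := hx _ ((mem_normalizer_iff.mp (inv_mem (hAS g.2)) s).mp hs)
    simp only [Subgroup.coe_mul, InvMemClass.coe_inv, inv_inv] at h1 ⊢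
    calc s * ((g : G) * x * (g : G)⁻¹) = g * (((g : G)⁻¹ * s * g) * x) * (g : G)⁻¹ := by group
      _ = g * (x * ((g : G)⁻¹ * s * g)) * (g : G)⁻¹ := by rw [h1]
      _ = _ := by group
  rcases quasisimple_normal_top_or_central hA hn with h | h
  · exact subgroupOf_eq_top.mp h
  · exfalso
    refine hnc fun b hb => ?_
    exact congrArg Subtype.val
      (mem_center_iff.mp (h (show (⟨a, ha⟩ : A) ∈ _ from haS)) ⟨b, hb⟩)

/-- The data: `A` perfect quasisimple, `t` an involution centralizing it with `C(t) ≤ N(A)`, and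
`a` a noncentral involution of `A`, conjugated into `A` by `r⁻¹`, with `r t r⁻¹ = a t`. -/
structure Data (A : Subgroup G) (t r a : G) : Prop where
  quasi : Cfsg.IsQuasisimple ↥A
  perf : ⁅A, A⁆ = A
  tt : t * t = 1
  cent : ∀ g : G, g * t = t * g → g ∈ normalizer (A : Set G)
  tA : t ∈ centralizer (A : Set G)
  aA : a ∈ A
  anc : a ∉ centralizer (A : Set G)
  a2 : orderOf a = 2
  conj : r * t * r⁻¹ = a * t
  ar : r⁻¹ * a * r ∈ A

namespace Data

variable {A : Subgroup G} {t r a : G}

theorem not_le_of_odd (d : Data A t r a) {M : Subgroup G} (hM : Odd (Nat.card ↥M)) : ¬ A ≤ M := by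
  intro h
  have h2 := Subgroup.orderOf_dvd_natCard M (h d.aA)
  rw [d.a2] at h2
  exact Nat.not_even_iff_odd.mpr hM (even_iff_two_dvd.mpr h2)

theorem le_or_inf_le_centralizer (d : Data A t r a) (M : Subgroup G) [M.Normal] :
    A ≤ M ∨ A ⊓ M ≤ centralizer (A : Set G) := by
  rcases quasisimple_normal_top_or_central d.quasi
      (inferInstance : (M.subgroupOf A).Normal) with h | h
  · exact Or.inl (subgroupOf_eq_top.mp h)
  · refine Or.inr fun x hx b hb => ?_
    exact congrArg Subtype.val
      (mem_center_iff.mp (h (show (⟨x, hx.1⟩ : A) ∈ M.subgroupOf A from hx.2)) ⟨b, hb⟩)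

/-- `A` centralizes `C_M(t)` when it meets the normal subgroup `M` in its centre. -/
theorem fixed_le (d : Data A t r a) (M : Subgroup G) [M.Normal]
    (hM : A ⊓ M ≤ centralizer (A : Set G)) :
    ∀ x ∈ M, x * t = t * x → x ∈ centralizer (A : Set G) := by
  intro x hx hxt
  set L := M ⊓ centralizer ({t} : Set G) with hL
  have hLN : L ≤ normalizer (A : Set G) := fun g hg =>
    d.cent g (mem_centralizer_singleton_iff.mp hg.2)
  have h0 : ⁅A, L⁆ = ⊥ := by
    refine commutator_eq_bot_of_perfect d.perf (commutator_eq_bot_iff_le_centralizer.mpr ?_)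
    refine le_trans (le_inf ?_ ?_) hM
    · rw [commutator_comm]
      exact le_normalizer_iff_commutator_le_right.mp hLN
    · exact (commutator_mono le_rfl inf_le_left).trans (commutator_le_right A M)
  exact (le_centralizer_iff.mp (le_centralizer_of_commutator_eq_bot h0))
    ⟨hx, mem_centralizer_singleton_iff.mpr hxt⟩

/-- `a` centralizes `C_M(a t)`. -/
theorem fixed_conj (d : Data A t r a) (M : Subgroup G) [M.Normal]
    (hM : A ⊓ M ≤ centralizer (A : Set G)) :
    ∀ x ∈ M, x * (a * t) = a * t * x → x * a = a * x := by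
  intro x hx hxt
  have h1 : r⁻¹ * x * r ∈ M := by
    simpa using (inferInstance : M.Normal).conj_mem x hx r⁻¹
  have h2 : (r⁻¹ * x * r) * t = t * (r⁻¹ * x * r) := by
    have e : r⁻¹ * (a * t) * r = t := by rw [← d.conj]; group
    calc (r⁻¹ * x * r) * t = (r⁻¹ * x * r) * (r⁻¹ * (a * t) * r) := by rw [e]
      _ = r⁻¹ * (x * (a * t)) * r := by group
      _ = r⁻¹ * (a * t * x) * r := by rw [hxt]
      _ = (r⁻¹ * (a * t) * r) * (r⁻¹ * x * r) := by group
      _ = _ := by rw [e]
  have h3 := d.fixed_le M hM _ h1 h2 _ d.ar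
  calc x * a = r * ((r⁻¹ * x * r) * (r⁻¹ * a * r)) * r⁻¹ := by group
    _ = r * ((r⁻¹ * a * r) * (r⁻¹ * x * r)) * r⁻¹ := by rw [h3]
    _ = a * x := by group

/-- An `A`- and `t`-invariant subgroup of odd order of such an `M` is centralized by `A`. -/
theorem odd_le (d : Data A t r a) (M : Subgroup G) [M.Normal]
    (hM : A ⊓ M ≤ centralizer (A : Set G)) {O : Subgroup G} (hOM : O ≤ M)
    (hodd : Odd (Nat.card ↥O)) (hAO : A ≤ normalizer (O : Set G))
    (htO : t ∈ normalizer (O : Set G)) : A ≤ centralizer (O : Set G) := by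
  have hat : Commute a t := d.tA a d.aA
  have haa : a * a = 1 := by rw [← sq, ← d.a2, pow_orderOf_eq_one]
  have h := StdForm.mul_mem_centralizer_of_inf_centralizer_le hodd (s := a * t) (t := t)
    (by rw [show a * t * (a * t) = a * (t * a) * t by group, ← hat.eq,
      show a * (a * t) * t = (a * a) * (t * t) by group, haa, d.tt, one_mul])
    d.tt (hat.mul_left (Commute.refl t)) (mul_mem (hAO d.aA) htO) htO
    (fun o ho hto => by
      have h1 : Commute a o := d.fixed_le M hM o (hOM ho) hto.eq.symm a d.aA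
      exact h1.mul_left hto)
    (fun o ho hso => by
      have h1 : Commute a o := (d.fixed_conj M hM o (hOM ho) hso.eq.symm).symm
      have h2 : t = a * (a * t) := by rw [← mul_assoc, haa, one_mul]
      rw [h2]
      exact h1.mul_left hso)
  rw [mul_assoc, d.tt, mul_one] at h
  exact le_centralizer_of_mem d.quasi hAO d.aA d.anc h

/-- `A` centralizes some Sylow 2-subgroup of such an `M`. -/
theorem exists_sylow_centralized (d : Data A t r a) (M : Subgroup G) [M.Normal]
    (hM : A ⊓ M ≤ centralizer (A : Set G)) :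
    ∃ T : Subgroup G, T ≤ M ∧ IsPGroup 2 ↥T ∧ ¬ 2 ∣ T.relIndex M ∧
      A ≤ centralizer (T : Set G) := by
  classical
  haveI : Fact (Nat.Prime 2) := ⟨Nat.prime_two⟩
  have hti : t⁻¹ = t := inv_eq_of_mul_eq_one_right d.tt
  obtain ⟨T, hTmax⟩ := (Set.toFinite {T : Subgroup G | T ≤ M ∧ IsPGroup 2 ↥T ∧
    t ∈ normalizer (T : Set G) ∧ T ≤ centralizer (A : Set G)}).exists_maximal
    ⟨⊥, bot_le, IsPGroup.of_bot, StdForm.mem_normalizer_of_conj_mem (by simp), bot_le⟩
  obtain ⟨hTM, hT2, htT, hTA⟩ := hTmax.prop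
  have hAT : A ≤ centralizer (T : Set G) := le_centralizer_iff.mp hTA
  set U := M ⊓ centralizer (T : Set G) with hU
  have htU : t ∈ normalizer (U : Set G) := StdForm.mem_normalizer_of_conj_mem fun x hx => by
    refine ⟨(inferInstance : M.Normal).conj_mem x hx.1 t, fun s hs => ?_⟩
    have h1 := hx.2 _ ((mem_normalizer_iff.mp (inv_mem htT) s).mp hs)
    simp only [inv_inv] at h1
    calc s * (t * x * t⁻¹) = t * ((t⁻¹ * s * t) * x) * t⁻¹ := by group
      _ = t * (x * (t⁻¹ * s * t)) * t⁻¹ := by rw [h1]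
      _ = _ := by group
  -- elements moved by `t` into `T` are centralized by `A`
  have hstep : ∀ u ∈ U, t * u * t⁻¹ * u⁻¹ ∈ T → u ∈ centralizer (A : Set G) := by
    intro u hu hz
    have h0 : ⁅A, zpowers u⁆ = ⊥ := by
      refine commutator_eq_bot_of_perfect d.perf (commutator_eq_bot_iff_le_centralizer.mpr ?_)
      rw [commutator_le]
      rintro x hx _ ⟨n, rfl⟩
      set z := t * u * t⁻¹ * u⁻¹ with hzdef
      have hzu : Commute z u := hu.2 z hz
      have htu : t * u * t⁻¹ = z * u := by rw [hzdef]; group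
      have hxT : ∀ s ∈ T, s * x = x * s := fun s hs => hAT hx s hs
      set D := x * u ^ n * x⁻¹ * (u ^ n)⁻¹ with hD
      have hxc : x ∈ centralizer (T : Set G) := hAT hx
      have hunc : u ^ n ∈ centralizer (T : Set G) := (centralizer (T : Set G)).zpow_mem hu.2 n
      have hDc : D ∈ centralizer (T : Set G) :=
        mul_mem (mul_mem (mul_mem hxc hunc) (inv_mem hxc)) (inv_mem hunc)
      have hDM : D ∈ M := mul_mem ((inferInstance : M.Normal).conj_mem _ (M.zpow_mem hu.1 n) x)
        (inv_mem (M.zpow_mem hu.1 n))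
      have hw : z ^ n ∈ T := zpow_mem hz n
      have hfix : t * D * t⁻¹ = D := by
        have htx : t * x * t⁻¹ = x := by rw [← d.tA x hx, mul_inv_cancel_right]
        have htun : t * u ^ n * t⁻¹ = z ^ n * u ^ n := by
          rw [← conj_zpow, htu, hzu.mul_zpow]
        have hzx : x * z ^ n = z ^ n * x := (hxT _ hw).symm
        calc t * D * t⁻¹ = (t * x * t⁻¹) * (t * u ^ n * t⁻¹) * (t * x * t⁻¹)⁻¹ *
              (t * u ^ n * t⁻¹)⁻¹ := by rw [hD]; group
          _ = x * (z ^ n * u ^ n) * x⁻¹ * (z ^ n * u ^ n)⁻¹ := by rw [htx, htun]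
          _ = (x * z ^ n) * u ^ n * x⁻¹ * (u ^ n)⁻¹ * (z ^ n)⁻¹ := by group
          _ = z ^ n * D * (z ^ n)⁻¹ := by rw [hzx, hD]; group
          _ = D := by rw [hDc _ hw, mul_inv_cancel_right]
      exact d.fixed_le M hM D hDM (mul_inv_eq_iff_eq_mul.mp hfix).symm
    exact (le_centralizer_iff.mp (le_centralizer_of_commutator_eq_bot h0)) (mem_zpowers u)
  have hgrow : ∀ u ∈ U, ∀ j : ℕ, u ^ 2 ^ j = 1 → t * u * t⁻¹ * u⁻¹ ∈ T → u ∈ T := by
    intro u hu j hj hz
    have huA := hstep u hu hz
    have hle : T ≤ T ⊔ zpowers u := le_sup_left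
    refine hTmax.le_of_ge (y := T ⊔ zpowers u) ⟨sup_le hTM (zpowers_le.mpr hu.1), ?_, ?_,
      sup_le hTA (zpowers_le.mpr huA)⟩ hle (mem_sup_right (mem_zpowers u))
    · exact IsPGroup.to_sup_of_normal_left' hT2 (isPGroup_zpowers_of_pow hj)
        (zpowers_le.mpr (centralizer_le_normalizer _ hu.2))
    · refine StdForm.mem_normalizer_of_conj_mem ?_
      have hmap : (T ⊔ zpowers u).map (MulAut.conj t).toMonoidHom ≤ T ⊔ zpowers u := by
        rw [Subgroup.map_sup, MonoidHom.map_zpowers]
        refine sup_le ?_ (zpowers_le.mpr ?_)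
        · rintro _ ⟨s, hs, rfl⟩
          exact mem_sup_left ((mem_normalizer_iff.mp htT s).mp hs)
        · show t * u * t⁻¹ ∈ T ⊔ zpowers u
          rw [show t * u * t⁻¹ = (t * u * t⁻¹ * u⁻¹) * u by group]
          exact mul_mem_sup hz (mem_zpowers u)
      exact fun x hx => hmap ⟨x, hx, rfl⟩
  -- all 2-elements of `U` lie in `T`
  obtain ⟨P, htP⟩ := exists_invariant_sylow_two d.tt htU
  set V := (P : Subgroup ↥U).map U.subtype with hV
  have hVU : V ≤ U := map_subtype_le _
  have hV2 : IsPGroup 2 ↥V := P.isPGroup'.map _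
  have hVT : V ≤ T := by
    have htz : IsPGroup 2 ↥(zpowers t) := isPGroup_zpowers_of_pow (j := 1) (by rw [pow_one, sq, d.tt])
    have hW : IsPGroup 2 ↥(V ⊔ zpowers t) :=
      IsPGroup.to_sup_of_normal_left' hV2 htz (zpowers_le.mpr htP)
    haveI := hW.isNilpotent
    set W := V ⊔ zpowers t
    obtain ⟨n, hn⟩ := (Subgroup.isNilpotent_iff_lowerCentralSeries W).mp inferInstance
    suffices h : ∀ i, i ≤ n → ∀ w ∈ W.lowerCentralSeries (n - i), w ∈ V → w ∈ T by
      intro v hv
      exact h n le_rfl v (by rw [Nat.sub_self]; exact mem_sup_left hv) hv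
    intro i
    induction i with
    | zero =>
      intro _ w hw _
      rw [Nat.sub_zero, hn] at hw
      rw [mem_bot.mp hw]
      exact T.one_mem
    | succ i ih =>
      intro hi w hw hwV
      obtain ⟨j, hj⟩ := twoElement_of_mem hV2 hwV
      refine hgrow w (hVU hwV) j hj ?_
      set c := w * t * w⁻¹ * t⁻¹ with hc
      have hc1 : c ∈ W.lowerCentralSeries (n - i) := by
        rw [show n - i = (n - (i + 1)) + 1 by omega, Subgroup.lowerCentralSeries_succ]
        exact commutator_mem_commutator hw (mem_sup_right (mem_zpowers t))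
      have hc2 : c ∈ V := by
        have h1 : t * w⁻¹ * t⁻¹ ∈ V := (mem_normalizer_iff.mp htP _).mp (inv_mem hwV)
        have h2 := mul_mem hwV h1
        simpa [hc, mul_assoc] using h2
      have h3 := inv_mem (ih (by omega) c hc1 hc2)
      simpa [hc, mul_assoc] using h3
  have hVc : ∀ v ∈ V, ∀ u ∈ U, u * v = v * u := fun v hv u hu => (hu.2 v (hVT hv)).symm
  have hall : ∀ u ∈ U, ∀ j : ℕ, u ^ 2 ^ j = 1 → u ∈ V := by
    intro u hu j hj
    have h2 : IsPGroup 2 ↥(zpowers (⟨u, hu⟩ : ↥U)) :=
      isPGroup_zpowers_of_pow (j := j) (Subtype.ext (by simpa using hj))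
    obtain ⟨Q, hQ⟩ := h2.exists_le_sylow
    obtain ⟨g, rfl⟩ := MulAction.exists_smul_eq ↥U P Q
    obtain ⟨v, hv, hve⟩ := hQ (mem_zpowers _)
    have hve' : (g : G) * v * (g : G)⁻¹ = u := congrArg Subtype.val hve
    rw [hVc v ⟨v, hv, rfl⟩ g g.2, mul_inv_cancel_right] at hve'
    exact hve' ▸ ⟨v, hv, rfl⟩
  obtain ⟨k, hk, h2, hmul⟩ := exists_odd_powHom (C := U) fun c hc j hj e he =>
    hVc c (hall c hc j hj) e he
  -- `A` centralizes the odd part of `U`, hence `U`
  let O : Subgroup G :=
    { carrier := {x | x ∈ U ∧ x ^ k = 1}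
      one_mem' := ⟨one_mem _, one_pow _⟩
      mul_mem' := fun {x y} hx hy =>
        ⟨U.mul_mem hx.1 hy.1, by rw [hmul x hx.1 y hy.1, hx.2, hy.2, one_mul]⟩
      inv_mem' := fun {x} hx => ⟨U.inv_mem hx.1, by rw [inv_pow, hx.2, inv_one]⟩ }
  have hOodd : Odd (Nat.card ↥O) := by
    rw [← Nat.not_even_iff_odd, even_iff_two_dvd]
    intro h
    obtain ⟨x, hx⟩ := exists_prime_orderOf_dvd_card' 2 h
    have : orderOf (x : G) ∣ k := orderOf_dvd_of_pow_eq_one x.2.2
    rw [Subgroup.orderOf_coe, hx] at this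
    exact Nat.not_even_iff_odd.mpr hk (even_iff_two_dvd.mpr this)
  have hAU : A ≤ normalizer (U : Set G) := fun x hx =>
    StdForm.mem_normalizer_of_conj_mem fun y hy =>
      ⟨(inferInstance : M.Normal).conj_mem y hy.1 x,
        (centralizer (T : Set G)).mul_mem ((centralizer (T : Set G)).mul_mem (hAT hx) hy.2) ((centralizer (T : Set G)).inv_mem (hAT hx))⟩
  have hNO : ∀ g ∈ normalizer (U : Set G), g ∈ normalizer (O : Set G) := fun g hg =>
    StdForm.mem_normalizer_of_conj_mem fun y hy =>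
      ⟨(mem_normalizer_iff.mp hg y).mp hy.1, by rw [conj_pow, hy.2, mul_one, mul_inv_cancel]⟩
  have hO := le_centralizer_iff.mp
    (d.odd_le M hM (O := O) (fun y hy => hy.1.1) hOodd (fun x hx => hNO x (hAU hx)) (hNO t htU))
  have hUA : U ≤ centralizer (A : Set G) := by
    intro c hc
    obtain ⟨j, hj⟩ := h2 c hc
    have h1 : c ^ k ∈ centralizer (A : Set G) := hTA (hVT (hall _ (pow_mem hc k) j hj))
    have h2' : c ^ 2 ^ j ∈ centralizer (A : Set G) :=
      hO ⟨pow_mem hc _, by rw [← pow_mul, mul_comm, pow_mul, hj]⟩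
    have hg : Nat.gcd k (2 ^ j) = 1 := Nat.Coprime.pow_right _ (Nat.coprime_two_right.mpr hk)
    have he := Nat.gcd_eq_gcd_ab k (2 ^ j)
    rw [hg] at he
    have : c = (c ^ k) ^ Nat.gcdA k (2 ^ j) * (c ^ 2 ^ j) ^ Nat.gcdB k (2 ^ j) := by
      rw [← zpow_natCast c k, ← zpow_natCast c (2 ^ j), ← zpow_mul, ← zpow_mul, ← zpow_add, ← he,
        Nat.cast_one, zpow_one]
    rw [this]
    exact mul_mem (zpow_mem h1 _) (zpow_mem h2' _)
  -- hence the normalizer of `T` in `M`
  set N := M ⊓ normalizer (T : Set G) with hN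
  have hNA : N ≤ centralizer (A : Set G) := by
    refine le_centralizer_iff.mp (le_centralizer_of_commutator_eq_bot
      (commutator_eq_bot_of_perfect d.perf (commutator_eq_bot_iff_le_centralizer.mpr ?_)))
    refine le_trans ?_ hUA
    rw [commutator_le]
    intro x hx n hn
    refine ⟨M.mul_mem ((inferInstance : M.Normal).conj_mem n hn.1 x) (M.inv_mem hn.1), fun s hs => ?_⟩
    have h1 : Commute s x := hAT hx s hs
    have hs' : n⁻¹ * s * n ∈ T := by
      simpa using (mem_normalizer_iff.mp ((normalizer (T : Set G)).inv_mem hn.2) s).mp hs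
    have h2 : Commute (n⁻¹ * s * n) x := hAT hx _ hs'
    have h3 : Commute s (n * x⁻¹ * n⁻¹) := by
      show s * (n * x⁻¹ * n⁻¹) = n * x⁻¹ * n⁻¹ * s
      calc s * (n * x⁻¹ * n⁻¹) = n * ((n⁻¹ * s * n) * x⁻¹) * n⁻¹ := by group
        _ = n * (x⁻¹ * (n⁻¹ * s * n)) * n⁻¹ := by rw [h2.inv_right.eq]
        _ = _ := by group
    have h4 := (h1.mul_right h3).eq
    simpa [commutatorElement_def, mul_assoc] using h4
  have hTN : T ≤ N := le_inf hTM le_normalizer
  have htN : t ∈ normalizer (N : Set G) := inf_normalizer_le_normalizer_inf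
    ⟨by rw [normalizer_eq_top]; trivial, le_normalizer htT⟩
  obtain ⟨Q, htQ⟩ := exists_invariant_sylow_two d.tt htN
  have hQT : (Q : Subgroup ↥N).map N.subtype ≤ T := by
    set R := (Q : Subgroup ↥N).map N.subtype with hR
    have hRN : R ≤ N := map_subtype_le _
    have hTR : T ≤ R := by
      have h : T.subgroupOf N ≤ (Q : Subgroup ↥N) := by
        haveI : (T.subgroupOf N).Normal :=
          (normal_subgroupOf_iff_le_normalizer hTN).mpr inf_le_right
        exact (hT2.of_equiv (subgroupOfEquivOfLe hTN).symm).le_sylow_of_normal Q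
      rw [← map_subgroupOf_eq_of_le hTN]
      exact map_mono h
    exact hTmax.le_of_ge ⟨hRN.trans inf_le_left, Q.isPGroup'.map _, htQ, hRN.trans hNA⟩ hTR
  refine ⟨T, hTM, hT2, ?_, hAT⟩
  intro hdvd
  have h1 : IsPGroup 2 ↥(T.subgroupOf M) := hT2.of_equiv (subgroupOfEquivOfLe hTM).symm
  obtain ⟨S, hS⟩ := h1.exists_le_sylow
  rcases hS.eq_or_lt with heq | hlt
  · exact Sylow.not_dvd_index S (show 2 ∣ (S : Subgroup ↥M).index by rw [← heq]; exact hdvd)
  · haveI := S.isPGroup'.isNilpotent
    have hlt' : (T.subgroupOf M).subgroupOf (S : Subgroup ↥M) < ⊤ := by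
      rw [lt_top_iff_ne_top, Ne, subgroupOf_eq_top]
      exact not_le_of_gt hlt
    obtain ⟨y, hy, hyT⟩ :=
      SetLike.exists_of_lt (Group.normalizerCondition_of_isNilpotent _ hlt')
    have hyn : ((y : ↥M) : G) ∈ normalizer (T : Set G) := by
      refine StdForm.mem_normalizer_of_conj_mem fun s hs => ?_
      have hs' : (⟨s, hTM hs⟩ : ↥M) ∈ (S : Subgroup ↥M) := hS (mem_subgroupOf.mpr hs)
      have := (mem_normalizer_iff.mp hy ⟨⟨s, hTM hs⟩, hs'⟩).mp
        (show ((⟨⟨s, hTM hs⟩, hs'⟩ : ↥(S : Subgroup ↥M)) : ↥M) ∈ T.subgroupOf M from hs)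
      exact this
    have hyN : ((y : ↥M) : G) ∈ N := ⟨(y : ↥M).2, hyn⟩
    obtain ⟨j, hj⟩ := twoElement_of_mem S.isPGroup' y.2
    have h2y : IsPGroup 2 ↥(zpowers (⟨((y : ↥M) : G), hyN⟩ : ↥N)) :=
      isPGroup_zpowers_of_pow (j := j) (Subtype.ext (by
        simpa using congrArg Subtype.val hj))
    obtain ⟨Q', hQ'⟩ := h2y.exists_le_sylow
    obtain ⟨g, rfl⟩ := MulAction.exists_smul_eq ↥N Q Q'
    obtain ⟨v, hv, hve⟩ := hQ' (mem_zpowers _)
    have hvT : (v : G) ∈ T := hQT ⟨v, hv, rfl⟩
    have hve' : (g : G) * v * (g : G)⁻¹ = ((y : ↥M) : G) := congrArg Subtype.val hve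
    apply hyT
    show ((y : ↥M) : G) ∈ T
    exact hve' ▸ (mem_normalizer_iff.mp g.2.2 _).mp hvT

end Data

/-- The image of a Sylow subgroup of `M` has index prime to `2` in the image. -/
theorem not_two_dvd_relIndex_map {G' : Type*} [Group G'] (q : G →* G') {T M : Subgroup G}
    (h : ¬ 2 ∣ T.relIndex M) : ¬ 2 ∣ (T.map q).relIndex (M.map q) := fun hd =>
  h (hd.trans (by
    have hle : (T.subgroupOf M).map (q.subgroupMap M) ≤ (T.map q).subgroupOf (M.map q) := by
      rintro _ ⟨x, hx, rfl⟩
      exact ⟨x, hx, rfl⟩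
    exact (index_dvd_of_le hle).trans (index_map_dvd _ (q.subgroupMap_surjective M))))

/-- `A` lies in the layer. -/
theorem Data.le_layer {A : Subgroup G} {t r a : G} (d : Data A t r a) : A ≤ Cfsg.layer G := by
  classical
  haveI : Fact (Nat.Prime 2) := ⟨Nat.prime_two⟩
  refine (d.le_or_inf_le_centralizer (Cfsg.layer G)).resolve_right fun hE => ?_
  have hnab : ¬ A ≤ centralizer (A : Set G) := fun h => d.anc (h d.aA)
  set O := Cfsg.pPrimeCore 2 G with hOdef
  have hOodd : Odd (Nat.card ↥O) := Nat.coprime_two_right.mp (coprime_card_pPrimeCore 2)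
  have hAO : A ≤ centralizer (O : Set G) :=
    d.odd_le O ((d.le_or_inf_le_centralizer O).resolve_left (d.not_le_of_odd hOodd)) le_rfl hOodd
      le_normalizer_of_normal (by rw [normalizer_eq_top]; trivial)
  have hA2 : A ≤ centralizer (Cfsg.pCore 2 G : Set G) := by
    have hM := (d.le_or_inf_le_centralizer (Cfsg.pCore 2 G)).resolve_left fun h => by
      haveI := (isPGroup_pCore (G := G) 2).isNilpotent
      exact quasisimple_not_isSolvable d.quasi
        (Group.isSolvable_of_isSolvable_injective (inclusion_injective h))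
    have htz : IsPGroup 2 ↥(zpowers t) :=
      isPGroup_zpowers_of_pow (j := 1) (by rw [pow_one, sq, d.tt])
    refine perfect_le_centralizer_pCore htz d.perf
      (le_centralizer_iff.mp (zpowers_le.mpr d.tA)) fun x hx v hv hvt => ?_
    exact d.fixed_le _ hM v hv ((hvt t (mem_zpowers t)).symm) x hx
  have hF : A ≤ centralizer (Cfsg.fittingSubgroup G : Set G) := by
    refine le_centralizer_iff.mp (fitting_le_of_pCore_le fun p hp => ?_)
    by_cases h2 : p = 2
    · subst h2
      exact le_centralizer_iff.mp hA2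
    · haveI := Fact.mk hp
      refine le_trans (le_pPrimeCore_of_normal inferInstance ?_) (le_centralizer_iff.mp hAO)
      obtain ⟨n, hn⟩ := IsPGroup.iff_card.mp (isPGroup_pCore (G := G) p)
      rw [hn]
      exact ((Nat.coprime_primes hp Nat.prime_two).mpr h2).pow_left _
  -- `A` centralizes the layer
  obtain ⟨T, hTE, hT2, hidx, hAT⟩ := d.exists_sylow_centralized (Cfsg.layer G) hE
  set q := QuotientGroup.mk' O with hq
  have hqs : Function.Surjective q := QuotientGroup.mk'_surjective O
  haveI : ((Cfsg.layer G).map q).Normal := Normal.map inferInstance q hqs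
  have hcore : Cfsg.pPrimeCore 2 ↥((Cfsg.layer G).map q) = ⊥ := by
    rw [pPrimeCore_subnormal_eq (Subgroup.Normal.isSubnormal inferInstance),
      show Cfsg.pPrimeCore 2 (G ⧸ O) = ⊥ from pPrimeCore_quotient_self, bot_subgroupOf]
  have hpA : pElements 2 A = A := by
    refine le_antisymm (pElements_le A) ?_
    have hn : ((pElements 2 A).subgroupOf A).Normal :=
      (normal_subgroupOf_iff_le_normalizer (pElements_le A)).mpr
        (le_normalizer.trans (normalizer_le_normalizer_pElements A))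
    rcases quasisimple_normal_top_or_central d.quasi hn with h | h
    · exact subgroupOf_eq_top.mp h
    · exfalso
      refine d.anc fun b hb => ?_
      exact congrArg Subtype.val (mem_center_iff.mp (h (show (⟨a, d.aA⟩ : A) ∈ _ from
        mem_pElements d.aA (k := 1) (show a ^ 2 ^ 1 = 1 by rw [pow_one, ← d.a2, pow_orderOf_eq_one]))) ⟨b, hb⟩)
  have hW : A.map q ≤ centralizer ((Cfsg.layer G).map q : Set (G ⧸ O)) := by
    refine le_centralizer_of_sylow_centralized _ hcore (map_mono hTE) (hT2.map q)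
      (not_two_dvd_relIndex_map q hidx) ?_ (by rw [← map_commutator, d.perf]) ?_
    · rintro _ ⟨x, hx, rfl⟩ _ ⟨s, hs, rfl⟩
      rw [← map_mul, ← map_mul, hAT hx s hs]
    · refine le_antisymm (pElements_le _) ?_
      conv_lhs => rw [← hpA]
      exact map_pElements_le q A
  have hAE : ⁅A, Cfsg.layer G⁆ = ⊥ := by
    refine commutator_eq_bot_of_perfect d.perf (commutator_eq_bot_iff_le_centralizer.mpr ?_)
    have h1 : ⁅A, Cfsg.layer G⁆ ≤ O := by
      rw [← QuotientGroup.ker_mk' O, ← Subgroup.map_eq_bot_iff, map_commutator]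
      exact commutator_eq_bot_iff_le_centralizer.mpr hW
    exact h1.trans (le_centralizer_iff.mp hAO)
  have hAF : A ≤ centralizer (Cfsg.generalizedFittingSubgroup G : Set G) :=
    le_centralizer_iff.mp (sup_le
      (le_centralizer_iff.mp (le_centralizer_of_commutator_eq_bot hAE)) (le_centralizer_iff.mp hF))
  exact hnab ((hAF.trans centralizer_genFitting_le).trans (le_centralizer_iff.mp hAF))

/-- A perfect normal subgroup of the layer is its own layer. -/
theorem layer_eq_top_of_le_layer {X : Subgroup G} [X.Normal] (hX : X ≤ Cfsg.layer G)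
    (hp : ⁅X, X⁆ = X) : Cfsg.layer ↥X = ⊤ := by
  set E1 := sSup {K : Subgroup G | Cfsg.IsComponent K ∧ K ≤ X} with hE1
  haveI : E1.Normal := normal_sSup_of_conj fun g K hK =>
    ⟨component_map_conj hK.1 g, by
      rintro _ ⟨k, hk, rfl⟩
      exact (inferInstance : X.Normal).conj_mem k (hK.2 hk) g⟩
  have hsub : X.IsSubnormal := Subgroup.Normal.isSubnormal inferInstance
  refine le_antisymm le_top ?_
  rw [← map_le_map_iff_of_injective X.subtype_injective, ← MonoidHom.range_eq_map, range_subtype,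
    layer_subnormal_eq hsub, ← hE1]
  conv_lhs => rw [← hp]
  refine (commutator_mono le_rfl hX).trans ?_
  rw [commutator_le]
  intro x hx y hy
  have hle : Cfsg.layer G ≤ (centralizer (X.map (QuotientGroup.mk' E1) : Set (G ⧸ E1))).comap
      (QuotientGroup.mk' E1) := by
    refine sSup_le fun L hL k hk => ?_
    rintro _ ⟨z, hz, rfl⟩
    rcases component_le_or_commutator hL hsub with h | h
    · have h1 : QuotientGroup.mk' E1 k = 1 :=
        (QuotientGroup.eq_one_iff k).mpr ((le_sSup (show L ∈ {K : Subgroup G |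
          Cfsg.IsComponent K ∧ K ≤ X} from ⟨hL, h⟩)) hk)
      rw [h1, mul_one, one_mul]
    · rw [← map_mul, ← map_mul, le_centralizer_of_commutator_eq_bot h hk z hz]
  have h1 := hle hy (QuotientGroup.mk' E1 x) ⟨x, hx, rfl⟩
  rw [← QuotientGroup.ker_mk' E1, MonoidHom.mem_ker, map_commutatorElement,
    commutatorElement_eq_one_iff_mul_comm]
  exact h1

/-- The normal closure of a standard subgroup is semisimple, with centre of odd order. -/
theorem semisimple (A : Subgroup G) (hA : Cfsg.IsStandardSubgroup A)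
    (hcyc : ∀ R : Sylow 2 ↥(centralizer (A : Set G)),
      IsCyclic ↥(R : Subgroup ↥(centralizer (A : Set G))))
    (t : G) (ht : orderOf t = 2) (htA : t ∈ centralizer (A : Set G))
    (R : Subgroup G) (hRX : R ≤ normalClosure (A : Set G))
    (hc1 : ⁅R, zpowers t⁆ ≠ ⊥) (hc2 : ⁅R, zpowers t⁆ ≤ A) :
    Cfsg.layer ↥(normalClosure (A : Set G)) = ⊤ ∧
      Odd (Nat.card ↥(center ↥(normalClosure (A : Set G)))) := by
  classical
  haveI : Fact (Nat.Prime 2) := ⟨Nat.prime_two⟩
  obtain ⟨hAq, ⟨-, htight⟩, -, hnorm⟩ := hA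
  set K := centralizer (A : Set G) with hK
  have htt : t * t = 1 := by rw [← sq, ← ht, pow_orderOf_eq_one]
  have hti : t⁻¹ = t := inv_eq_of_mul_eq_one_right htt
  have ht1 : t ≠ 1 := fun h => by simp [h] at ht
  have hcent : ∀ g : G, g * t = t * g → g ∈ normalizer (A : Set G) := by
    intro g hgt
    by_contra hg
    rw [hnorm] at hg
    have hodd := htight g hg
    have hmem : t ∈ K ⊓ K.map (MulAut.conj g).toMonoidHom :=
      ⟨htA, ⟨t, htA, show g * t * g⁻¹ = t by rw [hgt, mul_inv_cancel_right]⟩⟩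
    have h2 := Subgroup.orderOf_dvd_natCard _ hmem
    rw [ht] at h2
    exact (Nat.not_even_iff_odd.mpr hodd) (even_iff_two_dvd.mpr h2)
  -- commuting involutions of `K` coincide
  have huni : ∀ u v : G, u ∈ K → v ∈ K → orderOf u = 2 → orderOf v = 2 → u * v = v * u → u = v := by
    intro u v hu hv hu2 hv2 huv
    set u' : ↥K := ⟨u, hu⟩
    set v' : ↥K := ⟨v, hv⟩
    have hu' : IsPGroup 2 ↥(zpowers u') := isPGroup_zpowers_of_pow (j := 1)
      (Subtype.ext (by simpa [u', hu2] using pow_orderOf_eq_one u))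
    have hv' : IsPGroup 2 ↥(zpowers v') := isPGroup_zpowers_of_pow (j := 1)
      (Subtype.ext (by simpa [v', hv2] using pow_orderOf_eq_one v))
    have hnm : zpowers v' ≤ normalizer (zpowers u' : Set ↥K) := zpowers_le.mpr
      (centralizer_le_normalizer _ (by
        rintro _ ⟨i, rfl⟩
        exact ((show Commute u' v' from Subtype.ext huv).zpow_left i).eq))
    obtain ⟨S, hS⟩ := (IsPGroup.to_sup_of_normal_left' hu' hv' hnm).exists_le_sylow
    exact congrArg Subtype.val (Case.involution_eq_of_cyclic (hcyc S)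
      (hS (mem_sup_left (mem_zpowers u'))) (hS (mem_sup_right (mem_zpowers v')))
      (by rw [← Subgroup.orderOf_coe]; exact hu2) (by rw [← Subgroup.orderOf_coe]; exact hv2))
  -- the element `r`
  obtain ⟨r, hr, hne⟩ : ∃ r ∈ R, r * t * r⁻¹ * t⁻¹ ≠ 1 := by
    by_contra h
    push Not at h
    refine hc1 (le_bot_iff.mp ?_)
    rw [commutator_le]
    rintro x hx _ ⟨i, rfl⟩
    have h1 : Commute x t := by
      show x * t = t * x
      exact mul_inv_eq_iff_eq_mul.mp (mul_inv_eq_one.mp (h x hx))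
    simpa [mem_bot, commutatorElement_eq_one_iff_mul_comm] using (h1.zpow_right i).eq
  set a := r * t * r⁻¹ * t⁻¹ with ha
  have haA : a ∈ A := hc2 (commutator_mem_commutator hr (mem_zpowers t))
  have hconj : r * t * r⁻¹ = a * t := by rw [ha]; group
  have hat : a * t = t * a := htA a haA
  have haa : a * a = 1 := by
    have h1 : (r * t * r⁻¹) * (r * t * r⁻¹) = 1 := by
      rw [show (r * t * r⁻¹) * (r * t * r⁻¹) = r * (t * t) * r⁻¹ by group, htt]; simp
    rw [hconj, show a * t * (a * t) = a * (t * a) * t by group, ← hat,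
      show a * (a * t) * t = a * a * (t * t) by group, htt, mul_one] at h1
    exact h1
  have ha2 : orderOf a = 2 := orderOf_eq_prime (by rw [sq]; exact haa) hne
  have hperf : ⁅A, A⁆ = A := Subgroup.isPerfect_iff.mp hAq.1
  have hanc : a ∉ K := fun haK => by
    have h := huni a t haK htA ha2 ht hat
    rw [h] at hconj
    have h1 : r * t * r⁻¹ = 1 := by rw [hconj, htt]
    rw [mul_inv_eq_one, mul_eq_left] at h1
    exact ht1 h1
  have har : r⁻¹ * a * r ∈ A := by
    have h1 := hc2 (commutator_mem_commutator (R.inv_mem hr) (mem_zpowers t))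
    have h2 : r⁻¹ * a * r = (r⁻¹ * t * r * t⁻¹)⁻¹ := by rw [ha, hti]; group; simp [hti]
    rw [h2]
    exact A.inv_mem (by simpa [commutatorElement_def] using h1)
  have d : Data A t r a := ⟨hAq, hperf, htt, hcent, htA, haA, hanc, ha2, hconj, har⟩
  set X := normalClosure (A : Set G) with hX
  have hAX : A ≤ X := le_normalClosure
  have hXE : X ≤ Cfsg.layer G := normalClosure_le_normal d.le_layer
  have hXp : ⁅X, X⁆ = X := le_antisymm (commutator_le_self X)
    (normalClosure_le_normal (hperf.symm.trans_le (commutator_mono hAX hAX)))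
  refine ⟨layer_eq_top_of_le_layer hXE hXp, ?_⟩
  rw [← Nat.not_even_iff_odd, even_iff_two_dvd]
  intro h
  obtain ⟨⟨⟨z, hzX⟩, hzc⟩, hz⟩ := exists_prime_orderOf_dvd_card' 2 h
  have hzz : orderOf z = 2 := by rw [← hz]; simp
  have hzC : ∀ x ∈ X, x * z = z * x := fun x hx =>
    congrArg Subtype.val (mem_center_iff.mp hzc ⟨x, hx⟩)
  -- an involution of the centre commuting with `t`
  obtain ⟨w, hwX, hw2, hwC, hwt⟩ : ∃ w : G, w ∈ X ∧ orderOf w = 2 ∧
      (∀ x ∈ X, x * w = w * x) ∧ w * t = t * w := by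
    by_cases hc : z * t = t * z
    · exact ⟨z, hzX, hzz, hzC, hc⟩
    have hz2 : z * z = 1 := by rw [← sq, ← hzz, pow_orderOf_eq_one]
    set z' := t * z * t⁻¹ with hz'
    have hz'X : z' ∈ X := (inferInstance : X.Normal).conj_mem z hzX t
    have hz'C : ∀ x ∈ X, x * z' = z' * x := fun x hx => by
      have h1 := hzC _ ((inferInstance : X.Normal).conj_mem x hx t⁻¹)
      rw [inv_inv] at h1
      calc x * z' = t * ((t⁻¹ * x * t) * z) * t⁻¹ := by rw [hz']; group
        _ = t * (z * (t⁻¹ * x * t)) * t⁻¹ := by rw [h1]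
        _ = _ := by rw [hz']; group
    have hz'2 : z' * z' = 1 := by
      rw [hz', show t * z * t⁻¹ * (t * z * t⁻¹) = t * (z * z) * t⁻¹ by group, hz2]; simp
    have hcz : z' * z = z * z' := hzC z' hz'X
    have hne' : z * z' ≠ 1 := by
      intro e
      have : z' = z := by
        calc z' = (z * z) * z' := by rw [hz2, one_mul]
          _ = z * (z * z') := by group
          _ = z := by rw [e, mul_one]
      exact hc (mul_inv_eq_iff_eq_mul.mp (hz' ▸ this)).symm
    refine ⟨z * z', mul_mem hzX hz'X, orderOf_eq_prime ?_ hne', fun x hx => ?_, ?_⟩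
    · rw [sq, show z * z' * (z * z') = z * (z' * z) * z' by group, hcz,
        show z * (z * z') * z' = z * z * (z' * z') by group, hz2, hz'2, one_mul]
    · exact ((show Commute x z from hzC x hx).mul_right (hz'C x hx)).eq
    · have h1 : t * (z * z') * t⁻¹ = z * z' := by
        rw [hz', show t * (z * (t * z * t⁻¹)) * t⁻¹ = (t * z * t⁻¹) * ((t * t) * z * (t * t)⁻¹) by group,
          htt, one_mul, inv_one, mul_one, ← hz', hcz]
      exact (mul_inv_eq_iff_eq_mul.mp h1).symm
  have hwK : w ∈ K := fun x hx => hwC x (hAX hx)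
  have hwt' := huni w t hwK htA hw2 ht hwt
  rw [hwt'] at hwC
  apply hne
  rw [ha, hwC r (hRX hr), mul_inv_cancel_right, mul_inv_cancel]

end CfsgLib.StandardSemisimple
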