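import Cfsg.Agent.Lib.Invol.GlaubermanZStar
import Cfsg.Agent.Lib.Fusion.AlperinGroup
import Cfsg.Agent.Lib.Components.Subnormal
import Cfsg.Agent.Lib.Solvable.CoprimeAction
import Cfsg.Agent.Lib.PLocal.Constrained

/-!
A weakly closed 2-element is central modulo the core; a criterion for weak closure.
-/

set_option autoImplicit false
set_option linter.style.haveILetI false
set_option linter.unusedVariables false
set_option linter.unusedSectionVars false

open Subgroup

namespace CfsgLib.Components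

universe u

variable {G : Type u} [Group G] [Finite G]

theorem twoElement_of_mem {P : Subgroup G} (hP : IsPGroup 2 P) {x : G} (hx : x ∈ P) :
    ∃ j, x ^ 2 ^ j = 1 := by
  obtain ⟨j, hj⟩ := hP ⟨x, hx⟩
  exact ⟨j, congrArg Subtype.val hj⟩

theorem eq_one_of_twoElement_of_odd_pow {x : G} {j k : ℕ} (h2 : x ^ 2 ^ j = 1) (hk : Odd k)
    (h : x ^ k = 1) : x = 1 :=
  orderOf_eq_one_iff.mp (Nat.eq_one_of_dvd_coprimes
    ((Nat.coprime_two_left.mpr hk).pow_left j) (orderOf_dvd_of_pow_eq_one h2)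
    (orderOf_dvd_of_pow_eq_one h))

theorem isPGroup_zpowers_of_pow {p : ℕ} [Fact p.Prime] {x : G} {j : ℕ} (h : x ^ p ^ j = 1) :
    IsPGroup p (zpowers x) := by
  obtain ⟨i, _, hi⟩ := (Nat.dvd_prime_pow Fact.out).mp (orderOf_dvd_of_pow_eq_one h)
  exact IsPGroup.iff_card.mpr ⟨i, by rw [Nat.card_zpowers, hi]⟩

/-- An exponent divisible by the index of the centre gives an endomorphism into the centre. -/
theorem mul_pow_of_index_dvd {C : Type u} [Group C] [Finite C] {r : ℕ}
    (h : (center C).index ∣ r) (a b : C) :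
    (a * b) ^ r = a ^ r * b ^ r ∧ a ^ r ∈ center C := by
  obtain ⟨j, rfl⟩ := h
  have h1 := map_mul (MonoidHom.transferCenterPow C) a b
  have h2 : (a * b) ^ (center C).index = a ^ (center C).index * b ^ (center C).index := by
    have h3 := congrArg Subtype.val h1
    rwa [Subgroup.coe_mul, MonoidHom.transferCenterPow_apply, MonoidHom.transferCenterPow_apply,
      MonoidHom.transferCenterPow_apply] at h3
  refine ⟨?_, ?_⟩
  · rw [pow_mul, pow_mul, pow_mul, h2]
    exact Commute.mul_pow ((mem_center_iff.mp (MonoidHom.transferCenterPow C b).2 _)) j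
  · rw [pow_mul]
    exact pow_mem (MonoidHom.transferCenterPow C a).2 j

/-- If every 2-element of `C` is central, an odd power map is a homomorphism onto the 2-elements. -/
theorem exists_odd_powHom {C : Subgroup G}
    (hC : ∀ c ∈ C, ∀ j : ℕ, c ^ 2 ^ j = 1 → ∀ d ∈ C, d * c = c * d) :
    ∃ k, Odd k ∧ (∀ a ∈ C, ∃ j, (a ^ k) ^ 2 ^ j = 1) ∧
      ∀ a ∈ C, ∀ b ∈ C, (a * b) ^ k = a ^ k * b ^ k := by
  haveI : Fact (Nat.Prime 2) := ⟨Nat.prime_two⟩
  obtain ⟨n, k, hk, hcard⟩ :=
    Nat.exists_eq_pow_mul_and_not_dvd (Nat.card_pos (α := C)).ne' 2 (by norm_num)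
  obtain ⟨P⟩ : Nonempty (Sylow 2 C) := inferInstance
  have hPc : (P : Subgroup C) ≤ center C := fun x hx => mem_center_iff.mpr fun d => by
    obtain ⟨j, hj⟩ := P.isPGroup' ⟨x, hx⟩
    exact Subtype.ext (hC x x.2 j (by simpa [Subtype.ext_iff] using hj) d d.2)
  have hidx : (center C).index ∣ k := by
    have hodd : ¬ 2 ∣ (center C).index := fun h =>
      Sylow.not_dvd_index P (h.trans (index_dvd_of_le hPc))
    refine Nat.Coprime.dvd_of_dvd_mul_left ?_ (hcard ▸ (center C).index_dvd_card)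
    exact (Nat.prime_two.coprime_iff_not_dvd.mpr hodd).symm.pow_right n
  refine ⟨k, Nat.not_even_iff_odd.mp fun he => hk (even_iff_two_dvd.mp he), fun a ha => ⟨n, ?_⟩,
    fun a ha b hb => ?_⟩
  · rw [← pow_mul, mul_comm, ← hcard]
    exact congrArg Subtype.val (pow_card_eq_one' (x := (⟨a, ha⟩ : C)))
  · simpa using congrArg Subtype.val (mul_pow_of_index_dvd hidx (⟨a, ha⟩ : C) ⟨b, hb⟩).1

/-- A finite subgroup mapped into itself by conjugation is normalized. -/
theorem mem_normalizer_of_conj_le {R : Subgroup G} {g : G} (h : ∀ r ∈ R, g * r * g⁻¹ ∈ R) :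
    g ∈ normalizer (R : Set G) := by
  rw [mem_normalizer_iff_map_conj_eq]
  refine eq_of_le_of_card_ge ?_ (le_of_eq ?_)
  · rintro _ ⟨r, hr, rfl⟩
    exact h r hr
  · exact Nat.card_congr (R.equivMapOfInjective _ (MulAut.conj g).injective).toEquiv

open CfsgLib.AlperinGroup in
/-- Conjugation through a chain fixes `y` if every step on at least `m` points does. -/
theorem chain_fix {P : Sylow 2 G} {y : G} {m : ℕ}
    (hstep : ∀ Q : Sylow 2 G, Tame P Q → m ≤ Nat.card ↥((P : Subgroup G) ⊓ (Q : Subgroup G)) →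
      y ∈ (P : Subgroup G) ⊓ (Q : Subgroup G) →
      ∀ n ∈ normalizer (((P : Subgroup G) ⊓ (Q : Subgroup G) : Subgroup G) : Set G),
        n⁻¹ * y * n = y)
    {A : Set G} {g : G} (h : Chain P A g) : y ∈ A → m ≤ A.ncard → g⁻¹ * y * g = y := by
  induction h with
  | one A => intros; group
  | cons A x k Q hA ht hx hk ih =>
    intro hy hm
    have hle : m ≤ Nat.card ↥((P : Subgroup G) ⊓ (Q : Subgroup G)) := by
      refine hm.trans (le_trans (Set.ncard_le_ncard hA (Set.toFinite _)) (le_of_eq ?_))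
      rw [← Nat.card_coe_set_eq]
      rfl
    have hxy := hstep Q ht hle (hA hy) x hx
    have hk' := ih ⟨y, hy, hxy⟩ (le_of_le_of_eq hm (Set.ncard_image_of_injective A
      (fun a b hab => mul_left_cancel (mul_right_cancel hab))).symm)
    calc (x * k)⁻¹ * y * (x * k) = k⁻¹ * (x⁻¹ * y * x) * k := by group
      _ = y := by rw [hxy, hk']

open CfsgLib.AlperinGroup in
/-- Frattini step: a Sylow subgroup of `C(D)` inside `P` for a tame intersection `D`. -/
theorem frattini_tame {P Q : Sylow 2 G} (ht : Tame P Q) {n : G}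
    (hn : n ∈ normalizer (((P : Subgroup G) ⊓ (Q : Subgroup G) : Subgroup G) : Set G)) :
    ∃ c ∈ centralizer (((P : Subgroup G) ⊓ (Q : Subgroup G) : Subgroup G) : Set G),
      c⁻¹ * n ∈ normalizer (((P : Subgroup G) ⊓ (Q : Subgroup G) : Subgroup G) : Set G) ⊓
        normalizer (((P : Subgroup G) ⊓
          centralizer (((P : Subgroup G) ⊓ (Q : Subgroup G) : Subgroup G) : Set G) : Subgroup G) : Set G) := by
  haveI : Fact (Nat.Prime 2) := ⟨Nat.prime_two⟩
  set D := (P : Subgroup G) ⊓ (Q : Subgroup G) with hD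
  set ND := normalizer (D : Set G) with hND
  set CD := centralizer (D : Set G) with hCD
  set R := (P : Subgroup G) ⊓ CD with hR
  have hCN : CD ≤ ND := centralizer_le_normalizer _
  have hconjC : ∀ g ∈ ND, ∀ c ∈ CD, g * c * g⁻¹ ∈ CD := fun g hg c hc d hd => by
    have h := hc (g⁻¹ * d * g) ((mem_normalizer_iff''.mp hg d).mp hd)
    calc d * (g * c * g⁻¹) = g * ((g⁻¹ * d * g) * c) * g⁻¹ := by group
      _ = g * (c * (g⁻¹ * d * g)) * g⁻¹ := by rw [h]
      _ = g * c * g⁻¹ * d := by group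
  -- `R` is Sylow in `C(D)`
  have hidx : ¬ 2 ∣ R.relIndex CD := by
    obtain ⟨T⟩ : Nonempty (Sylow 2 CD) := inferInstance
    set X := (T : Subgroup CD).map CD.subtype with hX
    obtain ⟨w, hw, hwX⟩ := exists_conj_mem (p := 2) ND ((P : Subgroup G) ⊓ ND) X
      (P.isPGroup'.to_le inf_le_left) (T.isPGroup'.map _) inf_le_right
      ((map_subtype_le _).trans hCN) ht.1
    have hcard : Nat.card T ≤ Nat.card R := by
      refine Nat.card_le_card_of_injective
        (fun t => ⟨w⁻¹ * ((t : CD) : G) * w, (hwX _ ⟨t, t.2, rfl⟩).1, by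
          simpa using hconjC w⁻¹ (inv_mem hw) _ (t : CD).2⟩) fun a b hab => ?_
      have h := congrArg Subtype.val hab
      exact Subtype.ext (Subtype.ext (mul_left_cancel (mul_right_cancel h)))
    intro hd
    have h1 : R.relIndex CD * Nat.card R = Nat.card CD := by
      rw [relIndex, ← Nat.card_congr (subgroupOfEquivOfLe (inf_le_right : R ≤ CD)).toEquiv]
      exact (R.subgroupOf CD).index_mul_card
    obtain ⟨i, hi⟩ := IsPGroup.iff_card.mp (P.isPGroup'.to_le (inf_le_left : R ≤ P))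
    have h2 : 2 ^ (i + 1) ∣ Nat.card CD := by
      rw [← h1, hi, pow_succ, mul_comm (2 ^ i)]
      exact Nat.mul_dvd_mul_right hd _
    obtain ⟨T', hT'⟩ := Sylow.exists_subgroup_card_pow_prime 2 h2
    obtain ⟨T₁, hT₁⟩ := (IsPGroup.iff_card.mpr ⟨i + 1, hT'⟩ : IsPGroup 2 T').exists_le_sylow
    have h3 := card_le_of_le hT₁
    rw [hT'] at h3
    have h4 : Nat.card T₁ = Nat.card T := by
      rw [T.card_eq_multiplicity, T₁.card_eq_multiplicity]
    change Nat.card T ≤ _ at hcard
    rw [hi] at hcard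
    have h5 : 2 ^ (i + 1) ≤ 2 ^ i := h3.trans (le_of_eq_of_le h4 hcard)
    exact absurd h5 (not_le.mpr (Nat.pow_lt_pow_right one_lt_two (Nat.lt_succ_self i)))
  obtain ⟨c, hc, hcR⟩ := exists_conj_mem (p := 2) CD R (R.map (MulAut.conj n).toMonoidHom)
    (P.isPGroup'.to_le inf_le_left) ((P.isPGroup'.to_le inf_le_left).map _) inf_le_right
    (by rintro _ ⟨r, hr, rfl⟩; exact hconjC n hn r hr.2) hidx
  refine ⟨c, hc, ND.mul_mem (ND.inv_mem (hCN hc)) hn, mem_normalizer_of_conj_le fun r hr => ?_⟩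
  have := hcR (n * r * n⁻¹) ⟨r, hr, rfl⟩
  simpa [mul_assoc] using this

open CfsgLib.AlperinGroup in
/-- A criterion for weak closure of a central element `y` of a Sylow 2-subgroup `P` of
`G = E⟨y⟩`. -/
theorem weaklyClosed_of_local (E : Subgroup G) [E.Normal] (P : Sylow 2 G) {y : G}
    (hy : y ∈ (P : Subgroup G)) (hcy : ∀ x ∈ (P : Subgroup G), x * y = y * x)
    (hP : (P : Subgroup G) ≤ ((P : Subgroup G) ⊓ E) ⊔ zpowers y) (hG : E ⊔ zpowers y = ⊤)
    (hd : ∀ S₀ : Subgroup G, S₀ ≤ (P : Subgroup G) ⊓ E →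
      (∀ c ∈ E, c ∈ centralizer (S₀ : Set G) → ∀ j : ℕ, c ^ 2 ^ j = 1 → c ∈ S₀) →
      ∀ e ∈ E, e ∈ normalizer (S₀ : Set G) → ∃ k, Odd k ∧ (e⁻¹ * y * e * y⁻¹) ^ k = 1)
    (g : G) (hg : g⁻¹ * y * g ∈ (P : Subgroup G)) : g⁻¹ * y * g = y := by
  haveI : Fact (Nat.Prime 2) := ⟨Nat.prime_two⟩
  suffices main : ∀ (i : ℕ) (Q : Sylow 2 G), Tame P Q →
      Nat.card P - Nat.card ↥((P : Subgroup G) ⊓ (Q : Subgroup G)) = i →
      y ∈ (P : Subgroup G) ⊓ (Q : Subgroup G) →
      ∀ n ∈ normalizer (((P : Subgroup G) ⊓ (Q : Subgroup G) : Subgroup G) : Set G),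
        n⁻¹ * y * n = y by
    have hch := alperin P {y} g (Set.singleton_subset_iff.mpr hy)
      (by rw [Set.image_singleton, Set.singleton_subset_iff]; exact hg)
    exact chain_fix (m := 0) (fun Q ht _ hyD n hn => main _ Q ht rfl hyD n hn) hch rfl (Nat.zero_le _)
  intro i
  induction i using Nat.strong_induction_on with
  | _ i ih =>
  intro Q ht hi hyD n hn
  set D := (P : Subgroup G) ⊓ (Q : Subgroup G) with hD
  set R := (P : Subgroup G) ⊓ centralizer (D : Set G) with hR
  by_cases hRD : R ≤ D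
  · -- the centric case
    set S₀ := D ⊓ E with hS₀
    have hyC : ∀ s ∈ S₀, y * s = s * y := fun s hs => (hcy s hs.1.1).symm
    have hYN : zpowers y ≤ normalizer (((P : Subgroup G) ⊓ E : Subgroup G) : Set G) :=
      zpowers_le.mpr (mem_normalizer_of_conj_le fun s hs => by
        rw [← hcy s hs.1, mul_inv_cancel_right]; exact hs)
    have hDdec : ∀ d ∈ D, ∃ s ∈ S₀, ∃ w ∈ zpowers y, s * w = d := by
      intro d hd'
      obtain ⟨s, hs, w, hw, rfl⟩ := (CfsgLib.Solvable.mem_sup_of_le_normalizer hYN).1 (hP hd'.1)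
      refine ⟨s, ⟨?_, hs.2⟩, w, hw, rfl⟩
      have := D.mul_mem hd' (D.inv_mem (zpowers_le.mpr hyD hw))
      rwa [mul_inv_cancel_right] at this
    have hcentral : ∀ c ∈ E, c ∈ centralizer (S₀ : Set G) → ∀ j : ℕ, c ^ 2 ^ j = 1 → c ∈ S₀ := by
      intro c hcE hcS j hcj
      set C := E ⊓ centralizer (S₀ : Set G) with hC
      have hYC : zpowers y ≤ normalizer (C : Set G) := zpowers_le.mpr
        (mem_normalizer_of_conj_le fun x hx => ⟨(inferInstance : E.Normal).conj_mem x hx.1 y,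
          fun s hs => by
            have h1 : Commute s y := (hyC s hs).symm
            have h2 : Commute s x := hx.2 s hs
            exact ((h1.mul_right h2).mul_right h1.inv_right).eq⟩)
      set N := C ⊔ zpowers y with hN
      obtain ⟨i₀, hi₀⟩ := twoElement_of_mem P.isPGroup' hy
      obtain ⟨T₂, hT₂⟩ := ((isPGroup_zpowers_of_pow hi₀).of_equiv
        (subgroupOfEquivOfLe (le_sup_right : zpowers y ≤ N)).symm).exists_le_sylow
      set T := (T₂ : Subgroup N).map N.subtype ⊓ C with hT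
      have hTp : IsPGroup 2 T := (T₂.isPGroup'.map _).to_le inf_le_left
      have hyT₂ : y ∈ (T₂ : Subgroup N).map N.subtype :=
        ⟨⟨y, mem_sup_right (mem_zpowers y)⟩, hT₂ (mem_subgroupOf.mpr (mem_zpowers y)), rfl⟩
      by_cases hTS : T ≤ S₀
      · obtain ⟨w, hw, hwc⟩ := exists_conj_mem (p := 2) N ((T₂ : Subgroup N).map N.subtype)
          (zpowers c) (T₂.isPGroup'.map _) (isPGroup_zpowers_of_pow hcj) (map_subtype_le _)
          (zpowers_le.mpr (mem_sup_left ⟨hcE, hcS⟩))
          (by rw [relIndex, subgroupOf, comap_map_eq_self_of_injective N.subtype_injective]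
              exact Sylow.not_dvd_index T₂)
        have h1 : w⁻¹ * c * w ∈ T := by
          refine ⟨hwc c (mem_zpowers c), ?_⟩
          have h2 : N ≤ normalizer (C : Set G) := sup_le le_normalizer hYC
          simpa using le_normalizer_iff.mp h2 w⁻¹ (inv_mem hw) c ⟨hcE, hcS⟩
        have hz := hTS h1
        have hcomm : N ≤ centralizer ({w⁻¹ * c * w} : Set G) := sup_le
          (fun x hx => mem_centralizer_singleton_iff.mpr (hx.2 _ hz).symm)
          (zpowers_le.mpr (mem_centralizer_singleton_iff.mpr (hyC _ hz)))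
        have h3 := mem_centralizer_singleton_iff.mp (hcomm hw)
        have h4 : c = w⁻¹ * c * w := by
          calc c = w * (w⁻¹ * c * w) * w⁻¹ := by group
            _ = (w⁻¹ * c * w) * w * w⁻¹ := by rw [h3]
            _ = w⁻¹ * c * w := by group
        rw [h4]; exact hz
      · exfalso
        set Z := T ⊓ S₀ with hZ
        haveI : Fact (Nat.Prime 2) := ⟨Nat.prime_two⟩
        have hyTn : y ∈ normalizer (T : Set G) := inf_normalizer_le_normalizer_inf
          ⟨le_normalizer hyT₂, hYC (mem_zpowers y)⟩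
        have hTp' := hTp
        -- a coset of `Z` in `T` fixed by `y`
        obtain ⟨w, hwT, hwS, hwy⟩ : ∃ w ∈ T, w ∉ S₀ ∧ w⁻¹ * (y * w * y⁻¹) ∈ S₀ := by
          set W := T ⊔ zpowers y with hW
          have hWp : IsPGroup 2 W := (T₂.isPGroup'.map N.subtype).to_le
            (sup_le inf_le_left (zpowers_le.mpr hyT₂))
          have hZn : W ≤ normalizer (Z : Set G) := sup_le
            (fun t ht' => mem_normalizer_of_conj_le fun z hz => by
              rw [← (ht'.2.2 z hz.2), mul_inv_cancel_right]; exact hz)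
            (zpowers_le.mpr (mem_normalizer_of_conj_le fun z hz => by
              rw [hyC z hz.2, mul_inv_cancel_right]; exact hz))
          have : (Z.subgroupOf W).Normal := normal_subgroupOf_of_le_normalizer hZn
          have : (T.subgroupOf W).Normal := normal_subgroupOf_of_le_normalizer
            (sup_le le_normalizer (zpowers_le.mpr hyTn))
          set f := QuotientGroup.mk' (Z.subgroupOf W) with hf
          have : ((T.subgroupOf W).map f).Normal :=
            Normal.map inferInstance _ (QuotientGroup.mk'_surjective _)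
          have hne : (T.subgroupOf W).map f ≠ ⊥ := by
            rw [Ne, Subgroup.map_eq_bot_iff, hf, QuotientGroup.ker_mk']
            exact fun h => hTS fun x hx => (mem_subgroupOf.mp (h (mem_subgroupOf.mpr hx :
              (⟨x, mem_sup_left hx⟩ : W) ∈ T.subgroupOf W))).2
          have hWq : IsPGroup 2 (↥W ⧸ Z.subgroupOf W) := hWp.to_quotient _
          obtain ⟨z, hz, hzne⟩ := CfsgLib.Solvable.exists_ne_one_mem_inf_center_of_normal hWq hne
          obtain ⟨w, hw, rfl⟩ := mem_map.mp hz.1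
          refine ⟨w, mem_subgroupOf.mp hw, fun h => hzne ?_, ?_⟩
          · exact (QuotientGroup.eq_one_iff w).mpr
              (mem_subgroupOf.mpr ⟨mem_subgroupOf.mp hw, h⟩)
          · have h := (mem_center_iff.mp hz.2) (f ⟨y, mem_sup_right (mem_zpowers y)⟩)
            have h2 : f (w⁻¹ * ((⟨y, mem_sup_right (mem_zpowers y)⟩ : W) * w *
                (⟨y, mem_sup_right (mem_zpowers y)⟩ : W)⁻¹)) = 1 := by
              rw [map_mul, map_mul, map_mul, map_inv, map_inv, h]; group
            have h3 := (mem_subgroupOf.mp ((QuotientGroup.eq_one_iff _).mp h2)).2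
            simpa using h3
        have hwC : ∀ s ∈ S₀, s * w = w * s := hwT.2.2
        set z := w⁻¹ * (y * w * y⁻¹) with hz
        have hwyw : w * y * w⁻¹ = z⁻¹ * y := by
          have h1 : y * w = w * z * y := by rw [hz]; group
          have h2 : y = z * (w * y * w⁻¹) := by
            calc y = y * w * w⁻¹ := by group
              _ = w * z * y * w⁻¹ := by rw [h1]
              _ = z * w * y * w⁻¹ := by rw [hwC z hwy]
              _ = _ := by group
          exact eq_inv_mul_of_mul_eq h2.symm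
        have hwN : w ∈ normalizer (D : Set G) := mem_normalizer_of_conj_le fun d hd' => by
          obtain ⟨s, hs, u, hu, rfl⟩ := hDdec d hd'
          obtain ⟨l, rfl⟩ := hu
          have : w * (s * y ^ l) * w⁻¹ = s * (z⁻¹ * y) ^ l := by
            rw [← hwyw, conj_zpow, ← mul_assoc, ← hwC s hs]; group
          rw [this]
          exact D.mul_mem hs.1 (D.zpow_mem (D.mul_mem (D.inv_mem hwy.1) hyD) l)
        obtain ⟨j', hj'⟩ := twoElement_of_mem hTp hwT
        obtain ⟨v, hv, hvw⟩ := exists_conj_mem (p := 2) (normalizer (D : Set G))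
          ((P : Subgroup G) ⊓ normalizer (D : Set G)) (zpowers w) (P.isPGroup'.to_le inf_le_left)
          (isPGroup_zpowers_of_pow hj') inf_le_right (zpowers_le.mpr hwN) ht.1
        have h1 := hvw w (mem_zpowers w)
        have hvS : v ∈ normalizer (S₀ : Set G) := inf_normalizer_le_normalizer_inf
          ⟨hv, by rw [normalizer_eq_top]; trivial⟩
        have h2 : v⁻¹ * w * v ∈ R := by
          refine ⟨h1.1, fun d hd' => ?_⟩
          obtain ⟨s, hs, u, hu, rfl⟩ := hDdec d hd'
          have hA : Commute s (v⁻¹ * w * v) := by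
            have h := hwC (v * s * v⁻¹) ((mem_normalizer_iff.mp hvS s).mp hs)
            show s * (v⁻¹ * w * v) = v⁻¹ * w * v * s
            calc s * (v⁻¹ * w * v) = v⁻¹ * ((v * s * v⁻¹) * w) * v := by group
              _ = v⁻¹ * (w * (v * s * v⁻¹)) * v := by rw [h]
              _ = _ := by group
          have hB : Commute u (v⁻¹ * w * v) := by
            obtain ⟨l, rfl⟩ := hu
            exact (show Commute y (v⁻¹ * w * v) from (hcy _ h1.1).symm).zpow_left l
          exact (hA.mul_left hB).eq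
        have h3 : v⁻¹ * w * v ∈ S₀ := ⟨hRD h2, by
          simpa using (inferInstance : E.Normal).conj_mem w hwT.2.1 v⁻¹⟩
        apply hwS
        have h4 := (mem_normalizer_iff.mp hvS _).mp h3
        simpa [mul_assoc] using h4
    -- reduce to an element of `E`
    have hY : zpowers y ≤ normalizer (E : Set G) := by rw [normalizer_eq_top]; exact le_top
    obtain ⟨e, he, u, hu, rfl⟩ :=
      (CfsgLib.Solvable.mem_sup_of_le_normalizer hY).1 (hG ▸ mem_top n : n ∈ E ⊔ zpowers y)
    obtain ⟨l, rfl⟩ := hu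
    have heD : e ∈ normalizer (D : Set G) := by
      have := mul_mem hn (inv_mem (le_normalizer (zpowers_le.mpr hyD ⟨l, rfl⟩ : y ^ l ∈ D)))
      rwa [mul_inv_cancel_right] at this
    have heS : e ∈ normalizer (S₀ : Set G) := inf_normalizer_le_normalizer_inf
      ⟨heD, by rw [normalizer_eq_top]; trivial⟩
    obtain ⟨k, hk, hdk⟩ := hd S₀ (fun x hx => ⟨hx.1.1, hx.2⟩) hcentral e he heS
    have hd1 : e⁻¹ * y * e * y⁻¹ ∈ D :=
      D.mul_mem ((mem_normalizer_iff''.mp heD y).mp hyD) (D.inv_mem hyD)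
    obtain ⟨j, hj⟩ := twoElement_of_mem P.isPGroup' hd1.1
    have h1 : e⁻¹ * y * e = y := by
      have := eq_one_of_twoElement_of_odd_pow hj hk hdk
      rwa [mul_inv_eq_one] at this
    calc (e * y ^ l)⁻¹ * y * (e * y ^ l) = (y ^ l)⁻¹ * (e⁻¹ * y * e) * y ^ l := by group
      _ = y := by rw [h1]; group
  · -- enlarge
    obtain ⟨c, hc, hn'⟩ := frattini_tame ht hn
    set U := D ⊔ R with hU
    have hnU : c⁻¹ * n ∈ normalizer (U : Set G) := normalizer_inf_normalizer_le_normalizer_sup _ _ hn'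
    have hUP : U ≤ (P : Subgroup G) := sup_le inf_le_left inf_le_left
    have hlt : Nat.card D < Nat.card U := by
      refine lt_of_le_of_ne (card_le_of_le le_sup_left) fun he => hRD ?_
      exact le_sup_right.trans (eq_of_le_of_card_ge le_sup_left he.ge).ge
    have hch := alperin P (U : Set G) (c⁻¹ * n) hUP (by
      rintro _ ⟨a, ha, rfl⟩
      exact hUP ((mem_normalizer_iff''.mp hnU a).mp ha))
    have hfix := chain_fix (y := y) (m := Nat.card U) (fun Q' ht' hm hy' n' hn'' => ih _ (by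
      have := card_le_of_le (inf_le_left : (P : Subgroup G) ⊓ (Q' : Subgroup G) ≤ P)
      change Nat.card ↥((P : Subgroup G) ⊓ (Q' : Subgroup G)) ≤ Nat.card P at this
      omega) Q' ht' rfl hy' n' hn'') hch (mem_sup_left hyD)
      (le_of_eq (Nat.card_coe_set_eq _))
    calc n⁻¹ * y * n = (c⁻¹ * n)⁻¹ * (c⁻¹ * y * c) * (c⁻¹ * n) := by group
      _ = (c⁻¹ * n)⁻¹ * y * (c⁻¹ * n) := by
        rw [show c⁻¹ * y * c = y by rw [mul_assoc, hc y hyD, inv_mul_cancel_left]]
      _ = y := hfix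

/-- A weakly closed 2-element of a Sylow 2-subgroup is central modulo the core. -/
theorem weaklyClosed_central_mod_core : ∀ (m : ℕ) (G : Type u) [Group G] [Finite G] (P : Sylow 2 G)
    (y : G), orderOf y = m → y ∈ (P : Subgroup G) →
    (∀ g : G, g⁻¹ * y * g ∈ (P : Subgroup G) → g⁻¹ * y * g = y) →
    ∀ g : G, y * g * y⁻¹ * g⁻¹ ∈ Cfsg.pPrimeCore 2 G := by
  haveI : Fact (Nat.Prime 2) := ⟨Nat.prime_two⟩
  intro m
  induction m using Nat.strong_induction_on with
  | _ m ih =>
  intro G _ _ P y hm hy hw g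
  set O := Cfsg.pPrimeCore 2 G with hO
  by_cases hy1 : y = 1
  · simp [hy1]
  have hcy : ∀ x ∈ (P : Subgroup G), x * y = y * x := fun x hx => by
    have := hw x ((P : Subgroup G).mul_mem ((P : Subgroup G).mul_mem
      ((P : Subgroup G).inv_mem hx) hy) hx)
    rw [mul_assoc, inv_mul_eq_iff_eq_mul] at this
    exact this.symm
  -- fusion fixes every power of `y`
  have hpow : ∀ (i : ℕ) (g : G), g⁻¹ * y ^ i * g ∈ (P : Subgroup G) → g⁻¹ * y ^ i * g = y ^ i := by
    intro i g hg
    have hch := CfsgLib.AlperinGroup.alperin P {y ^ i} g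
      (Set.singleton_subset_iff.mpr (pow_mem hy i))
      (by rw [Set.image_singleton, Set.singleton_subset_iff]; exact hg)
    refine chain_fix (m := 0) (fun Q ht _ hyD n hn => ?_) hch rfl (Nat.zero_le _)
    obtain ⟨c, hc, hn'⟩ := frattini_tame ht hn
    have hyR : y ∈ (P : Subgroup G) ⊓
        centralizer (((P : Subgroup G) ⊓ (Q : Subgroup G) : Subgroup G) : Set G) :=
      ⟨hy, fun d hd => hcy d hd.1⟩
    have h1 : (c⁻¹ * n)⁻¹ * y * (c⁻¹ * n) = y :=
      hw _ ((mem_normalizer_iff''.mp hn'.2 y).mp hyR).1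
    have h2 : (c⁻¹ * n)⁻¹ * y ^ i * (c⁻¹ * n) = y ^ i := by
      calc (c⁻¹ * n)⁻¹ * y ^ i * (c⁻¹ * n)
          = ((c⁻¹ * n)⁻¹ * y * ((c⁻¹ * n)⁻¹)⁻¹) ^ i := by rw [conj_pow, inv_inv]
        _ = y ^ i := by rw [inv_inv, h1]
    calc n⁻¹ * y ^ i * n = (c⁻¹ * n)⁻¹ * (c⁻¹ * y ^ i * c) * (c⁻¹ * n) := by group
      _ = y ^ i := by
        rw [show c⁻¹ * y ^ i * c = y ^ i by rw [mul_assoc, hc _ hyD, inv_mul_cancel_left], h2]
  obtain ⟨j, hj⟩ := twoElement_of_mem P.isPGroup' hy
  obtain ⟨a, -, ha⟩ := (Nat.dvd_prime_pow Nat.prime_two).mp (orderOf_dvd_of_pow_eq_one hj)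
  obtain ⟨b, rfl⟩ : ∃ b, a = b + 1 := by
    refine Nat.exists_eq_succ_of_ne_zero fun h => hy1 (orderOf_eq_one_iff.mp ?_)
    rw [ha, h, pow_zero]
  set z := y ^ 2 ^ b with hz
  have hz2 : orderOf z = 2 := by
    refine orderOf_eq_prime ?_ ?_
    · rw [hz, ← pow_mul, ← pow_succ, ← ha, pow_orderOf_eq_one]
    · rw [hz]
      refine pow_ne_one_of_lt_orderOf (Nat.two_pow_pos b).ne' ?_
      rw [ha]
      exact Nat.pow_lt_pow_right one_lt_two (Nat.lt_succ_self b)
  obtain ⟨Nz, hNn, hNodd, hNz⟩ := CfsgLib.Invol.zStar_sylow P z hz2 fun g hg => by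
    have := hpow (2 ^ b) g⁻¹ (by rw [inv_inv, ← hz]; exact hg)
    rwa [inv_inv, ← hz] at this
  have hNO : Nz ≤ O := le_pPrimeCore_of_normal hNn (Nat.coprime_two_right.mpr hNodd)
  -- conjugates of `y` in `P O`
  have hweak : ∀ g : G, g⁻¹ * y * g ∈ (P : Subgroup G) ⊔ O → g⁻¹ * y * g * y⁻¹ ∈ O := by
    intro g hg
    have hPO : (P : Subgroup G) ≤ normalizer (O : Set G) := by rw [normalizer_eq_top]; exact le_top
    obtain ⟨w, hw', hwy⟩ := CfsgLib.AlperinGroup.exists_conj_mem (p := 2) ((P : Subgroup G) ⊔ O)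
      (P : Subgroup G) (zpowers (g⁻¹ * y * g)) P.isPGroup'
      (isPGroup_zpowers_of_pow (j := j) (by
        have : (g⁻¹ * y * g) ^ 2 ^ j = g⁻¹ * y ^ 2 ^ j * g := by simpa using conj_pow (a := g⁻¹) (b := y) (i := 2 ^ j)
        rw [this, hj]; group))
      le_sup_left (zpowers_le.mpr hg)
      (fun h => Sylow.not_dvd_index P (h.trans (relIndex_dvd_index_of_le le_sup_left)))
    have h1 := hwy _ (mem_zpowers _)
    have h2 : w⁻¹ * (g⁻¹ * y * g) * w = y := by
      have := hw (g * w) (by simpa [mul_assoc] using h1)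
      simpa [mul_assoc] using this
    rw [sup_comm] at hw'
    obtain ⟨o, ho, q, hq, rfl⟩ := (CfsgLib.Solvable.mem_sup_of_le_normalizer hPO).1 hw'
    have h3 : g⁻¹ * y * g = o * y * o⁻¹ := by
      calc g⁻¹ * y * g = (o * q) * ((o * q)⁻¹ * (g⁻¹ * y * g) * (o * q)) * (o * q)⁻¹ := by group
        _ = o * (q * y * q⁻¹) * o⁻¹ := by rw [h2]; group
        _ = _ := by rw [hcy q hq, mul_inv_cancel_right]
    rw [h3, show o * y * o⁻¹ * y⁻¹ = o * (y * o⁻¹ * y⁻¹) by group]
    exact mul_mem ho ((inferInstance : O.Normal).conj_mem _ (inv_mem ho) y)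
  -- pass to `G / O⟨z⟩`
  set q := QuotientGroup.mk' O with hq
  set zb := q z with hzb
  have hzbc : zb ∈ center (G ⧸ O) := by
    rw [mem_center_iff]
    intro x
    obtain ⟨x, rfl⟩ := QuotientGroup.mk'_surjective O x
    have h : q (z * x * z⁻¹ * x⁻¹) = 1 := (QuotientGroup.eq_one_iff _).mpr (hNO (hNz x))
    rw [map_mul, map_mul, map_mul, map_inv, map_inv, mul_inv_eq_one, mul_inv_eq_iff_eq_mul] at h
    exact h.symm
  set Z := zpowers zb with hZ
  haveI hZn : Z.Normal := ⟨fun x hx h => by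
    rw [mem_center_iff.mp ((zpowers_le.mpr hzbc) hx) h, mul_inv_cancel_right]; exact hx⟩
  set f : G →* (G ⧸ O) ⧸ Z := (QuotientGroup.mk' Z).comp q with hf
  have hfs : Function.Surjective f :=
    (QuotientGroup.mk'_surjective Z).comp (QuotientGroup.mk'_surjective O)
  have hker : ∀ k : G, f k = 1 ↔ ∃ i : ℤ, z ^ i * k ∈ O := by
    intro k
    show (QuotientGroup.mk' Z) (q k) = 1 ↔ _
    rw [QuotientGroup.mk'_apply, QuotientGroup.eq_one_iff]
    constructor
    · rintro ⟨i, hi⟩
      refine ⟨-i, (QuotientGroup.eq_one_iff _).mp ?_⟩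
      show q (z ^ (-i) * k) = 1
      rw [map_mul, map_zpow, ← hzb, ← hi, ← zpow_add, neg_add_cancel, zpow_zero]
    · rintro ⟨i, hi⟩
      refine ⟨-i, ?_⟩
      have h : q (z ^ i * k) = 1 := (QuotientGroup.eq_one_iff _).mpr hi
      rw [map_mul, map_zpow, ← hzb] at h
      show zb ^ (-i) = q k
      rw [zpow_neg, inv_eq_of_mul_eq_one_right h]
  -- the core of the quotient is trivial
  have hcore : Cfsg.pPrimeCore 2 ((G ⧸ O) ⧸ Z) = ⊥ := by
    set M := (Cfsg.pPrimeCore 2 ((G ⧸ O) ⧸ Z)).comap (QuotientGroup.mk' Z) with hM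
    have hZM : Z ≤ M := fun x hx => by
      rw [hM, mem_comap, QuotientGroup.mk'_apply, (QuotientGroup.eq_one_iff x).mpr hx]
      exact one_mem _
    have hO' : Cfsg.pPrimeCore 2 (G ⧸ O) = ⊥ :=
      CfsgLib.PLoc.pPrimeCore_quotient_eq_bot (QuotientGroup.mk'_surjective O)
        (QuotientGroup.ker_mk' O)
    have hidx : Odd (Z.relIndex M) := by
      rw [relIndex, ← Nat.coprime_two_right]
      have he : (Z.subgroupOf M).index = Nat.card (Cfsg.pPrimeCore 2 ((G ⧸ O) ⧸ Z)) := by
        have hsurj : Function.Surjective ((QuotientGroup.mk' Z).subgroupComap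
            (Cfsg.pPrimeCore 2 ((G ⧸ O) ⧸ Z))) :=
          MonoidHom.subgroupComap_surjective_of_surjective _ _ (QuotientGroup.mk'_surjective Z)
        rw [← Nat.card_congr (QuotientGroup.quotientKerEquivOfSurjective _ hsurj).toEquiv,
          ← index_eq_card]
        congr 1
        ext x
        rw [mem_subgroupOf, MonoidHom.mem_ker]
        constructor
        · intro h; exact Subtype.ext ((QuotientGroup.eq_one_iff _).mpr h)
        · intro h; exact (QuotientGroup.eq_one_iff _).mp (congrArg Subtype.val h)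
      rw [he]
      exact coprime_card_pPrimeCore 2
    set r := Z.relIndex M with hr
    have hcen : Z.subgroupOf M ≤ center M := fun x hx => mem_center_iff.mpr fun d =>
      Subtype.ext (mem_center_iff.mp ((zpowers_le.mpr hzbc) (mem_subgroupOf.mp hx)) d)
    have hdvd : (center M).index ∣ r := index_dvd_of_le hcen
    set K : Subgroup (G ⧸ O) :=
      { carrier := {x | x ∈ M ∧ x ^ r = 1}
        one_mem' := ⟨one_mem _, one_pow _⟩
        mul_mem' := fun {a b} ha hb => ⟨mul_mem ha.1 hb.1, by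
          have h : (a * b) ^ r = a ^ r * b ^ r := congrArg Subtype.val
            (mul_pow_of_index_dvd hdvd (⟨a, ha.1⟩ : M) ⟨b, hb.1⟩).1
          rw [h, ha.2, hb.2, one_mul]⟩
        inv_mem' := fun {a} ha => ⟨inv_mem ha.1, by rw [inv_pow, ha.2, inv_one]⟩ } with hK
    have hKn : K.Normal := ⟨fun x hx h => ⟨(inferInstance : M.Normal).conj_mem x hx.1 h, by
      rw [conj_pow, hx.2, mul_one, mul_inv_cancel]⟩⟩
    have hKodd : (Nat.card K).Coprime 2 := by
      rw [Nat.coprime_two_right, ← Nat.not_even_iff_odd, even_iff_two_dvd]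
      intro hd
      obtain ⟨x, hx⟩ := exists_prime_orderOf_dvd_card' 2 hd
      have hxr : x ^ r = 1 := Subtype.ext (by simpa using x.2.2)
      have := orderOf_dvd_of_pow_eq_one hxr
      rw [hx] at this
      exact (Nat.not_even_iff_odd.mpr hidx) (even_iff_two_dvd.mpr this)
    have hKb : K = ⊥ := le_bot_iff.mp ((le_pPrimeCore_of_normal hKn hKodd).trans hO'.le)
    refine (eq_bot_iff_forall _).mpr fun x hx => ?_
    obtain ⟨x, rfl⟩ := QuotientGroup.mk'_surjective Z x
    have hxM : x ∈ M := hx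
    have h2r : x ^ (2 * r) = 1 := by
      have hxr : x ^ r ∈ Z := by
        have h1 : (⟨x, hxM⟩ : M) ^ r ∈ Z.subgroupOf M :=
          haveI : (Z.subgroupOf M).Normal := Normal.subgroupOf hZn M
          pow_index_mem (Z.subgroupOf M) _
        simpa [mem_subgroupOf] using h1
      rw [mul_comm, pow_mul]
      refine orderOf_dvd_iff_pow_eq_one.mp ((Subgroup.orderOf_dvd_natCard Z hxr).trans ?_)
      rw [hZ, Nat.card_zpowers]
      exact (orderOf_map_dvd q z).trans (dvd_of_eq hz2)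
    rw [pow_mul] at h2r
    have hxK : x ^ 2 ∈ K := ⟨pow_mem hxM 2, h2r⟩
    rw [hKb, mem_bot] at hxK
    obtain ⟨t, ht⟩ := hidx
    have hxe : x ^ r = x := by rw [ht, pow_succ, pow_mul, hxK, one_pow, one_mul]
    rw [QuotientGroup.mk'_apply, QuotientGroup.eq_one_iff, ← hxe]
    have h1 : (⟨x, hxM⟩ : M) ^ r ∈ Z.subgroupOf M :=
      haveI : (Z.subgroupOf M).Normal := Normal.subgroupOf hZn M
      pow_index_mem (Z.subgroupOf M) _
    simpa [mem_subgroupOf] using h1
  -- the image of `y`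
  have hzP : z ∈ (P : Subgroup G) := pow_mem hy _
  set P' := P.mapSurjective hfs with hP'
  have hlt : orderOf (f y) < m := by
    have h : f y ^ 2 ^ b = 1 := by
      rw [← map_pow, hker]
      exact ⟨-1, by rw [← hz, zpow_neg_one, inv_mul_cancel]; exact one_mem _⟩
    have h2 := Nat.le_of_dvd (Nat.two_pow_pos b) (orderOf_dvd_of_pow_eq_one h)
    rw [← hm, ha]
    exact lt_of_le_of_lt h2 (Nat.pow_lt_pow_right one_lt_two (Nat.lt_succ_self b))
  have hyP' : f y ∈ (P' : Subgroup ((G ⧸ O) ⧸ Z)) := by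
    rw [hP', Sylow.coe_mapSurjective]; exact ⟨y, hy, rfl⟩
  have hw' : ∀ gb : (G ⧸ O) ⧸ Z, gb⁻¹ * f y * gb ∈ (P' : Subgroup ((G ⧸ O) ⧸ Z)) →
      gb⁻¹ * f y * gb = f y := by
    intro gb hgb
    obtain ⟨g, rfl⟩ := hfs gb
    rw [hP', Sylow.coe_mapSurjective] at hgb
    obtain ⟨v, hv, hve⟩ := hgb
    have h : g⁻¹ * y * g ∈ (P : Subgroup G) ⊔ O := by
      have hk : f (v⁻¹ * (g⁻¹ * y * g)) = 1 := by simp [hve, mul_assoc]
      obtain ⟨i, hi⟩ := (hker _).mp hk
      have : g⁻¹ * y * g = (z ^ i * v⁻¹)⁻¹ * (z ^ i * (v⁻¹ * (g⁻¹ * y * g))) := by group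
      rw [this]
      exact mul_mem_sup (inv_mem (mul_mem (zpow_mem hzP i) (inv_mem hv))) hi
    have h1 : f (g⁻¹ * y * g * y⁻¹) = 1 := (hker _).mpr ⟨0, by simpa using hweak g h⟩
    rw [map_mul, map_inv, mul_inv_eq_one] at h1
    simpa using h1
  have hfy := ih _ hlt ((G ⧸ O) ⧸ Z) P' (f y) rfl hyP' hw'
  have hcomm : ∀ g : G, g⁻¹ * y * g ∈ (P : Subgroup G) ⊔ O := by
    intro g
    have h := hfy (f g⁻¹)
    rw [hcore, mem_bot] at h
    have hk : f (y⁻¹ * (g⁻¹ * y * g)) = 1 := by
      have h' : f y * f g⁻¹ * (f y)⁻¹ * (f g⁻¹)⁻¹ = 1 := h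
      rw [map_inv, inv_inv, mul_eq_one_iff_eq_inv, mul_inv_eq_iff_eq_mul] at h'
      simp only [map_mul, map_inv]
      rw [← h']
      group
    obtain ⟨i, hi⟩ := (hker _).mp hk
    have : g⁻¹ * y * g = (z ^ i * y⁻¹)⁻¹ * (z ^ i * (y⁻¹ * (g⁻¹ * y * g))) := by group
    rw [this]
    exact mul_mem_sup (inv_mem (mul_mem (zpow_mem hzP i) (inv_mem hy))) hi
  have h := hweak g⁻¹ (hcomm g⁻¹)
  rw [inv_inv] at h
  have h2 := inv_mem h
  simpa [mul_assoc] using h2

end CfsgLib.Components
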